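import Cfsg.Agent.H65.UnivE
import Cfsg.Agent.S1077
import Cfsg.Agent.S1078
import Cfsg.Agent.S1079
set_option linter.all false

/-!
# The Schur multipliers of `E₆(q)`, `E₇(q)`, `E₈(q)` and of Steinberg's groups of these types (helper65)
-/

set_option autoImplicit false

namespace Cfsg.Agent.H65.MultE

open Cfsg.Lie Cfsg.Agent.ChevalleyStructure.Elts Cfsg.Agent.ChevalleyStructure Cfsg.Agent.H65.UnivE

universe u

variable {D : ChevalleyDatum} {l : ℕ} {M : CoxeterMatrix (Fin l)} {K : Type u} [Field K]

/-- the kernel of `theta` is the center -/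
theorem ker_theta (hD : InList D) : (StTheta.theta hD K).ker = Subgroup.center (D.SteinbergGroup K) := by
  obtain ⟨θ, -, h2, h3⟩ := Cfsg.Agent.S1077.result (K := K) D hD
  have : θ = StTheta.theta hD K := by
    have : ∀ g : D.SteinbergGroup K, g ∈ MonoidHom.eqLocus θ (StTheta.theta hD K) := by
      intro g
      refine St.Rels.mem_of_gens _ ?_ g
      intro r hr t
      show θ _ = StTheta.theta hD K _
      apply Subtype.ext
      apply Units.ext
      rw [h3 r t hr, StTheta.theta_stGen]
    exact MonoidHom.ext this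
  rw [← this, h2]

theorem finite_St (hD : InList D) [Finite K] (hc : Nat.card (Subgroup.center (D.SteinbergGroup K)) ≠ 0) :
    Finite (D.SteinbergGroup K) := by
  have h1 : Finite (StTheta.theta hD K).ker := by
    rw [ker_theta hD]
    exact Nat.finite_of_card_ne_zero hc
  exact (StTheta.theta hD K).finite_iff_finite_ker_range.2 ⟨h1, inferInstance⟩

theorem gcd_prime_cyclic {G : Type*} [Group G] {p n : ℕ} (hp : p.Prime) (hG : Nat.card G = Nat.gcd p n) :
    IsCyclic G := by
  rcases (Nat.dvd_prime hp).1 (Nat.gcd_dvd_left p n) with h | h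
  · rw [h] at hG
    have : Subsingleton G := (Nat.card_eq_one_iff_unique.1 hG).1
    exact isCyclic_of_subsingleton
  · rw [h] at hG
    have : Fact p.Prime := ⟨hp⟩
    exact isCyclic_of_prime_card hG

/-- **Types `E₆`, `E₇`**: the multiplier of the adjoint group and of Steinberg's group. -/
theorem main {k₀ r₀ : ℕ} (T : Typ D l M k₀ r₀) [Finite K] {p n : ℕ} (hp : p.Prime) (hn : Nat.card (Subgroup.center (D.SteinbergGroup K)) =
    Nat.gcd p n) : Cfsg.HasCyclicSchurMultiplier ↥(D.group K) (Nat.gcd p n) ∧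
      Cfsg.HasCyclicSchurMultiplier (D.SteinbergGroup K) 1 := by
  have h0 : Nat.card (Subgroup.center (D.SteinbergGroup K)) ≠ 0 := by
    rw [hn]
    exact (Nat.gcd_pos_of_pos_left _ hp.pos).ne'
  have : Finite (D.SteinbergGroup K) := finite_St T.hp.inList h0
  have hk := ker_theta (K := K) T.hp.inList
  constructor
  · refine UCover.hasCyclic (θ := StTheta.theta T.hp.inList K) (StTheta.theta_surjective T.hp.inList) hk.le
      (T.perfect K) T.factors (gcd_prime_cyclic hp (n := n) (by rw [hk, hn])) (by rw [hk, hn])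
  · exact UCover.trivial (θ := StTheta.theta T.hp.inList K) (StTheta.theta_surjective T.hp.inList) hk.le
      (T.perfect K) T.factors

theorem multE6 (K : Type u) [Field K] [Fintype K] {q : ℕ} (hq : Fintype.card K = q) :
    Cfsg.HasCyclicSchurMultiplier ↥(chevE6.group K) (Nat.gcd 3 (q - 1)) ∧
      Cfsg.HasCyclicSchurMultiplier (chevE6.SteinbergGroup K) 1 :=
  main typE6 Nat.prime_three (Cfsg.Agent.S1079.result hq (chevE6, 3) (by simp))

theorem multE7 (K : Type u) [Field K] [Fintype K] {q : ℕ} (hq : Fintype.card K = q) :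
    Cfsg.HasCyclicSchurMultiplier ↥(chevE7.group K) (Nat.gcd 2 (q - 1)) ∧
      Cfsg.HasCyclicSchurMultiplier (chevE7.SteinbergGroup K) 1 :=
  main typE7 Nat.prime_two (Cfsg.Agent.S1079.result hq (chevE7, 2) (by simp))

theorem multE8 (K : Type u) [Field K] [Fintype K] : Cfsg.HasCyclicSchurMultiplier ↥(chevE8.group K) 1 ∧
      Cfsg.HasCyclicSchurMultiplier (chevE8.SteinbergGroup K) 1 := by
  have h := main (K := K) typE8 Nat.prime_two (n := 1) (by
    rw [Cfsg.Agent.S1078.result chevE8 (by simp), Subgroup.card_bot]; rfl)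
  exact h

end Cfsg.Agent.H65.MultE
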