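import Cfsg.Agent.H952.F4.Scott_m3
import Cfsg.Agent.GpExc.Field
import Cfsg.Agent.H593.RobinsonRank
import Mathlib
import Cfsg.Agent.H952.F4.Jord
import Cfsg.Agent.Prune
set_option linter.all false

section
prune_inst 0x7ffca9fbabfcbbdfffff7e7fa6decffc39911fffa6fffd4bffe861ff2b9f378a0dc56bad89e010fe1fd7e21410b87843fbffeeffea6bdc7ffffd5ff41ffbee5ff5f7b50851de8cb40fbc6ff783f0778e7f3fffffffffffffffffffffffffffaeffbfffffffff

-- part: H952/F4/Chg
section
prune_inst 0x31404500240200000018051010003c62ea000400000b000009e008440c810c0320010661b2f0000201929cf46039004001100000422000000a000000011800a0800212001200a104200081808000000000000000000000000000000000010000000000000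
set_option linter.all false
open scoped Cfsg.Agent.FastGrp

/-!
# Change of fields: eigenspaces and traces on the two modules of `F₄` (S5926, F-E1)
-/

set_option autoImplicit false

namespace Cfsg.Agent.H815.F4Chg

open Cfsg Cfsg.Lie Module Cfsg.Agent.H952.F4
open Cfsg.Agent.ChevalleyStructure Cfsg.Agent.ChevalleyStructure.Elts
open Cfsg.Agent.ChevalleyStructure.E6Min.Tables Cfsg.Agent.ChevalleyStructure.E6Min.Basic
open Cfsg.Agent.GpExc.Field (emb glMap coe_emb coe_glMap)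

universe u

section gen

variable {F K : Type*} [Field F] [Field K] {n : Type*} [Fintype n] [DecidableEq n]

theorem ev_toLin (A : Matrix n n F) (μ : F) : ev (Matrix.toLin' A) μ + (A - μ • (1 : Matrix n n F)).rank = Fintype.card n := by
  have h1 : Module.End.eigenspace (Matrix.toLin' A) μ = LinearMap.ker (Matrix.toLin' (A - μ • (1 : Matrix n n F))) := by
    rw [Module.End.eigenspace_def]
    congr 1
    rw [map_sub, map_smul, Matrix.toLin'_one]
    rfl
  have h2 := LinearMap.finrank_range_add_finrank_ker (Matrix.toLin' (A - μ • (1 : Matrix n n F)))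
  rw [Module.finrank_fintype_fun_eq_card] at h2
  rw [← h2, ev, h1, add_comm]
  rfl

theorem ev_map (f : F →+* K) (A : Matrix n n F) (μ : F) :
    ev (Matrix.toLin' (A.map f)) (f μ) = ev (Matrix.toLin' A) μ := by
  have h1 := ev_toLin A μ
  have h2 := ev_toLin (A.map f) (f μ)
  have h3 : A.map f - f μ • (1 : Matrix n n K) = (A - μ • (1 : Matrix n n F)).map f := by
    ext i j
    simp [Matrix.one_apply, apply_ite f]
  rw [h3, H593.RobinsonRank.rank_map] at h2
  omega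

theorem trace_map (f : F →+* K) (A : Matrix n n F) :
    LinearMap.trace K _ (Matrix.toLin' (A.map f)) = f (LinearMap.trace F _ (Matrix.toLin' A)) := by
  rw [Matrix.trace_toLin'_eq, Matrix.trace_toLin'_eq]
  simp [Matrix.trace, map_sum]

end gen

variable {F K : Type u} [Field F] [Field K] (f : F →+* K)

theorem zM_map (r : ℕ) (t : F) : (zM r t).map f = zM r (f t) := by
  ext x y
  simp only [zM_def, Matrix.map_apply, Matrix.add_apply, Matrix.smul_apply, Nm_apply, Matrix.one_apply, map_add,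
    smul_eq_mul, map_mul, apply_ite f, map_one, map_zero, map_intCast]

theorem yM_map (r : ℕ) (t : F) : (yM r t).map f = yM r (f t) := by
  have key : ∀ l : List (ℕ × ℤ), ((l.map fun e => zM e.1 (((e.2 : ℤ) : F) * t)).prod).map f =
      (l.map fun e => zM e.1 (((e.2 : ℤ) : K) * f t)).prod := by
    intro l
    induction l with
    | nil =>
      simp only [List.map_nil, List.prod_nil]
      exact Matrix.map_one f (map_zero f) (map_one f)
    | cons a l ih =>
      simp only [List.map_cons, List.prod_cons]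
      rw [Matrix.map_mul, ih, zM_map, map_mul, map_intCast]
  exact key _

theorem J_map {ρ : ↥(chevF4.group F) →* GL I27 F} {ρ' : ↥(chevF4.group K) →* GL I27 K} (h : IsJ ρ) (h' : IsJ ρ')
    (g : ↥(chevF4.group F)) :
    ((ρ' (emb hF4 f g) : GL I27 K) : Matrix I27 I27 K) = ((ρ g : GL I27 F) : Matrix I27 I27 F).map f := by
  let S : Subgroup ↥(chevF4.group F) :=
    { carrier := {g | ρ' (emb hF4 f g) = Matrix.GeneralLinearGroup.map f (ρ g)}
      one_mem' := by simp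
      mul_mem' := by
        intro a b ha hb
        show ρ' (emb hF4 f (a * b)) = _
        rw [map_mul, map_mul, ha, hb, map_mul, map_mul]
      inv_mem' := by
        intro a ha
        show ρ' (emb hF4 f a⁻¹) = _
        rw [map_inv, map_inv, ha, map_inv, map_inv] }
  have h1 : chevF4.group F ≤ S.map (chevF4.group F).subtype := by
    rw [group_le_iff hF4]
    intro r hr t
    refine ⟨⟨xG hF4 r t, xG_mem_group hF4 r t⟩, ?_, rfl⟩
    show ρ' _ = _
    apply Units.ext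
    have e1 := h ⟨r, hr⟩ t ⟨xG hF4 r t, xG_mem_group hF4 r t⟩ (by
      show ((xG hF4 r t : GL chevF4.Idx F) : Matrix chevF4.Idx chevF4.Idx F) = _
      rw [coe_xG, x_of_lt hr])
    have e2 := h' ⟨r, hr⟩ (f t) (emb hF4 f ⟨xG hF4 r t, xG_mem_group hF4 r t⟩) (by
      rw [coe_emb]
      show ((glMap chevF4 f (xG hF4 r t) : GL chevF4.Idx K) : Matrix chevF4.Idx chevF4.Idx K) = _
      rw [Cfsg.Agent.GpExc.Field.glMap_xG, coe_xG, x_of_lt hr])
    rw [e2]
    show _ = ((ρ _ : GL I27 F) : Matrix I27 I27 F).map f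
    rw [e1, yM_map]
  obtain ⟨g', hg', hgg⟩ := h1 g.2
  have h2 : g' = g := Subtype.ext hgg
  rw [h2] at hg'
  have h3 : ρ' (emb hF4 f g) = Matrix.GeneralLinearGroup.map f (ρ g) := hg'
  rw [h3]
  rfl

end Cfsg.Agent.H815.F4Chg

namespace Cfsg.Agent.H952.F4.Chg

open Cfsg Cfsg.Lie Module
open Cfsg.Agent.ChevalleyStructure.E6Min.Tables
open Cfsg.Agent.GpExc.Field (emb)

universe u

variable {F K : Type u} [Field F] [Field K] (f : F →+* K)

theorem ev_L (g : ↥(chevF4.group F)) (μ : F) : ev (LK K (emb hF4 f g)) (f μ) = ev (LK F g) μ :=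
  H815.F4Chg.ev_map f ((g : GL chevF4.Idx F) : Matrix chevF4.Idx chevF4.Idx F) μ

theorem trace_L (g : ↥(chevF4.group F)) :
    LinearMap.trace K _ (LK K (emb hF4 f g)) = f (LinearMap.trace F _ (LK F g)) :=
  H815.F4Chg.trace_map f ((g : GL chevF4.Idx F) : Matrix chevF4.Idx chevF4.Idx F)

theorem ev_J {ρ : ↥(chevF4.group F) →* GL I27 F} {ρ' : ↥(chevF4.group K) →* GL I27 K} (h : IsJ ρ) (h' : IsJ ρ')
    (g : ↥(chevF4.group F)) (μ : F) : ev (JK ρ' (emb hF4 f g)) (f μ) = ev (JK ρ g) μ := by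
  have h1 : JK ρ' (emb hF4 f g) = Matrix.toLin' (((ρ g : GL I27 F) : Matrix I27 I27 F).map f) := by
    rw [← H815.F4Chg.J_map f h h' g]
    rfl
  rw [h1]
  exact H815.F4Chg.ev_map f _ μ

theorem trace_J {ρ : ↥(chevF4.group F) →* GL I27 F} {ρ' : ↥(chevF4.group K) →* GL I27 K} (h : IsJ ρ) (h' : IsJ ρ')
    (g : ↥(chevF4.group F)) :
    LinearMap.trace K _ (JK ρ' (emb hF4 f g)) = f (LinearMap.trace F _ (JK ρ g)) := by
  have h1 : JK ρ' (emb hF4 f g) = Matrix.toLin' (((ρ g : GL I27 F) : Matrix I27 I27 F).map f) := by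
    rw [← H815.F4Chg.J_map f h h' g]
    rfl
  rw [h1]
  exact H815.F4Chg.trace_map f _

end Cfsg.Agent.H952.F4.Chg

private theorem dce_f4a0f7eebb21 : _root_.True := by
  try have : _root_.True := by simp only [_root_.Cfsg.Agent.H952.F4.ev.eq_1]
  try have : _root_.True := by simp only [_root_.Cfsg.Agent.GpExc.Field.emb.congr_simp]
  exact _root_.True.intro
end

-- part: H65/E6Inv
section
prune_inst 0x10000000000000
set_option linter.all false
open scoped Cfsg.Agent.FastGrp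

/-!
# S5927: the invariants of the adjoint module of `E₆` and of its dual (helper65)
-/

set_option autoImplicit false

namespace Cfsg.Agent.H65.E6Inv

open Cfsg Cfsg.Lie Module
open Cfsg.Agent.ChevalleyStructure.E6Min.Tables Cfsg.Agent.ChevalleyStructure.E6Min.Basic
  Cfsg.Agent.ChevalleyStructure.E6Min.Adjoint
open Cfsg.Agent.H163.E6
open scoped Matrix

universe u

variable {K : Type u} [Field K]

theorem matRep_apply {n : Type*} [Fintype n] [DecidableEq n] (H : Subgroup (GL n K)) (g : ↥H) (v : n → K) :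
    Cfsg.Agent.H952.F4.matRep H g v = (((g : GL n K) : Matrix n n K)) *ᵥ v := rfl

theorem LK_apply (g : ↥(chevE6.group K)) (v : chevE6.Idx → K) :
    LK K g v = (((g : GL chevE6.Idx K) : Matrix chevE6.Idx chevE6.Idx K)) *ᵥ v :=
  matRep_apply (chevE6.group K) g v

/-- the root element `x_r(t)` as an element of the group -/
noncomputable def xg (r : Fin chevE6.nroots) (t : K) : ↥(chevE6.group K) := ⟨xU r t, xU_mem r t⟩

theorem coe_xg (r : Fin chevE6.nroots) (t : K) :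
    (((xg r t : ↥(chevE6.group K)) : GL chevE6.Idx K) : Matrix chevE6.Idx chevE6.Idx K) = chevE6.xMat K r t := rfl

/-- the index of the negative -/
def ng (r : Fin chevE6.nroots) : Fin chevE6.nroots := ⟨71 - r.val, by
  have : chevE6.nroots = 72 := rfl
  omega⟩

theorem ng_val (r : Fin chevE6.nroots) : (ng r).val = chevE6.negIdx.getD r.val 0 := (neg_eq r.isLt).symm

theorem ng_ng (r : Fin chevE6.nroots) : ng (ng r) = r := by
  apply Fin.ext
  show 71 - (71 - r.val) = r.val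
  have : r.val < 72 := r.isLt
  omega

theorem ng_ne (r : Fin chevE6.nroots) : ng r ≠ r := by
  intro h
  have h1 : 71 - r.val = r.val := congrArg Fin.val h
  have : r.val < 72 := r.isLt
  omega

/-- the coefficient `c_i(r)` of the coroot -/
def co (r : Fin chevE6.nroots) (i : Fin chevE6.rank) : ℤ := (chevE6.coroot.getD r.val #[]).getD i.val 0

/-- the Cartan integer `A_{i,r}` -/
def ca (i : Fin chevE6.rank) (r : Fin chevE6.nroots) : ℤ := (chevE6.cartanSR.getD i.val #[]).getD r.val 0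

theorem xMat_ll (r : Fin chevE6.nroots) (t : K) (i' i : Fin chevE6.rank) :
    chevE6.xMat K r t (Sum.inl i') (Sum.inl i) = if i' = i then 1 else 0 := rfl

theorem xMat_rl (r : Fin chevE6.nroots) (t : K) (s : Fin chevE6.nroots) (i : Fin chevE6.rank) :
    chevE6.xMat K r t (Sum.inr s) (Sum.inl i) = if s = r then -((ca i r : ℤ) : K) * t else 0 := rfl

theorem xMat_lr (r : Fin chevE6.nroots) (t : K) (i : Fin chevE6.rank) (s : Fin chevE6.nroots) :
    chevE6.xMat K r t (Sum.inl i) (Sum.inr s) = if s = ng r then ((co r i : ℤ) : K) * t else 0 := by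
  show (if s = r then (0 : K) else if s.val = chevE6.negIdx.getD r.val 0 then ((co r i : ℤ) : K) * t else 0) = _
  rw [← ng_val]
  by_cases h1 : s = r
  · rw [if_pos h1, if_neg fun h => ng_ne r (h.symm.trans h1)]
  · rw [if_neg h1]
    by_cases h2 : s = ng r
    · rw [if_pos h2, if_pos (by rw [h2])]
    · rw [if_neg h2, if_neg fun h => h2 (Fin.ext h)]

theorem cast_ne {n : ℤ} (h : n = 1 ∨ n = -1) : ((n : ℤ) : K) ≠ 0 := by
  rcases h with h | h
  · rw [h, Int.cast_one]; exact one_ne_zero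
  · rw [h, Int.cast_neg, Int.cast_one]; exact neg_ne_zero.2 one_ne_zero

theorem co_one : ∀ r : Fin chevE6.nroots, ∃ i : Fin chevE6.rank, co r i = 1 ∨ co r i = -1 := by
  decide +kernel

theorem exists_co (r : Fin chevE6.nroots) : ∃ i : Fin chevE6.rank, ((co r i : ℤ) : K) ≠ 0 := by
  obtain ⟨i, hi⟩ := co_one r
  exact ⟨i, cast_ne hi⟩

/-- the simple roots -/
def sim (j : Fin 6) : Fin chevE6.nroots :=
  ⟨![56, 46, 42, 39, 37, 36] j, by revert j; show ∀ j, ![56, 46, 42, 39, 37, 36] j < 72; decide⟩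

theorem ca_sim : ∀ (i j : Fin 6), ca (show Fin chevE6.rank from i) (sim j) =
    ![![2, 0, -1, 0, 0, 0], ![0, 2, 0, -1, 0, 0], ![-1, 0, 2, -1, 0, 0], ![0, -1, -1, 2, -1, 0],
      ![0, 0, 0, -1, 2, -1], ![0, 0, 0, 0, -1, 2]] i j := by
  decide +kernel

/-- no vector of the adjoint module is fixed by all root elements -/
theorem eq_zero_of_fixed (hK : (3 : K) ≠ 0) (v : chevE6.Idx → K)
    (hv : ∀ r : Fin chevE6.nroots, chevE6.xMat K r 1 *ᵥ v = v) : v = 0 := by
  have h1 : ∀ s : Fin chevE6.nroots, v (Sum.inr s) = 0 := by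
    intro s
    obtain ⟨i, hi⟩ := exists_co (K := K) (ng s)
    have h := congrFun (hv (ng s)) (Sum.inl i)
    simp only [Matrix.mulVec, dotProduct, Fintype.sum_sum_type, xMat_ll, xMat_lr, ite_mul, one_mul, zero_mul,
      Finset.sum_ite_eq, Finset.sum_ite_eq', Finset.mem_univ, if_true, ng_ng, mul_one] at h
    have h2 : ((co (ng s) i : ℤ) : K) * v (Sum.inr s) = 0 := by
      linear_combination h
    exact (mul_eq_zero.1 h2).resolve_left hi
  have h2 : ∀ r : Fin chevE6.nroots, ∑ i : Fin chevE6.rank, ((ca i r : ℤ) : K) * v (Sum.inl i) = 0 := by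
    intro r
    have h := congrFun (hv r) (Sum.inr r)
    simp only [Matrix.mulVec, dotProduct, Fintype.sum_sum_type, xMat_rl, if_true, h1, mul_zero,
      Finset.sum_const_zero, add_zero, mul_one, neg_mul, Finset.sum_neg_distrib, neg_eq_zero] at h
    exact h
  have h3 : ∀ i : Fin 6, v (Sum.inl (show Fin chevE6.rank from i)) = 0 := by
    have e : ∀ j : Fin 6, ∑ i : Fin 6, ((ca (show Fin chevE6.rank from i) (sim j) : ℤ) : K) *
        v (Sum.inl (show Fin chevE6.rank from i)) = 0 := fun j => h2 (sim j)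
    simp only [ca_sim] at e
    have e0 := e 0
    have e1 := e 1
    have e2 := e 2
    have e3 := e 3
    have e4 := e 4
    have e5 := e 5
    simp [Fin.sum_univ_succ] at e0 e1 e2 e3 e4 e5
    intro i
    apply (mul_eq_zero.1 _).resolve_left hK
    fin_cases i
    · show 3 * v (Sum.inl (show Fin chevE6.rank from (0 : Fin 6))) = 0
      linear_combination 4 * e0 + 3 * e1 + 5 * e2 + 6 * e3 + 4 * e4 + 2 * e5
    · show 3 * v (Sum.inl (show Fin chevE6.rank from (1 : Fin 6))) = 0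
      linear_combination 3 * e0 + 6 * e1 + 6 * e2 + 9 * e3 + 6 * e4 + 3 * e5
    · show 3 * v (Sum.inl (show Fin chevE6.rank from (2 : Fin 6))) = 0
      linear_combination 5 * e0 + 6 * e1 + 10 * e2 + 12 * e3 + 8 * e4 + 4 * e5
    · show 3 * v (Sum.inl (show Fin chevE6.rank from (3 : Fin 6))) = 0
      linear_combination 6 * e0 + 9 * e1 + 12 * e2 + 18 * e3 + 12 * e4 + 6 * e5
    · show 3 * v (Sum.inl (show Fin chevE6.rank from (4 : Fin 6))) = 0
      linear_combination 4 * e0 + 6 * e1 + 8 * e2 + 12 * e3 + 10 * e4 + 5 * e5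
    · show 3 * v (Sum.inl (show Fin chevE6.rank from (5 : Fin 6))) = 0
      linear_combination 2 * e0 + 3 * e1 + 4 * e2 + 6 * e3 + 5 * e4 + 4 * e5
  funext x
  rcases x with i | s
  · exact h3 i
  · exact h1 s

end Cfsg.Agent.H65.E6Inv

namespace Cfsg.Agent.H163.E6.Act

open Cfsg Cfsg.Lie Module
open Cfsg.Agent.H65.E6Inv

universe u

variable {F : Type u} [Field F]

/-- the adjoint module of the Chevalley group, characteristic not 3 -/
theorem L_invariants (h3 : (3 : F) ≠ 0) : (LK F).invariants = ⊥ := by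
  rw [eq_bot_iff]
  intro v hv
  rw [Submodule.mem_bot]
  refine eq_zero_of_fixed h3 v fun r => ?_
  have h := (Representation.mem_invariants _ v).1 hv (xg r 1)
  rw [LK_apply, coe_xg] at h
  exact h

end Cfsg.Agent.H163.E6.Act
end

-- part: H65/E6Emb
section
prune_inst 0x34404100340200000018009011001c62a2000000000b0000088001040c814c0320410621b270000200909cc450380040011000000220000000003000011800a0800202000000a000000001000000000000000000000000000000000000000000000000000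
set_option linter.all false
open scoped Cfsg.Agent.FastGrp

/-!
# S5927: change of fields for the simply connected group of type `E₆` (helper65)

`emb f : Zgrp F →* Zgrp E` for `f : F →+* E`; compatibility with `V`, `V'`, `L`, `ad`, eigenspaces, traces, the cubic form,
`sh`, `cr`, `tf`; functoriality; `exists_of_map` (descent); extension of subspaces `ext f W`.
-/

set_option autoImplicit false

namespace Cfsg.Agent.H65.E6Emb

open Cfsg Cfsg.Lie Module
open Cfsg.Agent.ChevalleyStructure.E6Min.Tables Cfsg.Agent.ChevalleyStructure.E6Min.Basic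
  Cfsg.Agent.ChevalleyStructure.E6Min.Adjoint Cfsg.Agent.ChevalleyStructure.E6Min.Torus
open Cfsg.Agent.H163.E6 Cfsg.Agent.H184.GraphE6
open Cfsg.Agent.H952.F4 (ev es matRep sh cr tf MaxAlt ofM tr1)
open scoped Matrix

universe u v w

section gen

variable {F : Type u} {E : Type v} [Field F] [Field E] (f : F →+* E)

theorem zM_map (r : ℕ) (t : F) : (zM r t).map f = zM r (f t) := by
  ext x y
  simp only [zM_def, Matrix.map_apply, Matrix.add_apply, Matrix.smul_apply, Nm_apply, Matrix.one_apply, map_add,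
    smul_eq_mul, map_mul, apply_ite f, map_one, map_zero, map_intCast]

theorem map_mem {g : GL I27 F} (hg : g ∈ Zgrp F) : Matrix.GeneralLinearGroup.map f g ∈ Zgrp E := by
  have h : Zgrp F ≤ (Zgrp E).comap (Matrix.GeneralLinearGroup.map f) := by
    unfold Zgrp
    rw [Subgroup.closure_le]
    rintro x ⟨r, t, hr, hx⟩
    refine Subgroup.subset_closure ⟨r, f t, hr, ?_⟩
    show ((x : GL I27 F) : Matrix I27 I27 F).map f = _
    rw [hx, zM_map]
  exact h hg

/-- the map of simply connected groups given by a homomorphism of fields -/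
noncomputable def emb : ↥(Zgrp F) →* ↥(Zgrp E) where
  toFun g := ⟨Matrix.GeneralLinearGroup.map f g, map_mem f g.2⟩
  map_one' := Subtype.ext (map_one _)
  map_mul' _ _ := Subtype.ext (map_mul _ _ _)

theorem coe_emb' (g : ↥(Zgrp F)) : (emb f g : GL I27 E) = Matrix.GeneralLinearGroup.map f (g : GL I27 F) := rfl

theorem coe_emb (g : ↥(Zgrp F)) :
    ((emb f g : GL I27 E) : Matrix I27 I27 E) = ((g : GL I27 F) : Matrix I27 I27 F).map f := rfl

theorem emb_injective : Function.Injective (emb f) := by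
  intro g h hgh
  have h1 : ((g : GL I27 F) : Matrix I27 I27 F).map f = ((h : GL I27 F) : Matrix I27 I27 F).map f := by
    rw [← coe_emb, ← coe_emb, hgh]
  exact Subtype.ext (Units.ext (Matrix.map_injective f.injective h1))

theorem emb_emb {K : Type w} [Field K] (f' : E →+* K) (g : ↥(Zgrp F)) : emb f' (emb f g) = emb (f'.comp f) g := by
  apply Subtype.ext
  apply Units.ext
  rw [coe_emb, coe_emb, coe_emb, Matrix.map_map]
  rfl

theorem emb_id (g : ↥(Zgrp F)) : emb (RingHom.id F) g = g := by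
  apply Subtype.ext
  apply Units.ext
  rw [coe_emb]
  exact Matrix.map_id _

theorem map_mulVec {n : Type*} [Fintype n] (A : Matrix n n F) (x : n → F) :
    (A.map f).mulVec (fun i => f (x i)) = fun i => f (A.mulVec x i) := by
  funext i
  simp only [Matrix.mulVec, dotProduct, Matrix.map_apply, map_sum, map_mul]

theorem V_emb (g : ↥(Zgrp F)) (x : I27 → F) : V E (emb f g) (fun i => f (x i)) = fun i => f (V F g x i) := by
  rw [V_apply, V_apply, coe_emb, map_mulVec]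

theorem gU_map (g : GL I27 F) :
    gU (Matrix.GeneralLinearGroup.map f g) = Matrix.GeneralLinearGroup.map f (gU g) := by
  have hP : Matrix.GeneralLinearGroup.map f (PU F) = PU E := by
    apply Units.ext
    show (PM F).map f = PM E
    ext x y
    simp only [Matrix.map_apply, PM_apply, apply_ite f, map_one, map_zero]
  have hd : Matrix.GeneralLinearGroup.map f (dual g) = dual (Matrix.GeneralLinearGroup.map f g) := by
    apply Units.ext
    rw [coe_dual, ← map_inv]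
    show (((g⁻¹ : GL I27 F) : Matrix I27 I27 F)ᵀ).map f = (((g⁻¹ : GL I27 F) : Matrix I27 I27 F).map f)ᵀ
    rw [Matrix.transpose_map]
  unfold gU
  rw [map_mul, map_mul, hP, hd]

theorem V'_emb (g : ↥(Zgrp F)) (x : I27 → F) : V' E (emb f g) (fun i => f (x i)) = fun i => f (V' F g x i) := by
  rw [V'_apply, V'_apply, coe_emb', gU_map]
  exact map_mulVec f _ x

theorem comb_map (c : chevE6.Idx → F) : (comb c).map f = comb fun i => f (c i) := by
  ext x y
  have hH : ∀ (i : ℕ), f (Hm F i x y) = Hm E i x y := by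
    intro i
    rw [Hm_apply, Hm_apply]
    simp only [apply_ite f, map_intCast, map_zero]
  have hN : ∀ (i : ℕ), f (Nm F i x y) = Nm E i x y := by
    intro i
    rw [Nm_apply, Nm_apply]
    simp only [apply_ite f, map_intCast, map_zero]
  rw [comb_split, comb_split, Matrix.map_apply, Matrix.add_apply, Matrix.add_apply, Matrix.sum_apply, Matrix.sum_apply,
    Matrix.sum_apply, Matrix.sum_apply, map_add, map_sum, map_sum]
  congr 1
  · refine Finset.sum_congr rfl fun i _ => ?_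
    rw [Matrix.smul_apply, Matrix.smul_apply, smul_eq_mul, smul_eq_mul, map_mul, hH]
  · refine Finset.sum_congr rfl fun i _ => ?_
    rw [Matrix.smul_apply, Matrix.smul_apply, smul_eq_mul, smul_eq_mul, map_mul, hN]

theorem B_map (c : chevE6.Idx) : (B F c).map f = B E c := by
  rcases c with i | r
  · ext x y
    rw [B_inl, B_inl, Matrix.map_apply, Hm_apply, Hm_apply]
    simp only [apply_ite f, map_intCast, map_zero]
  · ext x y
    rw [B_inr, B_inr, Matrix.map_apply, Nm_apply, Nm_apply]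
    simp only [apply_ite f, map_intCast, map_zero]

theorem ad_emb (g : ↥(Zgrp F)) :
    (((ad E (emb f g) : ↥(chevE6.group E)) : GL chevE6.Idx E) : Matrix chevE6.Idx chevE6.Idx E) =
      (((ad F g : ↥(chevE6.group F)) : GL chevE6.Idx F) : Matrix chevE6.Idx chevE6.Idx F).map f := by
  refine P_unique (g := (emb f g : GL I27 E)) (ad_P (emb f g)) ?_
  intro col
  have h := congrArg (fun M : Matrix I27 I27 F => M.map f) (ad_P g col)
  simp only [Matrix.map_mul] at h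
  rw [B_map, comb_map] at h
  exact h

theorem L_apply (g : ↥(Zgrp F)) (v : chevE6.Idx → F) : L F g v =
    (((ad F g : ↥(chevE6.group F)) : GL chevE6.Idx F) : Matrix chevE6.Idx chevE6.Idx F).mulVec v :=
  Cfsg.Agent.H65.E6Inv.LK_apply (ad F g) v

theorem L_emb (g : ↥(Zgrp F)) (x : chevE6.Idx → F) : L E (emb f g) (fun i => f (x i)) = fun i => f (L F g x i) := by
  rw [L_apply, L_apply, ad_emb, map_mulVec]

theorem eq_one_iff {K : Type*} [Field K] (h : ↥(chevE6.group K)) : h = 1 ↔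
    ((h : GL chevE6.Idx K) : Matrix chevE6.Idx chevE6.Idx K) = 1 := by
  constructor
  · rintro rfl; rfl
  · intro h1
    exact Subtype.ext (Units.ext h1)

theorem ad_emb_eq_one_iff (g : ↥(Zgrp F)) : ad E (emb f g) = 1 ↔ ad F g = 1 := by
  rw [eq_one_iff, eq_one_iff, ad_emb]
  constructor
  · intro h
    refine Matrix.map_injective f.injective (h.trans ?_)
    exact (Matrix.map_one f (map_zero f) (map_one f)).symm
  · intro h
    rw [h]
    exact Matrix.map_one f (map_zero f) (map_one f)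

/-! ### eigenspaces and traces -/

theorem V_eq (g : ↥(Zgrp F)) : V F g = Matrix.toLin' ((g : GL I27 F) : Matrix I27 I27 F) := rfl

theorem V'_eq (g : ↥(Zgrp F)) : V' F g = Matrix.toLin' ((gU (g : GL I27 F) : GL I27 F) : Matrix I27 I27 F) := rfl

theorem L_eq' (g : ↥(Zgrp F)) : L F g = Matrix.toLin' (((ad F g : ↥(chevE6.group F)) : GL chevE6.Idx F) :
    Matrix chevE6.Idx chevE6.Idx F) := by
  refine LinearMap.ext fun v => ?_
  rw [L_apply, Matrix.toLin'_apply]

theorem V'_emb_eq (g : ↥(Zgrp F)) :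
    V' E (emb f g) = Matrix.toLin' (((gU (g : GL I27 F) : GL I27 F) : Matrix I27 I27 F).map f) := by
  rw [V'_eq, coe_emb', gU_map]
  rfl

theorem ev_V (g : ↥(Zgrp F)) (μ : F) : ev (V E (emb f g)) (f μ) = ev (V F g) μ := by
  rw [V_eq, V_eq, coe_emb]
  exact H815.F4Chg.ev_map f _ μ

theorem ev_L (g : ↥(Zgrp F)) (μ : F) : ev (L E (emb f g)) (f μ) = ev (L F g) μ := by
  rw [L_eq', L_eq', ad_emb]
  exact H815.F4Chg.ev_map f _ μ

theorem ev_V_one (g : ↥(Zgrp F)) : ev (V E (emb f g)) 1 = ev (V F g) 1 := by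
  rw [← ev_V f g 1, map_one]

theorem ev_L_one (g : ↥(Zgrp F)) : ev (L E (emb f g)) 1 = ev (L F g) 1 := by
  rw [← ev_L f g 1, map_one]

theorem trace_V' (g : ↥(Zgrp F)) : LinearMap.trace E _ (V' E (emb f g)) = f (LinearMap.trace F _ (V' F g)) := by
  rw [V'_emb_eq, V'_eq]
  exact H815.F4Chg.trace_map f _

/-! ### the cubic form -/

theorem mat3_map (x : I27 → F) (k : Fin 3) : mat3 (fun i => f (x i)) k = (mat3 x k).map f := rfl

theorem trace_map' (A : Matrix (Fin 3) (Fin 3) F) : (A.map f).trace = f A.trace := by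
  simp [Matrix.trace, map_sum]

theorem cubicT_map (x : I27 → F) : cubicT (fun i => f (x i)) = f (cubicT x) := by
  unfold cubicT
  rw [mat3_map, mat3_map, mat3_map, ← Matrix.map_mul, ← Matrix.map_mul, trace_map']
  simp only [map_sub, map_add, RingHom.map_det, RingHom.mapMatrix_apply]

theorem tf_map (x y : I27 → F) : tf (fun i => f (x i)) (fun i => f (y i)) = f (tf x y) := by
  unfold tf
  simp only [mat3_map]
  rw [← Matrix.map_mul, ← Matrix.map_mul, ← Matrix.map_mul, trace_map', trace_map', trace_map', map_add, map_add]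

theorem sh_map (x : I27 → F) : sh (fun i => f (x i)) = fun i => f (sh x i) := by
  funext i
  unfold sh ofM
  have h1 : ∀ M : Matrix (Fin 3) (Fin 3) F, (M.map f).adjugate = M.adjugate.map f := fun M =>
    (RingHom.map_adjugate f M).symm
  simp only [mat3_map, h1, ← Matrix.map_mul, Matrix.sub_apply, Matrix.map_apply]
  split_ifs <;> rw [map_sub]

theorem cr_map (x y : I27 → F) : cr (fun i => f (x i)) (fun i => f (y i)) = fun i => f (cr x y i) := by
  unfold cr
  have h : ((fun i => f (x i)) + fun i => f (y i)) = fun i => f ((x + y) i) := by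
    funext i
    simp
  rw [h, sh_map, sh_map, sh_map]
  funext i
  simp only [_root_.Pi.sub_apply, _root_.map_sub]

/-! ### descent -/

/-- a matrix over the subfield which belongs to the big group belongs to the small one -/
theorem exists_of_map [Fintype F] (hF : 3 ≤ Fintype.card F) (z : ↥(Zgrp E)) (g : Matrix I27 I27 F)
    (h : ((z : GL I27 E) : Matrix I27 I27 E) = g.map f) :
    ∃ z0 : ↥(Zgrp F), emb f z0 = z ∧ ((z0 : GL I27 F) : Matrix I27 I27 F) = g := by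
  have hdet : IsUnit g.det := by
    rw [isUnit_iff_ne_zero]
    intro h0
    have h1 : IsUnit ((z : GL I27 E) : Matrix I27 I27 E).det :=
      (Matrix.isUnit_iff_isUnit_det _).1 (Units.isUnit _)
    rw [h] at h1
    have h2 : (g.map f).det = f g.det := by rw [RingHom.map_det]; rfl
    rw [h2, h0, map_zero] at h1
    exact not_isUnit_zero h1
  let g0 : GL I27 F := Matrix.GeneralLinearGroup.mk'' g hdet
  have hg0 : (g0 : Matrix I27 I27 F) = g := rfl
  have hmem : g0 ∈ Zgrp F := by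
    rw [Zgrp_eq hF]
    intro v
    apply f.injective
    have h1 := Cfsg.Agent.ChevalleyStructure.E6Min.Inv.Zgrp_le E z.2 (fun i => f (v i))
    change cubicT (((z : GL I27 E) : Matrix I27 I27 E).mulVec fun i => f (v i)) = cubicT (fun i => f (v i)) at h1
    rw [h, map_mulVec, cubicT_map, cubicT_map] at h1
    exact h1
  refine ⟨⟨g0, hmem⟩, ?_, rfl⟩
  apply Subtype.ext
  apply Units.ext
  rw [coe_emb, h]
  rfl

theorem mem_range_of_pow [Fintype F] {x : E} (hx : x ^ Fintype.card F = x) : ∃ y, f y = x := by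
  classical
  by_contra hcon
  push Not at hcon
  let p : Polynomial E := Polynomial.X ^ Fintype.card F - Polynomial.X
  have hp : p ≠ 0 := FiniteField.X_pow_card_sub_X_ne_zero E Fintype.one_lt_card
  have hdeg : p.natDegree = Fintype.card F := FiniteField.X_pow_card_sub_X_natDegree_eq E Fintype.one_lt_card
  let S : Finset E := insert x (Finset.univ.image f)
  have hS : S ⊆ p.roots.toFinset := by
    intro y hy
    rw [Multiset.mem_toFinset, Polynomial.mem_roots hp]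
    rcases Finset.mem_insert.1 hy with h | h
    · rw [h]
      simp [p, hx]
    · obtain ⟨z, -, rfl⟩ := Finset.mem_image.1 h
      simp only [p, ← map_pow, FiniteField.pow_card, _root_.Polynomial.IsRoot.def, _root_.Polynomial.eval_sub, _root_.Polynomial.eval_pow, _root_.Polynomial.eval_X, _root_.sub_self]
  have h1 := Finset.card_le_card hS
  have h2 : S.card = Fintype.card F + 1 := by
    rw [Finset.card_insert_of_notMem, Finset.card_image_of_injective _ f.injective, Finset.card_univ]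
    intro h
    obtain ⟨z, -, hz⟩ := Finset.mem_image.1 h
    exact hcon z hz
  have h3 : p.roots.toFinset.card ≤ Fintype.card F := by
    refine (Multiset.toFinset_card_le _).trans ?_
    rw [← hdeg]
    exact Polynomial.card_roots' p
  omega

/-- the fixed points of the Frobenius automorphism -/
theorem exists_of_pow [Fintype F] (hF : 3 ≤ Fintype.card F) (z : ↥(Zgrp E))
    (h : ∀ i j, ((z : GL I27 E) : Matrix I27 I27 E) i j ^ Fintype.card F = ((z : GL I27 E) : Matrix I27 I27 E) i j) :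
    ∃ z0 : ↥(Zgrp F), emb f z0 = z := by
  choose g hg using fun i j => mem_range_of_pow f (h i j)
  obtain ⟨z0, h1, -⟩ := exists_of_map f hF z (Matrix.of g) (by ext i j; exact (hg i j).symm)
  exact ⟨z0, h1⟩

/-- the fixed points of a field automorphism `s` of `E` with `s x = x ^ |F|` -/
theorem exists_of_emb_eq [Fintype F] (hF : 3 ≤ Fintype.card F) (s : E →+* E) (hs : ∀ x, s x = x ^ Fintype.card F)
    (z : ↥(Zgrp E)) (h : emb s z = z) : ∃ z0 : ↥(Zgrp F), emb f z0 = z := by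
  refine exists_of_pow f hF z fun i j => ?_
  have h1 := congrArg (fun x : ↥(Zgrp E) => ((x : GL I27 E) : Matrix I27 I27 E) i j) h
  simp only [coe_emb, Matrix.map_apply, hs] at h1
  exact h1

theorem emb_frob [Fintype F] (s : E →+* E) (hs : ∀ x, s x = x ^ Fintype.card F) (g : ↥(Zgrp F)) :
    emb s (emb f g) = emb f g := by
  rw [emb_emb]
  have h1 : s.comp f = f := by
    ext x
    rw [RingHom.comp_apply, hs, ← map_pow, FiniteField.pow_card]
  rw [h1]

end gen

section ext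

variable {F : Type u} {E : Type v} [Field F] [Field E] (f : F →+* E) {n : Type w}

/-- extension of scalars of a subspace -/
def ext (W : Submodule F (n → F)) : Submodule E (n → E) :=
  Submodule.span E ((fun (x : n → F) (i : n) => f (x i)) '' W)

variable {f}

theorem mem_ext_of_mem {W : Submodule F (n → F)} {x : n → F} (hx : x ∈ W) : (fun i => f (x i)) ∈ ext f W :=
  Submodule.subset_span ⟨x, hx, rfl⟩

theorem ext_le {W : Submodule F (n → F)} {U : Submodule E (n → E)} (h : ∀ x ∈ W, (fun i => f (x i)) ∈ U) :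
    ext f W ≤ U := by
  rw [ext, Submodule.span_le]
  rintro _ ⟨x, hx, rfl⟩
  exact h x hx

theorem ext_mono {W W' : Submodule F (n → F)} (h : W ≤ W') : ext f W ≤ ext f W' :=
  ext_le fun _ hx => mem_ext_of_mem (h hx)

theorem ext_bot : ext f (⊥ : Submodule F (n → F)) = ⊥ := by
  rw [eq_bot_iff]
  refine ext_le fun x hx => ?_
  rw [Submodule.mem_bot] at hx
  rw [hx, Submodule.mem_bot]
  funext i
  simp

variable [Fintype n] [DecidableEq n]

/-- a matrix with kernel `W` -/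
theorem exists_matrix (W : Submodule F (n → F)) : ∃ A : Matrix n n F, ∀ x, A.mulVec x = 0 ↔ x ∈ W := by
  obtain ⟨g, hg⟩ := W.subtype.exists_leftInverse_of_injective W.ker_subtype
  let φ : (n → F) →ₗ[F] (n → F) := LinearMap.id - W.subtype.comp g
  refine ⟨LinearMap.toMatrix' φ, fun x => ?_⟩
  rw [LinearMap.toMatrix'_mulVec]
  show x - (g x : n → F) = 0 ↔ _
  constructor
  · intro h
    rw [sub_eq_zero.1 h]
    exact (g x).2
  · intro hx
    have h1 : g x = ⟨x, hx⟩ := LinearMap.congr_fun hg ⟨x, hx⟩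
    rw [h1, sub_self]

theorem mem_ext_iff {W : Submodule F (n → F)} {x : n → F} : (fun i => f (x i)) ∈ ext f W ↔ x ∈ W := by
  refine ⟨fun h => ?_, mem_ext_of_mem⟩
  obtain ⟨A, hA⟩ := exists_matrix W
  have h1 : ext f W ≤ LinearMap.ker (Matrix.toLin' (A.map f)) := by
    refine ext_le fun y hy => ?_
    rw [LinearMap.mem_ker, Matrix.toLin'_apply, map_mulVec, (hA y).2 hy]
    funext i
    simp
  have h2 := h1 h
  rw [LinearMap.mem_ker, Matrix.toLin'_apply, map_mulVec] at h2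
  rw [← hA]
  funext i
  have h3 := congrFun h2 i
  simpa using h3

/-- linear independence over the extension field -/
theorem linearIndependent_map {ι : Type*} [Fintype ι] {v : ι → n → F} (hv : LinearIndependent F v) :
    LinearIndependent E (fun (j : ι) (i : n) => f (v j i)) := by
  classical
  obtain ⟨g, hg⟩ := (Fintype.linearCombination F v).exists_leftInverse_of_injective
    (LinearMap.ker_eq_bot'.2 fun c hc => funext fun j =>
      Fintype.linearIndependent_iff.1 hv c (by rwa [Fintype.linearCombination_apply] at hc) j)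
  have hP : ∀ j, (LinearMap.toMatrix' g).mulVec (v j) = Pi.single j 1 := by
    intro j
    rw [LinearMap.toMatrix'_mulVec]
    have h1 := LinearMap.congr_fun hg (Pi.single j 1)
    rw [LinearMap.comp_apply, Fintype.linearCombination_apply_single, one_smul] at h1
    exact h1
  rw [Fintype.linearIndependent_iff]
  intro c hc j
  have h1 : ((LinearMap.toMatrix' g).map f).mulVec (∑ k, c k • fun i => f (v k i)) =
      ((LinearMap.toMatrix' g).map f).mulVec 0 := by rw [hc]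
  rw [Matrix.mulVec_sum, Matrix.mulVec_zero] at h1
  have h2 : ∀ k, ((LinearMap.toMatrix' g).map f).mulVec (c k • fun i => f (v k i)) = c k • Pi.single k 1 := by
    intro k
    rw [Matrix.mulVec_smul]
    congr 1
    funext l
    have h3 := congrArg f (congrFun (hP k) l)
    rw [Pi.single_apply, apply_ite f, map_one, map_zero] at h3
    rw [Pi.single_apply, ← h3]
    simp only [Matrix.mulVec, dotProduct, Matrix.map_apply, map_sum, map_mul]
  rw [Finset.sum_congr rfl fun k _ => h2 k] at h1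
  have h3 := congrFun h1 j
  simpa only [Finset.sum_apply, Pi.single_apply, _root_.Pi.smul_apply, _root_.smul_eq_mul, _root_.mul_ite, _root_.mul_one, _root_.MulZeroClass.mul_zero, _root_.Finset.sum_ite_eq, _root_.Finset.mem_univ, ↓ _root_.reduceIte, _root_.Pi.zero_apply] using h3

theorem finrank_ext (W : Submodule F (n → F)) : finrank E ↥(ext f W) = finrank F ↥W := by
  let b := Module.finBasis F ↥W
  have hv : LinearIndependent F (fun j => (b j : n → F)) :=
    b.linearIndependent.map' W.subtype W.ker_subtype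
  have h1 := linearIndependent_map (f := f) hv
  have h2 : ext f W = Submodule.span E (Set.range fun (j : Fin (finrank F ↥W)) (i : n) => f ((b j : n → F) i)) := by
    apply le_antisymm
    · refine ext_le fun x hx => ?_
      have h3 := b.sum_repr ⟨x, hx⟩
      have h4 : x = ∑ j, (b.repr ⟨x, hx⟩ j) • (b j : n → F) := by
        have h6 := congrArg W.subtype h3
        rw [map_sum] at h6
        exact h6.symm
      have h5 : (fun i => f (x i)) = ∑ j, f (b.repr ⟨x, hx⟩ j) • fun i => f ((b j : n → F) i) := by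
        funext i
        conv_lhs => rw [h4]
        simp only [Finset.sum_apply, map_sum, _root_.Pi.smul_apply, _root_.smul_eq_mul, _root_.map_mul]
      rw [h5]
      exact Submodule.sum_mem _ fun j _ => Submodule.smul_mem _ _ (Submodule.subset_span ⟨j, rfl⟩)
    · rw [Submodule.span_le]
      rintro _ ⟨j, rfl⟩
      exact mem_ext_of_mem (b j).2
  rw [h2, finrank_span_eq_card h1, Fintype.card_fin]

theorem ext_es (A : Matrix n n F) (μ : F) :
    ext f (es (Matrix.toLin' A) μ) = es (Matrix.toLin' (A.map f)) (f μ) := by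
  refine Submodule.eq_of_le_of_finrank_eq (ext_le fun x hx => ?_) ?_
  · have h1 : Matrix.toLin' A x = μ • x := Module.End.mem_eigenspace_iff.1 hx
    refine Module.End.mem_eigenspace_iff.2 ?_
    rw [Matrix.toLin'_apply] at h1 ⊢
    rw [map_mulVec, h1]
    funext i
    simp
  · rw [finrank_ext]
    exact (H815.F4Chg.ev_map f A μ).symm

/-- vectors all whose coordinate vectors over the small field belong to `W` -/
theorem mem_ext_of_forall {W : Submodule F (n → F)} {y : n → E}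
    (h : ∀ l : E → F, (∀ a b, l (a + b) = l a + l b) → (∀ (c : F) (a : E), l (f c * a) = c * l a) →
      (fun i => l (y i)) ∈ W) : y ∈ ext f W := by
  let _ := f.toAlgebra
  classical
  let b := Module.Basis.ofVectorSpace F E
  have h1 : ∀ k, (fun i => b.coord k (y i)) ∈ W := fun k => h (fun a => b.coord k a) (fun a a' => map_add _ a a')
    (fun c a => by
      have : f c * a = c • a := (Algebra.smul_def c a).symm
      show b.coord k (f c * a) = c * b.coord k a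
      rw [this, map_smul, smul_eq_mul])
  let S : Finset _ := Finset.univ.biUnion fun i : n => (b.repr (y i)).support
  have h2 : y = ∑ k ∈ S, b k • fun i => f (b.coord k (y i)) := by
    funext i
    rw [Finset.sum_apply]
    have h3 := b.linearCombination_repr (y i)
    rw [Finsupp.linearCombination_apply, Finsupp.sum] at h3
    conv_lhs => rw [← h3]
    have hsub : (b.repr (y i)).support ⊆ S := Finset.subset_biUnion_of_mem (fun i : n => (b.repr (y i)).support)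
      (Finset.mem_univ i)
    rw [Finset.sum_subset hsub (fun k _ hk => by rw [Finsupp.notMem_support_iff.1 hk, zero_smul])]
    refine Finset.sum_congr rfl fun k _ => ?_
    rw [Algebra.smul_def]
    exact mul_comm _ _
  rw [h2]
  exact Submodule.sum_mem _ fun k _ => Submodule.smul_mem _ _ (mem_ext_of_mem (h1 k))

/-- common fixed vectors of matrices over the small field -/
theorem mem_ext_fixed {ι : Type*} (A : ι → Matrix n n F) (W : Submodule F (n → F))
    (hW : ∀ x, (∀ j, (A j).mulVec x = x) → x ∈ W) {y : n → E} (hy : ∀ j, ((A j).map f).mulVec y = y) :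
    y ∈ ext f W := by
  refine mem_ext_of_forall fun l hl hl' => hW _ fun j => ?_
  let l' : E →+ F := AddMonoidHom.mk' l hl
  funext i
  have h1 := congrArg l' (congrFun (hy j) i)
  simp only [Matrix.mulVec, dotProduct, Matrix.map_apply] at h1 ⊢
  rw [map_sum] at h1
  rw [show l (y i) = l' (y i) from rfl, ← h1]
  exact Finset.sum_congr rfl fun k _ => (hl' _ _).symm

end ext

section e6

variable {F : Type u} {E : Type v} [Field F] [Field E] {f : F →+* E}

theorem ext_es_L (g : ↥(Zgrp F)) (μ : F) : ext f (es (L F g) μ) = es (L E (emb f g)) (f μ) := by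
  rw [L_eq', L_eq', ad_emb]
  exact ext_es _ μ

variable {A : Type*} [Group A] (ψ : A →* ↥(Zgrp F))

theorem ext_inv_V : ext f (Representation.invariants (MonoidHom.comp (V F) ψ)) =
    Representation.invariants (MonoidHom.comp (V E) ((emb f).comp ψ)) := by
  apply le_antisymm
  · refine ext_le fun x hx => ?_
    rw [Representation.mem_invariants] at hx ⊢
    intro a
    show V E (emb f (ψ a)) (fun i => f (x i)) = _
    rw [V_emb, show V F (ψ a) x = x from hx a]
  · intro y hy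
    rw [Representation.mem_invariants] at hy
    refine mem_ext_fixed (fun a : A => ((ψ a : GL I27 F) : Matrix I27 I27 F)) _ (fun x hx => ?_) (y := y) fun a => ?_
    · rw [Representation.mem_invariants]
      exact fun a => hx a
    · exact hy a

theorem ext_inv_V' : ext f (Representation.invariants (MonoidHom.comp (V' F) ψ)) =
    Representation.invariants (MonoidHom.comp (V' E) ((emb f).comp ψ)) := by
  apply le_antisymm
  · refine ext_le fun x hx => ?_
    rw [Representation.mem_invariants] at hx ⊢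
    intro a
    show V' E (emb f (ψ a)) (fun i => f (x i)) = _
    rw [V'_emb, show V' F (ψ a) x = x from hx a]
  · intro y hy
    rw [Representation.mem_invariants] at hy
    refine mem_ext_fixed (fun a : A => ((gU (ψ a : GL I27 F) : GL I27 F) : Matrix I27 I27 F)) _ (fun x hx => ?_) (y := y)
      fun a => ?_
    · rw [Representation.mem_invariants]
      exact fun a => hx a
    · have h1 : V' E (emb f (ψ a)) y = y := hy a
      rw [V'_emb_eq] at h1
      exact h1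

end e6

section ts

variable {F E : Type u} [Field F] [Field E] {f : F →+* E}

end ts

end Cfsg.Agent.H65.E6Emb

namespace Cfsg.Agent.H163.E6.Sing

open Cfsg Cfsg.Lie Module
open Cfsg.Agent.ChevalleyStructure.E6Min.Tables Cfsg.Agent.ChevalleyStructure.E6Min.Basic

universe u

/-- the map of simply connected groups given by a homomorphism of fields -/
theorem exists_emb {F : Type u} [Field F] {E : Type u} [Field E] (f : F →+* E) : ∃ j : ↥(Zgrp F) →* ↥(Zgrp E),
    ∀ (g : ↥(Zgrp F)) (x : I27 → F), V E (j g) (fun i => f (x i)) = fun i => f (V F g x i) :=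
  ⟨Cfsg.Agent.H65.E6Emb.emb f, fun g x => Cfsg.Agent.H65.E6Emb.V_emb f g x⟩

/-- such a map is unique -/
theorem emb_unique {F : Type u} [Field F] {E : Type u} [Field E] (f : F →+* E) (j : ↥(Zgrp F) →* ↥(Zgrp E))
    (hj : ∀ (g : ↥(Zgrp F)) (x : I27 → F), V E (j g) (fun i => f (x i)) = fun i => f (V F g x i)) :
    j = Cfsg.Agent.H65.E6Emb.emb f := by
  ext1 g
  apply Subtype.ext
  apply Units.ext
  ext a b
  have h1 := hj g (Pi.single b 1)
  rw [← Cfsg.Agent.H65.E6Emb.V_emb f g (Pi.single b 1)] at h1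
  have h2 : (fun i => f ((Pi.single b 1 : I27 → F) i)) = Pi.single b 1 := by
    funext i
    rw [Pi.single_apply, Pi.single_apply, apply_ite f, map_one, map_zero]
  rw [h2] at h1
  have h3 := congrFun h1 a
  rw [V_apply, V_apply, Matrix.mulVec_single_one, Matrix.mulVec_single_one] at h3
  exact h3

end Cfsg.Agent.H163.E6.Sing

private theorem dce_6b36bd1580c7 : _root_.True := by
  try have : _root_.True := by simp only [_root_.Cfsg.Agent.H65.E6Emb.ext.eq_1]
  exact _root_.True.intro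
end

-- part: H65/E6Ext
section
prune_inst 0x1000440004200000000000000000000080000000000000000000804000040000000004000000000000000002001000001000000420000000a000000000000208000000000000000000001000080000000000000000000000000000000010000000000000
set_option linter.all false
open scoped Cfsg.Agent.FastGrp

-- part: H65/E6Full
section
/-!
# The simply connected group of type `E₆` over an arbitrary field is the stabiliser of the cubic polynomial (helper65)

`IsFull g` : `g` preserves `cubicT` and its partial linearisation `D` (i.e. the cubic polynomial). `mem_Zgrp_iff` : for EVERY field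
`g ∈ Zgrp F ↔ IsFull g` (the elimination of `E6Min.Elim` with `D_inv` as a hypothesis). `Zgrp_eq_of_three` : `Zgrp F = E6univ F` for
every field with more than two elements (also infinite). Descent for all fields: `exists_of_map_all`, `exists_of_pow_all`,
`exists_of_emb_eq_all`.
-/

set_option autoImplicit false
set_option linter.unusedSectionVars false

namespace Cfsg.Agent.H65.E6Full

open Cfsg Cfsg.Lie Module
open Cfsg.Agent.ChevalleyStructure.E6Min.Tables Cfsg.Agent.ChevalleyStructure.E6Min.Basic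
  Cfsg.Agent.ChevalleyStructure.E6Min.Inv Cfsg.Agent.ChevalleyStructure.E6Min.Forms
  Cfsg.Agent.ChevalleyStructure.E6Min.Elim Cfsg.Agent.ChevalleyStructure.E6Min.Torus
open Cfsg.Agent.H65.E6Emb
open scoped Matrix

universe u v

section ring

variable {R : Type u} {S : Type v} [CommRing R] [CommRing S]

theorem D_map (f : R →+* S) (v w : I27 → R) : D (fun i => f (v i)) (fun i => f (w i)) = f (D v w) := by
  unfold D
  rw [map_sum]
  refine Finset.sum_congr rfl fun n _ => ?_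
  simp only [map_mul, map_add, map_intCast]

theorem cubicT_map' (f : R →+* S) (v : I27 → R) : cubicT (fun i => f (v i)) = f (cubicT v) := by
  rw [cubicT_eq_sum, cubicT_eq_sum, map_sum]
  refine Finset.sum_congr rfl fun n _ => ?_
  simp only [map_mul, map_intCast]

theorem zM_map' (f : R →+* S) (r : ℕ) (t : R) (v : I27 → R) :
    zM r (f t) *ᵥ (fun i => f (v i)) = fun i => f ((zM r t *ᵥ v) i) := by
  funext x
  rw [zM_mulVec, zM_mulVec]
  simp only [map_mul, map_add, map_intCast]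

open Polynomial in
theorem D_zM {r : ℕ} (hr : r < 72) (t : R) (v w : I27 → R) : D (zM r t *ᵥ v) (zM r t *ᵥ w) = D v w := by
  have h1 := cubicT_zM hr (C t : R[X]) ((fun i => C (v i)) + (X : R[X]) • fun i => C (w i))
  rw [Matrix.mulVec_add, Matrix.mulVec_smul, zM_map' C r t v, zM_map' C r t w, cubicT_add_smul, cubicT_add_smul,
    cubicT_map' C, cubicT_map' C, cubicT_map' C, cubicT_map' C, D_map C, D_map C, D_map C, D_map C,
    cubicT_zM hr, cubicT_zM hr] at h1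
  have h2 := congrArg (fun p : R[X] => p.coeff 1) h1
  simp only [coeff_add] at h2
  have e1 : ∀ a : R, (C a : R[X]).coeff 1 = 0 := fun a => coeff_C_of_ne_zero one_ne_zero
  have e2 : ∀ a : R, ((X : R[X]) * C a).coeff 1 = a := fun a => by
    rw [show (1 : ℕ) = 0 + 1 from rfl, coeff_X_mul, coeff_C_zero]
  have e3 : ∀ a : R, ((X : R[X]) ^ 2 * C a).coeff 1 = 0 := fun a => by
    rw [coeff_X_pow_mul', if_neg (by norm_num)]
  have e4 : ∀ a : R, ((X : R[X]) ^ 3 * C a).coeff 1 = 0 := fun a => by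
    rw [coeff_X_pow_mul', if_neg (by norm_num)]
  rw [e1, e2, e2, e3, e3, e4] at h2
  simpa using h2

end ring

section

variable {F : Type u} [Field F]

/-- `g` preserves the cubic polynomial -/
def IsFull (g : GL I27 F) : Prop :=
  g ∈ E6univ F ∧ ∀ v w, D ((g : Matrix I27 I27 F) *ᵥ v) ((g : Matrix I27 I27 F) *ᵥ w) = D v w

theorem IsFull.mul {g h : GL I27 F} (hg : IsFull g) (hh : IsFull h) : IsFull (g * h) :=
  ⟨mul_mem hg.1 hh.1, fun v w => by
    rw [coe_mul_mulVec, coe_mul_mulVec, hg.2, hh.2]⟩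

theorem IsFull.inv {g : GL I27 F} (hg : IsFull g) : IsFull g⁻¹ :=
  ⟨inv_mem hg.1, fun v w => by
    rw [← hg.2, ← coe_mul_mulVec, ← coe_mul_mulVec, mul_inv_cancel, Units.val_one, Matrix.one_mulVec,
      Matrix.one_mulVec]⟩

theorem isFull_of_mem {g : GL I27 F} (hg : g ∈ Zgrp F) : IsFull g := by
  refine ⟨Zgrp_le F hg, ?_⟩
  unfold Zgrp at hg
  induction hg using Subgroup.closure_induction with
  | mem x hx =>
    obtain ⟨r, t, hr, h⟩ := hx
    intro v w
    rw [h, D_zM hr]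
  | one => intro v w; rw [Units.val_one, Matrix.one_mulVec, Matrix.one_mulVec]
  | mul x y _ _ hx hy => intro v w; rw [coe_mul_mulVec, coe_mul_mulVec, hx, hy]
  | inv x _ hx =>
    intro v w
    rw [← hx, ← coe_mul_mulVec, ← coe_mul_mulVec, mul_inv_cancel, Units.val_one, Matrix.one_mulVec,
      Matrix.one_mulVec]

theorem clear' {g : GL I27 F} (hg : IsFull g) {i : I27} (M : List ℕ)
    (hi : code i ∉ M) (hM : ∀ m, code m ∈ M → Scales g m) (hv : ((g : Matrix I27 I27 F) *ᵥ e F i) i ≠ 0) :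
    ∃ z ∈ Zgrp F, (∀ m, code m ∈ M → Scales (z * g) m) ∧ Scales (z * g) i := by
  set v := (g : Matrix I27 I27 F) *ᵥ e F i with hvdef
  obtain ⟨z, hz, hz1, hz2, hz3, -⟩ := clear_aux v hv M hi
    (fun m hm h1 j h2 => coord_zero hg.1 (hM m hm) h1 h2)
    ((Finset.univ.filter fun j => rel i j = 1).toList) (by intro j hj; simpa using hj)
  have hzg : IsFull (z * g) := (isFull_of_mem hz).mul hg
  refine ⟨z, hz, fun m hm => scales_mul (hz1 m hm) (hM m hm), v i, hv, ?_⟩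
  rw [coe_mul_mulVec, ← hvdef]
  have hu1 : ∀ j, rel i j = 1 → ((z : Matrix I27 I27 F) *ᵥ v) j = 0 := fun j hj => hz3 j (by simpa using hj)
  have hsing : ∀ w, D ((z : Matrix I27 I27 F) *ᵥ v) w = 0 := by
    intro w
    have h1 := hzg.2 (e F i) ((((z * g)⁻¹ : GL I27 F) : Matrix I27 I27 F) *ᵥ w)
    rw [mulVec_inv_cancel, D_single, coe_mul_mulVec] at h1
    exact h1
  ext k
  rcases rel_cases i k with rfl | h | h
  · rw [hz2, Pi.smul_apply, e_apply, if_pos rfl, smul_eq_mul, mul_one]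
  · have hne : k ≠ i := fun h' => by
      have := (rel_eq_zero_iff i k).mpr h'.symm
      omega
    rw [hu1 k h, Pi.smul_apply, e_apply, if_neg hne, smul_zero]
  · have hne : k ≠ i := fun h' => by
      have := (rel_eq_zero_iff i k).mpr h'.symm
      omega
    obtain ⟨-, -, -, -, h3, -, h4⟩ := th_spec h
    have h5 := D_basis h3 _ hu1
    rw [hsing, h4, hz2] at h5
    rw [Pi.smul_apply, e_apply, if_neg hne, smul_zero]
    rcases mul_eq_zero.mp h5.symm with h6 | h6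
    · exact absurd h6 (tsN_ne_zero _)
    · rcases mul_eq_zero.mp h6 with h7 | h7
      · exact absurd h7 hv
      · exact h7

theorem step' {g : GL I27 F} (hg : IsFull g) {M : List ℕ} {i ty m0 k0 : ℕ}
    (hi : i < 27) (hMlt : ∀ m ∈ M, m < 27) (hM : ∀ m, code m ∈ M → Scales g m)
    (hs : stepN M i ty m0 k0 = true) :
    ∃ z ∈ Zgrp F, ∀ m, code m ∈ i :: M → Scales (z * g) m := by
  have hci : code (dec i) = i := code_dec hi
  unfold stepN at hs
  rw [Bool.and_eq_true] at hs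
  obtain ⟨hs0, hs⟩ := hs
  have hiM : code (dec i) ∉ M := by
    rw [hci]; simpa using hs0
  have main : (∃ z ∈ Zgrp F, (∀ m, code m ∈ M → (z : Matrix I27 I27 F) *ᵥ e F m = e F m) ∧
      ((z : Matrix I27 I27 F) *ᵥ ((g : Matrix I27 I27 F) *ᵥ e F (dec i))) (dec i) ≠ 0) →
      ∃ z ∈ Zgrp F, ∀ m, code m ∈ i :: M → Scales (z * g) m := by
    rintro ⟨z, hz, hz1, hz2⟩
    rw [← coe_mul_mulVec] at hz2
    obtain ⟨z', hz', h1, h2⟩ := clear' ((isFull_of_mem hz).mul hg) M hiM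
      (fun m hm => scales_mul (hz1 m hm) (hM m hm)) hz2
    refine ⟨z' * z, mul_mem hz' hz, fun m hm => ?_⟩
    rw [mul_assoc]
    rcases List.mem_cons.mp hm with h3 | h3
    · have : m = dec i := by rw [← h3, dec_code]
      rw [this]; exact h2
    · exact h1 m h3
  apply main
  split_ifs at hs with ht0 ht1
  · obtain ⟨j, hj⟩ := exists_coord_ne g (dec i)
    have h1 := allLt_spec hs _ (code_lt j)
    have h2 := allowed_of hg.1 hM hMlt hj
    rw [hci] at h2
    rw [h2] at h1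
    have h3 : pathN M (code (dec i)) (code j) = true := by rw [hci]; simpa using h1
    exact path_spec h3 _ hj
  · simp only [Bool.and_eq_true, beq_iff_eq, Nat.blt_eq] at hs
    obtain ⟨⟨⟨h1, h2⟩, h3⟩, h4⟩ := hs
    have hcm : code (dec m0) = m0 := code_dec h3
    obtain ⟨j, hj1, hj⟩ := exists_coord hg.1 (m := dec m0) (i := dec i)
      (hM _ (by rw [hcm]; simpa using h1)) (by unfold rel; rw [hcm, hci]; exact h2)
    have h5 := allLt_spec h4 _ (code_lt j)
    have h6 := allowed_of hg.1 hM hMlt hj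
    rw [hci] at h6
    unfold rel at hj1
    rw [hcm] at hj1
    rw [h6, hj1] at h5
    have h7 : pathN M (code (dec i)) (code j) = true := by rw [hci]; simpa using h5
    exact path_spec h7 _ hj
  · simp only [Bool.and_eq_true, beq_iff_eq, Nat.blt_eq] at hs
    obtain ⟨⟨⟨⟨⟨h1, h2⟩, h3⟩, h4⟩, h5⟩, h6⟩ := hs
    have hcm : code (dec m0) = m0 := code_dec h5
    have hck : code (dec k0) = k0 := code_dec h6
    have hth : th (dec m0) (dec k0) = dec i := by unfold th; rw [hcm, hck, h4]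
    have h7 := third_coord hg.1 (m := dec m0) (k := dec k0) (hM _ (by rw [hcm]; simpa using h1))
      (hM _ (by rw [hck]; simpa using h2)) (by unfold rel; rw [hcm, hck]; exact h3)
    rw [hth] at h7
    refine ⟨1, one_mem _, ?_, ?_⟩
    · intro m _; rw [Units.val_one, Matrix.one_mulVec]
    · rw [Units.val_one, Matrix.one_mulVec]; exact h7

theorem elim_aux' (l : List (ℕ × ℕ × ℕ × ℕ)) :
    ∀ (M : List ℕ) (g : GL I27 F), IsFull g → (∀ m ∈ M, m < 27) → (∀ m, code m ∈ M → Scales g m) →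
      checkSeq M l = true → ∃ z ∈ Zgrp F, ∀ m, Scales (z * g) m := by
  induction l with
  | nil =>
    intro M g hg hMlt hM hc
    refine ⟨1, one_mem _, fun m => ?_⟩
    rw [one_mul]
    have := allLt_spec (show (allLt 27 fun x => M.contains x) = true from hc) _ (code_lt m)
    exact hM m (by simpa using this)
  | cons s l ih =>
    intro M g hg hMlt hM hc
    have hc' : (Nat.blt s.1 27 && stepN M s.1 s.2.1 s.2.2.1 s.2.2.2 && checkSeq (s.1 :: M) l) = true := hc
    rw [Bool.and_eq_true, Bool.and_eq_true, Nat.blt_eq] at hc'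
    obtain ⟨⟨h1, h2⟩, h3⟩ := hc'
    obtain ⟨z, hz, hz1⟩ := step' hg h1 hMlt hM h2
    obtain ⟨z', hz', h4⟩ := ih (s.1 :: M) (z * g) ((isFull_of_mem hz).mul hg)
      (by intro m hm; rcases List.mem_cons.mp hm with rfl | hm; exacts [h1, hMlt m hm]) hz1 h3
    refine ⟨z' * z, mul_mem hz' hz, fun m => ?_⟩
    rw [mul_assoc]; exact h4 m

/-- **The simply connected group is the stabiliser of the cubic polynomial** (every field). -/
theorem mem_Zgrp_iff {g : GL I27 F} : g ∈ Zgrp F ↔ IsFull g := by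
  refine ⟨isFull_of_mem, fun hg => ?_⟩
  obtain ⟨z, hz, h⟩ := elim_aux' seq [] g hg (by simp) (by simp) seq_check
  have h1 := diag_mem (mul_mem (mem_E6univ_of_mem hz) hg.1) h
  have h2 := mul_mem (inv_mem hz) h1
  rwa [inv_mul_cancel_left] at h2

/-- every field with more than two elements, also infinite -/
theorem Zgrp_eq_of_three (hF : ∃ c : F, c ≠ 0 ∧ c ≠ 1) : Zgrp F = E6univ F := by
  refine le_antisymm (Zgrp_le F) fun g hg => mem_Zgrp_iff.2 ⟨hg, fun v w => ?_⟩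
  rw [mem_E6univ_iff] at hg
  obtain ⟨c, hc0, hc1⟩ := hF
  have key : ∀ c : F, c * D ((g : Matrix I27 I27 F) *ᵥ v) ((g : Matrix I27 I27 F) *ᵥ w) +
      c ^ 2 * D ((g : Matrix I27 I27 F) *ᵥ w) ((g : Matrix I27 I27 F) *ᵥ v) = c * D v w + c ^ 2 * D w v := by
    intro c
    have h1 := hg (v + c • w)
    rw [Matrix.mulVec_add, Matrix.mulVec_smul, cubicT_add_smul, cubicT_add_smul, hg v, hg w] at h1
    linear_combination h1
  have h1 := key 1
  have h2 := key c
  have h3 : (c - c ^ 2) * (D ((g : Matrix I27 I27 F) *ᵥ v) ((g : Matrix I27 I27 F) *ᵥ w) - D v w) = 0 := by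
    linear_combination h2 - c ^ 2 * h1
  rcases mul_eq_zero.mp h3 with h4 | h4
  · exfalso
    have : c * (1 - c) = 0 := by linear_combination h4
    rcases mul_eq_zero.mp this with h5 | h5
    · exact hc0 h5
    · exact hc1 (by linear_combination -h5)
  · linear_combination h4

end

section descent

variable {F : Type u} {E : Type v} [Field F] [Field E] (f : F →+* E)

/-- a matrix over the subfield which belongs to the big group belongs to the small one (every field) -/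
theorem exists_of_map_all (z : ↥(Zgrp E)) (g : Matrix I27 I27 F)
    (h : ((z : GL I27 E) : Matrix I27 I27 E) = g.map f) :
    ∃ z0 : ↥(Zgrp F), emb f z0 = z ∧ ((z0 : GL I27 F) : Matrix I27 I27 F) = g := by
  have hdet : IsUnit g.det := by
    rw [isUnit_iff_ne_zero]
    intro h0
    have h1 : IsUnit ((z : GL I27 E) : Matrix I27 I27 E).det :=
      (Matrix.isUnit_iff_isUnit_det _).1 (Units.isUnit _)
    rw [h] at h1
    have h2 : (g.map f).det = f g.det := by rw [RingHom.map_det]; rfl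
    rw [h2, h0, map_zero] at h1
    exact not_isUnit_zero h1
  let g0 : GL I27 F := Matrix.GeneralLinearGroup.mk'' g hdet
  have hz := isFull_of_mem z.2
  have hmem : g0 ∈ Zgrp F := by
    rw [mem_Zgrp_iff]
    refine ⟨fun v => ?_, fun v w => ?_⟩
    · apply f.injective
      have h1 := hz.1 (fun i => f (v i))
      change cubicT (((z : GL I27 E) : Matrix I27 I27 E).mulVec fun i => f (v i)) = cubicT (fun i => f (v i)) at h1
      rw [h, map_mulVec, cubicT_map, cubicT_map] at h1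
      exact h1
    · apply f.injective
      have h1 := hz.2 (fun i => f (v i)) (fun i => f (w i))
      rw [h, map_mulVec, map_mulVec, D_map, D_map] at h1
      exact h1
  refine ⟨⟨g0, hmem⟩, ?_, rfl⟩
  apply Subtype.ext
  apply Units.ext
  rw [coe_emb, h]
  rfl

/-- the fixed points of the Frobenius automorphism -/
theorem exists_of_pow_all [Fintype F] (z : ↥(Zgrp E))
    (h : ∀ i j, ((z : GL I27 E) : Matrix I27 I27 E) i j ^ Fintype.card F = ((z : GL I27 E) : Matrix I27 I27 E) i j) :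
    ∃ z0 : ↥(Zgrp F), emb f z0 = z := by
  choose g hg using fun i j => mem_range_of_pow f (h i j)
  obtain ⟨z0, h1, -⟩ := exists_of_map_all f z (Matrix.of g) (by ext i j; exact (hg i j).symm)
  exact ⟨z0, h1⟩

/-- the fixed points of a field automorphism `s` of `E` with `s x = x ^ |F|` -/
theorem exists_of_emb_eq_all [Fintype F] (s : E →+* E) (hs : ∀ x, s x = x ^ Fintype.card F)
    (z : ↥(Zgrp E)) (h : emb s z = z) : ∃ z0 : ↥(Zgrp F), emb f z0 = z := by
  refine exists_of_pow_all f z fun i j => ?_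
  have h1 := congrArg (fun x : ↥(Zgrp E) => ((x : GL I27 E) : Matrix I27 I27 E) i j) h
  simp only [coe_emb, Matrix.map_apply, hs] at h1
  exact h1

end descent

end Cfsg.Agent.H65.E6Full
end

-- part: H65/E6Ext
section
/-!
# S5927, `Sing.three_ext`: a one-parameter group of root elements over the quadratic extension commuting with `B ≤ Zgrp F`
yields a non-central element of `Zgrp F` commuting with `B` (helper65)
-/

set_option autoImplicit false
set_option linter.unusedSectionVars false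

namespace Cfsg.Agent.H65.E6Ext

open Cfsg Cfsg.Lie Module
open Cfsg.Agent.ChevalleyStructure.E6Min.Tables Cfsg.Agent.ChevalleyStructure.E6Min.Basic
  Cfsg.Agent.ChevalleyStructure.E6Min.Adjoint
open Cfsg.Agent.H163.E6 Cfsg.Agent.H65.E6Emb
open scoped Matrix

universe u v

section scalar

variable {F : Type u} [Field F]

private noncomputable def _root_.Cfsg.Agent.KO8931b23.k0 : ((x0 : Prop) → ((@Decidable @x0) → @Bool)) := @(fun (x0 : Prop) (x1 : @Decidable @x0) => @Decidable.rec.{1} @x0 @(fun (x2 : @Decidable @x0) => @Bool) @(fun (x2 : @Not @x0) => @Bool.false) @(fun (x2 : x0) => @Bool.true) @x1)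
private theorem _root_.Cfsg.Agent.KO8931b23.e0 : @Decidable.decide = @_root_.Cfsg.Agent.KO8931b23.k0 := by delta _root_.Cfsg.Agent.KO8931b23.k0; rfl'
private noncomputable def _root_.Cfsg.Agent.KO8931b23.k1.{ku0, ku1} : ((x0 : Sort ku0) → ((x1 : (x0 → (x0 → Prop))) → ((x2 : ((@Quot.{ku0} @x0 @x1) → Sort ku1)) → ((x3 : ((x3 : x0) → @x2 (@Quot.mk.{ku0} @x0 @x1 @x3))) → (((x4 : x0) → ((x5 : x0) → ((x6 : @x1 @x4 @x5) → @Eq.{ku1} (@x2 (@Quot.mk.{ku0} @x0 @x1 @x5)) (@Eq.ndrec.{ku1, ku0} (@Quot.{ku0} @x0 @x1) (@Quot.mk.{ku0} @x0 @x1 @x4) @x2 (@x3 @x4) (@Quot.mk.{ku0} @x0 @x1 @x5) (@Quot.sound.{ku0} @x0 @x1 @x4 @x5 @x6)) (@x3 @x5)))) → ((x5 : @Quot.{ku0} @x0 @x1) → @x2 @x5)))))) := @(fun (x0 : Sort ku0) (x1 : (x0 → (x0 → Prop))) (x2 : ((@Quot.{ku0} @x0 @x1) → Sort ku1)) (x3 : ((x3 : x0) → @x2 (@Quot.mk.{ku0} @x0 @x1 @x3))) (x4 : ((x4 : x0) → ((x5 : x0) → ((x6 : @x1 @x4 @x5) → @Eq.{ku1} (@x2 (@Quot.mk.{ku0} @x0 @x1 @x5)) (@Eq.ndrec.{ku1,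 ku0} (@Quot.{ku0} @x0 @x1) (@Quot.mk.{ku0} @x0 @x1 @x4) @x2 (@x3 @x4) (@Quot.mk.{ku0} @x0 @x1 @x5) (@Quot.sound.{ku0} @x0 @x1 @x4 @x5 @x6)) (@x3 @x5))))) (x5 : @Quot.{ku0} @x0 @x1) => @Eq.rec.{ku1, ku0} (@Quot.{ku0} @x0 @x1) (@PSigma.fst.{ku0, ku1} (@Quot.{ku0} @x0 @x1) @x2 (@Quot.lift.{ku0, (max (max 1 ku1) ku0)} @x0 @x1 (@PSigma.{ku0, ku1} (@Quot.{ku0} @x0 @x1) @x2) (@Quot.indep.{ku0, ku1} @x0 @x1 @x2 @x3) (@Quot.indepCoherent.{ku0, ku1} @x0 @x1 @x2 @x3 @x4) @x5)) @(fun (x6 : @Quot.{ku0} @x0 @x1) (x7 : @Eq.{ku0} (@Quot.{ku0} @x0 @x1) (@PSigma.fst.{ku0, ku1} (@Quot.{ku0} @x0 @x1) @x2 (@Quot.lift.{ku0, (max (max 1 ku1) ku0)} @x0 @x1 (@PSigma.{ku0, ku1} (@Quot.{ku0} @x0 @x1) @x2) (@Quot.indep.{ku0, ku1} @x0 @x1 @x2 @x3) (@Quot.indepCoherent.{ku0, ku1} @x0 @x1 @x2 @x3 @x4) @x5)) @x6) => @x2 @x6) (@PSigma.snd.{ku0, ku1} (@Quot.{ku0} @x0 @x1) @x2 (@Quot.lift.{ku0, (max (max 1 ku1) ku0)} @x0 @x1 (@PSigma.{ku0, ku1} (@Quot.{ku0}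 @x0 @x1) @x2) (@Quot.indep.{ku0, ku1} @x0 @x1 @x2 @x3) (@Quot.indepCoherent.{ku0, ku1} @x0 @x1 @x2 @x3 @x4) @x5)) @x5 (@Quot.liftIndepPr1.{ku0, ku1} @x0 @x1 @x2 @x3 @x4 @x5))
private theorem _root_.Cfsg.Agent.KO8931b23.e1.{ku0, ku1} : @Quot.rec.{ku0, ku1} = @_root_.Cfsg.Agent.KO8931b23.k1.{ku0, ku1} := by delta _root_.Cfsg.Agent.KO8931b23.k1; rfl'
private noncomputable def _root_.Cfsg.Agent.KO8931b23.k2.{ku0, ku1} : ((x0 : Sort ku0) → ((x1 : (x0 → (x0 → Prop))) → ((x2 : ((@Quot.{ku0} @x0 @x1) → Sort ku1)) → (((x3 : x0) → @Subsingleton.{ku1} (@x2 (@Quot.mk.{ku0} @x0 @x1 @x3))) → ((x4 : @Quot.{ku0} @x0 @x1) → (((x5 : x0) → @x2 (@Quot.mk.{ku0} @x0 @x1 @x5)) → @x2 @x4)))))) := @(fun (x0 : Sort ku0) (x1 : (x0 → (x0 → Prop))) (x2 : ((@Quot.{ku0} @x0 @x1) → Sort ku1)) (x3 : ((x3 : x0) → @Subsingleton.{ku1} (@x2 (@Quot.mk.{ku0} @x0 @x1 @x3)))) (x4 : @Quot.{ku0} @x0 @x1) (x5 : ((x5 : x0) → @x2 (@Quot.mk.{ku0} @x0 @x1 @x5))) => @Cfsg.Agent.KO8931b23.k1.{ku0,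 ku1} @x0 @x1 @(fun (x6 : @Quot.{ku0} @x0 @x1) => @x2 @x6) @(fun (x6 : x0) => @x5 @x6) (@Quot.recOnSubsingleton._proof_1.{ku1, ku0} @x0 @x1 @x2 @x3 @x5) @x4)
private theorem _root_.Cfsg.Agent.KO8931b23.e2.{ku0, ku1} : @Quot.recOnSubsingleton.{ku0, ku1} = @_root_.Cfsg.Agent.KO8931b23.k2.{ku0, ku1} := by delta _root_.Cfsg.Agent.KO8931b23.k2; rewrite [← Cfsg.Agent.KO8931b23.e1.{ku0, ku1}]; rfl'
private theorem _root_.Cfsg.Agent.KO8931b23.e3.{ku, kv} {α : Type kv} {M : List α → Sort ku} (φ : ∀ l, M l) {z : M List.nil} {s : ∀ a l, M l → M (List.cons a l)} (h0 : φ List.nil = z) (hs : ∀ a l, φ (List.cons a l) = s a l (φ l)) (l : List α) : φ l = @List.rec α M z s l := List.rec h0 (fun a l ih => (hs a l).trans (congrArg (s a l) ih)) l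
private noncomputable def _root_.Cfsg.Agent.KO8931b23.k4.{ku0} : ((x0 : Sort (ku0+1)) → ((x1 : (x0 → Prop)) → ((@DecidablePred.{(ku0+1)} @x0 @x1) → ((x3 : @List.{ku0} @x0) → @Decidable ((x4 : x0) → ((@Membership.mem.{ku0, ku0} @x0 (@List.{ku0} @x0) (@List.instMembership.{ku0} @x0) @x3 @x4) → @x1 @x4)))))) := @(fun (x0 : Sort (ku0+1)) (x1 : (x0 → Prop)) (x2 : @DecidablePred.{(ku0+1)} @x0 @x1) (x3 : @List.{ku0} @x0) => @List.rec.{1, ku0} @x0 @(fun (x4 : @List.{ku0} @x0) => @Decidable ((x5 : x0) → ((@Membership.mem.{ku0, ku0} @x0 (@List.{ku0} @x0) (@List.instMembership.{ku0} @x0) @x4 @x5) → @x1 @x5))) (@Decidable.isTrue ((x4 : x0) → ((@Membership.mem.{ku0, ku0} @x0 (@List.{ku0} @x0) (@List.instMembership.{ku0} @x0) (@List.nil.{ku0} @x0) @x4) → @x1 @x4)) (@List.decidableBAll._proof_1.{ku0} @x0 @x1)) @(fun (x4 : x0) (x5 : @List.{ku0} @x0) (x6 : @Decidable ((x6 : x0) → ((@Membership.mem.{ku0, ku0} @x0 (@List.{ku0} @x0) (@List.instMembership.{ku0}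 @x0) @x5 @x6) → @x1 @x6))) => @Decidable.rec.{1} (@x1 @x4) @(fun (x7 : @Decidable (@x1 @x4)) => @Decidable ((x8 : x0) → ((@Membership.mem.{ku0, ku0} @x0 (@List.{ku0} @x0) (@List.instMembership.{ku0} @x0) (@List.cons.{ku0} @x0 @x4 @x5) @x8) → @x1 @x8))) @(fun (x7 : @Not (@x1 @x4)) => @Decidable.isFalse ((x8 : x0) → ((@Membership.mem.{ku0, ku0} @x0 (@List.{ku0} @x0) (@List.instMembership.{ku0} @x0) (@List.cons.{ku0} @x0 @x4 @x5) @x8) → @x1 @x8)) (@List.decidableBAll._proof_4.{ku0} @x0 @x1 @x4 @x5 @x7)) @(fun (x7 : @x1 @x4) => @Decidable.rec.{1} ((x8 : x0) → ((@Membership.mem.{ku0, ku0} @x0 (@List.{ku0} @x0) (@List.instMembership.{ku0} @x0) @x5 @x8) → @x1 @x8)) @(fun (x8 : @Decidable ((x8 : x0) → ((@Membership.mem.{ku0, ku0} @x0 (@List.{ku0} @x0) (@List.instMembership.{ku0} @x0) @x5 @x8) → @x1 @x8))) => @Decidable ((x9 : x0) → ((@Membership.mem.{ku0, ku0} @x0 (@List.{ku0} @x0) (@List.instMembership.{ku0} @x0) (@List.cons.{ku0}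 @x0 @x4 @x5) @x9) → @x1 @x9))) @(fun (x8 : @Not ((x8 : x0) → ((@Membership.mem.{ku0, ku0} @x0 (@List.{ku0} @x0) (@List.instMembership.{ku0} @x0) @x5 @x8) → @x1 @x8))) => @Decidable.isFalse ((x9 : x0) → ((@Membership.mem.{ku0, ku0} @x0 (@List.{ku0} @x0) (@List.instMembership.{ku0} @x0) (@List.cons.{ku0} @x0 @x4 @x5) @x9) → @x1 @x9)) (@List.decidableBAll._proof_3.{ku0} @x0 @x1 @x4 @x5 @x8)) @(fun (x8 : ((x8 : x0) → ((@Membership.mem.{ku0, ku0} @x0 (@List.{ku0} @x0) (@List.instMembership.{ku0} @x0) @x5 @x8) → @x1 @x8))) => @Decidable.isTrue ((x9 : x0) → ((@Membership.mem.{ku0, ku0} @x0 (@List.{ku0} @x0) (@List.instMembership.{ku0} @x0) (@List.cons.{ku0} @x0 @x4 @x5) @x9) → @x1 @x9)) (@List.decidableBAll._proof_2.{ku0} @x0 @x1 @x4 @x5 @x7 @x8)) @x6) (@x2 @x4)) @x3)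
private theorem _root_.Cfsg.Agent.KO8931b23.e4.{ku0} : @List.decidableBAll.{ku0} = @_root_.Cfsg.Agent.KO8931b23.k4.{ku0} := by delta _root_.Cfsg.Agent.KO8931b23.k4; funext a0 a1 a2 a3; refine (_root_.Cfsg.Agent.KO8931b23.e3 (fun a3 => @List.decidableBAll.{ku0} a0 a1 a2 a3) ?_ (fun c0 c1 => ?_) a3 :) <;> (rfl')
private noncomputable def _root_.Cfsg.Agent.KO8931b23.k5.{ku0} : ((x0 : Sort (ku0+1)) → ((x1 : @Multiset.{ku0} @x0) → ((x2 : (x0 → Prop)) → (((x3 : x0) → @Decidable (@x2 @x3)) → @Decidable ((x4 : x0) → ((@Membership.mem.{ku0, ku0} @x0 (@Multiset.{ku0} @x0) (@Multiset.instMembership.{ku0} @x0) @x1 @x4) → @x2 @x4)))))) := @(fun (x0 : Sort (ku0+1)) (x1 : @Multiset.{ku0} @x0) (x2 : (x0 → Prop)) (x3 : ((x3 : x0) → @Decidable (@x2 @x3))) => @Cfsg.Agent.KO8931b23.k2.{(ku0+1), 1} (@List.{ku0} @x0) (@Setoid.r.{(ku0+1)} (@List.{ku0} @x0) (@List.isSetoid.{ku0} @x0)) @(fun (x4 : @Quotient.{(ku0+1)} (@List.{ku0} @x0) (@List.isSetoid.{ku0}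 @x0)) => @Decidable ((x5 : x0) → ((@Membership.mem.{ku0, ku0} @x0 (@Multiset.{ku0} @x0) (@Multiset.instMembership.{ku0} @x0) @x4 @x5) → @x2 @x5))) (@Multiset.decidableForallMultiset._proof_2.{ku0} @x0 @x2) @x1 @(fun (x4 : @List.{ku0} @x0) => @Decidable.rec.{1} ((x5 : x0) → ((@Membership.mem.{ku0, ku0} @x0 (@List.{ku0} @x0) (@List.instMembership.{ku0} @x0) @x4 @x5) → @x2 @x5)) @(fun (x5 : @Decidable ((x5 : x0) → ((@Membership.mem.{ku0, ku0} @x0 (@List.{ku0} @x0) (@List.instMembership.{ku0} @x0) @x4 @x5) → @x2 @x5))) => @Decidable ((x6 : x0) → ((@Membership.mem.{ku0, ku0} @x0 (@Multiset.{ku0} @x0) (@Multiset.instMembership.{ku0} @x0) (@Quotient.mk.{(ku0+1)} (@List.{ku0} @x0) (@List.isSetoid.{ku0} @x0) @x4) @x6) → @x2 @x6))) @(fun (x5 : @Not ((x5 : x0) → ((@Membership.mem.{ku0, ku0} @x0 (@List.{ku0} @x0) (@List.instMembership.{ku0} @x0) @x4 @x5) → @x2 @x5))) => @Decidable.isFalse ((x6 : x0) → ((@Membership.mem.{ku0, ku0} @x0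 (@Multiset.{ku0} @x0) (@Multiset.instMembership.{ku0} @x0) (@Quotient.mk.{(ku0+1)} (@List.{ku0} @x0) (@List.isSetoid.{ku0} @x0) @x4) @x6) → @x2 @x6)) (@decidable_of_decidable_of_iff._proof_1 ((x6 : x0) → ((@Membership.mem.{ku0, ku0} @x0 (@List.{ku0} @x0) (@List.instMembership.{ku0} @x0) @x4 @x6) → @x2 @x6)) ((x6 : x0) → ((@Membership.mem.{ku0, ku0} @x0 (@Multiset.{ku0} @x0) (@Multiset.instMembership.{ku0} @x0) (@Quotient.mk.{(ku0+1)} (@List.{ku0} @x0) (@List.isSetoid.{ku0} @x0) @x4) @x6) → @x2 @x6)) (@Multiset.decidableForallMultiset._proof_1.{ku0} @x0 @x2 @x4) @x5)) @(fun (x5 : ((x5 : x0) → ((@Membership.mem.{ku0, ku0} @x0 (@List.{ku0} @x0) (@List.instMembership.{ku0} @x0) @x4 @x5) → @x2 @x5))) => @Decidable.isTrue ((x6 : x0) → ((@Membership.mem.{ku0, ku0} @x0 (@Multiset.{ku0} @x0) (@Multiset.instMembership.{ku0} @x0) (@Quotient.mk.{(ku0+1)} (@List.{ku0} @x0) (@List.isSetoid.{ku0} @x0) @x4) @x6) → @x2 @x6)) (@Iff.mp ((x6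 : x0) → ((@Membership.mem.{ku0, ku0} @x0 (@List.{ku0} @x0) (@List.instMembership.{ku0} @x0) @x4 @x6) → @x2 @x6)) ((x6 : x0) → ((@Membership.mem.{ku0, ku0} @x0 (@Multiset.{ku0} @x0) (@Multiset.instMembership.{ku0} @x0) (@Quotient.mk.{(ku0+1)} (@List.{ku0} @x0) (@List.isSetoid.{ku0} @x0) @x4) @x6) → @x2 @x6)) (@Multiset.decidableForallMultiset._proof_1.{ku0} @x0 @x2 @x4) @x5)) (@Cfsg.Agent.KO8931b23.k4.{ku0} @x0 @x2 @x3 @x4)))
private theorem _root_.Cfsg.Agent.KO8931b23.e5.{ku0} : @Multiset.decidableForallMultiset.{ku0} = @_root_.Cfsg.Agent.KO8931b23.k5.{ku0} := by delta _root_.Cfsg.Agent.KO8931b23.k5; rewrite [← Cfsg.Agent.KO8931b23.e4.{ku0}, ← Cfsg.Agent.KO8931b23.e2.{(ku0+1), 1}]; rfl'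
private noncomputable def _root_.Cfsg.Agent.KO8931b23.k9.{ku0} : ((x0 : Sort (ku0+1)) → ((x1 : @Multiset.{ku0} @x0) → ((x2 : ((x2 : x0) → ((@Membership.mem.{ku0, ku0} @x0 (@Multiset.{ku0} @x0) (@Multiset.instMembership.{ku0} @x0) @x1 @x2) → Prop))) → (((x3 : x0) → ((x4 : @Membership.mem.{ku0, ku0} @x0 (@Multiset.{ku0} @x0) (@Multiset.instMembership.{ku0} @x0) @x1 @x3) → @Decidable (@x2 @x3 @x4))) → @Decidable ((x4 : x0) → ((x5 : @Membership.mem.{ku0, ku0} @x0 (@Multiset.{ku0} @x0) (@Multiset.instMembership.{ku0} @x0) @x1 @x4) → @x2 @x4 @x5)))))) := @(fun (x0 : Sort (ku0+1)) (x1 : @Multiset.{ku0} @x0) (x2 : ((x2 : x0) → ((@Membership.mem.{ku0, ku0} @x0 (@Multiset.{ku0} @x0) (@Multiset.instMembership.{ku0} @x0) @x1 @x2) → Prop))) (x3 : ((x3 : x0) → ((x4 : @Membership.mem.{ku0, ku0} @x0 (@Multiset.{ku0} @x0) (@Multiset.instMembership.{ku0} @x0) @x1 @x3) → @Decidable (@x2 @x3 @x4)))) => @Decidable.rec.{1} ((x4 : @Subtype.{(ku0+1)}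 @x0 @(fun (x4 : x0) => @Membership.mem.{ku0, ku0} @x0 (@Multiset.{ku0} @x0) (@Multiset.instMembership.{ku0} @x0) @x1 @x4)) → ((@Membership.mem.{ku0, ku0} (@Subtype.{(ku0+1)} @x0 @(fun (x5 : x0) => @Membership.mem.{ku0, ku0} @x0 (@Multiset.{ku0} @x0) (@Multiset.instMembership.{ku0} @x0) @x1 @x5)) (@Multiset.{ku0} (@Subtype.{(ku0+1)} @x0 @(fun (x5 : x0) => @Membership.mem.{ku0, ku0} @x0 (@Multiset.{ku0} @x0) (@Multiset.instMembership.{ku0} @x0) @x1 @x5))) (@Multiset.instMembership.{ku0} (@Subtype.{(ku0+1)} @x0 @(fun (x5 : x0) => @Membership.mem.{ku0, ku0} @x0 (@Multiset.{ku0} @x0) (@Multiset.instMembership.{ku0} @x0) @x1 @x5))) (@Multiset.attach.{ku0} @x0 @x1) @x4) → @x2 (@Subtype.val.{(ku0+1)} @x0 @(fun (x6 : x0) => @Membership.mem.{ku0, ku0} @x0 (@Multiset.{ku0} @x0) (@Multiset.instMembership.{ku0} @x0) @x1 @x6) @x4) (@Multiset.decidableDforallMultiset._proof_1.{ku0} @x0 @x1 @x4))) @(fun (x4 : @Decidable ((x4 : @Subtype.{(ku0+1)}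 @x0 @(fun (x4 : x0) => @Membership.mem.{ku0, ku0} @x0 (@Multiset.{ku0} @x0) (@Multiset.instMembership.{ku0} @x0) @x1 @x4)) → ((@Membership.mem.{ku0, ku0} (@Subtype.{(ku0+1)} @x0 @(fun (x5 : x0) => @Membership.mem.{ku0, ku0} @x0 (@Multiset.{ku0} @x0) (@Multiset.instMembership.{ku0} @x0) @x1 @x5)) (@Multiset.{ku0} (@Subtype.{(ku0+1)} @x0 @(fun (x5 : x0) => @Membership.mem.{ku0, ku0} @x0 (@Multiset.{ku0} @x0) (@Multiset.instMembership.{ku0} @x0) @x1 @x5))) (@Multiset.instMembership.{ku0} (@Subtype.{(ku0+1)} @x0 @(fun (x5 : x0) => @Membership.mem.{ku0, ku0} @x0 (@Multiset.{ku0} @x0) (@Multiset.instMembership.{ku0} @x0) @x1 @x5))) (@Multiset.attach.{ku0} @x0 @x1) @x4) → @x2 (@Subtype.val.{(ku0+1)} @x0 @(fun (x6 : x0) => @Membership.mem.{ku0, ku0} @x0 (@Multiset.{ku0} @x0) (@Multiset.instMembership.{ku0} @x0) @x1 @x6) @x4) (@Multiset.decidableDforallMultiset._proof_1.{ku0} @x0 @x1 @x4)))) => @Decidable ((x5 : x0) → ((x6 : @Membership.mem.{ku0,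 ku0} @x0 (@Multiset.{ku0} @x0) (@Multiset.instMembership.{ku0} @x0) @x1 @x5) → @x2 @x5 @x6))) @(fun (x4 : @Not ((x4 : @Subtype.{(ku0+1)} @x0 @(fun (x4 : x0) => @Membership.mem.{ku0, ku0} @x0 (@Multiset.{ku0} @x0) (@Multiset.instMembership.{ku0} @x0) @x1 @x4)) → ((@Membership.mem.{ku0, ku0} (@Subtype.{(ku0+1)} @x0 @(fun (x5 : x0) => @Membership.mem.{ku0, ku0} @x0 (@Multiset.{ku0} @x0) (@Multiset.instMembership.{ku0} @x0) @x1 @x5)) (@Multiset.{ku0} (@Subtype.{(ku0+1)} @x0 @(fun (x5 : x0) => @Membership.mem.{ku0, ku0} @x0 (@Multiset.{ku0} @x0) (@Multiset.instMembership.{ku0} @x0) @x1 @x5))) (@Multiset.instMembership.{ku0} (@Subtype.{(ku0+1)} @x0 @(fun (x5 : x0) => @Membership.mem.{ku0, ku0} @x0 (@Multiset.{ku0} @x0) (@Multiset.instMembership.{ku0} @x0) @x1 @x5))) (@Multiset.attach.{ku0} @x0 @x1) @x4) → @x2 (@Subtype.val.{(ku0+1)} @x0 @(fun (x6 : x0) => @Membership.mem.{ku0, ku0} @x0 (@Multiset.{ku0} @x0) (@Multiset.instMembership.{ku0}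 @x0) @x1 @x6) @x4) (@Multiset.decidableDforallMultiset._proof_1.{ku0} @x0 @x1 @x4)))) => @Decidable.isFalse ((x5 : x0) → ((x6 : @Membership.mem.{ku0, ku0} @x0 (@Multiset.{ku0} @x0) (@Multiset.instMembership.{ku0} @x0) @x1 @x5) → @x2 @x5 @x6)) (@decidable_of_decidable_of_iff._proof_1 ((x5 : @Subtype.{(ku0+1)} @x0 @(fun (x5 : x0) => @Membership.mem.{ku0, ku0} @x0 (@Multiset.{ku0} @x0) (@Multiset.instMembership.{ku0} @x0) @x1 @x5)) → ((@Membership.mem.{ku0, ku0} (@Subtype.{(ku0+1)} @x0 @(fun (x6 : x0) => @Membership.mem.{ku0, ku0} @x0 (@Multiset.{ku0} @x0) (@Multiset.instMembership.{ku0} @x0) @x1 @x6)) (@Multiset.{ku0} (@Subtype.{(ku0+1)} @x0 @(fun (x6 : x0) => @Membership.mem.{ku0, ku0} @x0 (@Multiset.{ku0} @x0) (@Multiset.instMembership.{ku0} @x0) @x1 @x6))) (@Multiset.instMembership.{ku0} (@Subtype.{(ku0+1)} @x0 @(fun (x6 : x0) => @Membership.mem.{ku0, ku0} @x0 (@Multiset.{ku0} @x0) (@Multiset.instMembership.{ku0} @x0) @x1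 @x6))) (@Multiset.attach.{ku0} @x0 @x1) @x5) → @x2 (@Subtype.val.{(ku0+1)} @x0 @(fun (x7 : x0) => @Membership.mem.{ku0, ku0} @x0 (@Multiset.{ku0} @x0) (@Multiset.instMembership.{ku0} @x0) @x1 @x7) @x5) (@Multiset.decidableDforallMultiset._proof_1.{ku0} @x0 @x1 @x5))) ((x5 : x0) → ((x6 : @Membership.mem.{ku0, ku0} @x0 (@Multiset.{ku0} @x0) (@Multiset.instMembership.{ku0} @x0) @x1 @x5) → @x2 @x5 @x6)) (@Multiset.decidableDforallMultiset._proof_2.{ku0} @x0 @x1 @x2) @x4)) @(fun (x4 : ((x4 : @Subtype.{(ku0+1)} @x0 @(fun (x4 : x0) => @Membership.mem.{ku0, ku0} @x0 (@Multiset.{ku0} @x0) (@Multiset.instMembership.{ku0} @x0) @x1 @x4)) → ((@Membership.mem.{ku0, ku0} (@Subtype.{(ku0+1)} @x0 @(fun (x5 : x0) => @Membership.mem.{ku0, ku0} @x0 (@Multiset.{ku0} @x0) (@Multiset.instMembership.{ku0} @x0) @x1 @x5)) (@Multiset.{ku0} (@Subtype.{(ku0+1)} @x0 @(fun (x5 : x0) => @Membership.mem.{ku0, ku0} @x0 (@Multiset.{ku0} @x0) (@Multiset.instMembership.{ku0}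 @x0) @x1 @x5))) (@Multiset.instMembership.{ku0} (@Subtype.{(ku0+1)} @x0 @(fun (x5 : x0) => @Membership.mem.{ku0, ku0} @x0 (@Multiset.{ku0} @x0) (@Multiset.instMembership.{ku0} @x0) @x1 @x5))) (@Multiset.attach.{ku0} @x0 @x1) @x4) → @x2 (@Subtype.val.{(ku0+1)} @x0 @(fun (x6 : x0) => @Membership.mem.{ku0, ku0} @x0 (@Multiset.{ku0} @x0) (@Multiset.instMembership.{ku0} @x0) @x1 @x6) @x4) (@Multiset.decidableDforallMultiset._proof_1.{ku0} @x0 @x1 @x4)))) => @Decidable.isTrue ((x5 : x0) → ((x6 : @Membership.mem.{ku0, ku0} @x0 (@Multiset.{ku0} @x0) (@Multiset.instMembership.{ku0} @x0) @x1 @x5) → @x2 @x5 @x6)) (@Iff.mp ((x5 : @Subtype.{(ku0+1)} @x0 @(fun (x5 : x0) => @Membership.mem.{ku0, ku0} @x0 (@Multiset.{ku0} @x0) (@Multiset.instMembership.{ku0} @x0) @x1 @x5)) → ((@Membership.mem.{ku0, ku0} (@Subtype.{(ku0+1)} @x0 @(fun (x6 : x0) => @Membership.mem.{ku0, ku0} @x0 (@Multiset.{ku0} @x0) (@Multiset.instMembership.{ku0} @x0) @x1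 @x6)) (@Multiset.{ku0} (@Subtype.{(ku0+1)} @x0 @(fun (x6 : x0) => @Membership.mem.{ku0, ku0} @x0 (@Multiset.{ku0} @x0) (@Multiset.instMembership.{ku0} @x0) @x1 @x6))) (@Multiset.instMembership.{ku0} (@Subtype.{(ku0+1)} @x0 @(fun (x6 : x0) => @Membership.mem.{ku0, ku0} @x0 (@Multiset.{ku0} @x0) (@Multiset.instMembership.{ku0} @x0) @x1 @x6))) (@Multiset.attach.{ku0} @x0 @x1) @x5) → @x2 (@Subtype.val.{(ku0+1)} @x0 @(fun (x7 : x0) => @Membership.mem.{ku0, ku0} @x0 (@Multiset.{ku0} @x0) (@Multiset.instMembership.{ku0} @x0) @x1 @x7) @x5) (@Multiset.decidableDforallMultiset._proof_1.{ku0} @x0 @x1 @x5))) ((x5 : x0) → ((x6 : @Membership.mem.{ku0, ku0} @x0 (@Multiset.{ku0} @x0) (@Multiset.instMembership.{ku0} @x0) @x1 @x5) → @x2 @x5 @x6)) (@Multiset.decidableDforallMultiset._proof_2.{ku0} @x0 @x1 @x2) @x4)) (@Cfsg.Agent.KO8931b23.k5.{ku0} (@Subtype.{(ku0+1)} @x0 @(fun (x4 : x0) => @Membership.mem.{ku0, ku0} @x0 (@Multiset.{ku0} @x0)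 (@Multiset.instMembership.{ku0} @x0) @x1 @x4)) (@Multiset.pmap.{ku0, ku0} @x0 (@Subtype.{(ku0+1)} @x0 @(fun (x4 : x0) => @Membership.mem.{ku0, ku0} @x0 (@Multiset.{ku0} @x0) (@Multiset.instMembership.{ku0} @x0) @x1 @x4)) @(fun (x4 : x0) => @Membership.mem.{ku0, ku0} @x0 (@Multiset.{ku0} @x0) (@Multiset.instMembership.{ku0} @x0) @x1 @x4) (@Subtype.mk.{(ku0+1)} @x0 @(fun (x4 : x0) => @Membership.mem.{ku0, ku0} @x0 (@Multiset.{ku0} @x0) (@Multiset.instMembership.{ku0} @x0) @x1 @x4)) @x1 (@Multiset.attach._proof_1.{ku0} @x0 @x1)) @(fun (x4 : @Subtype.{(ku0+1)} @x0 @(fun (x4 : x0) => @Membership.mem.{ku0, ku0} @x0 (@Multiset.{ku0} @x0) (@Multiset.instMembership.{ku0} @x0) @x1 @x4)) => @x2 (@Subtype.val.{(ku0+1)} @x0 @(fun (x5 : x0) => @Membership.mem.{ku0, ku0} @x0 (@Multiset.{ku0} @x0) (@Multiset.instMembership.{ku0} @x0) @x1 @x5) @x4) (@Multiset.decidableDforallMultiset._proof_1.{ku0} @x0 @x1 @x4)) @(fun (x4 : @Subtype.{(ku0+1)}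 @x0 @(fun (x4 : x0) => @Membership.mem.{ku0, ku0} @x0 (@Multiset.{ku0} @x0) (@Multiset.instMembership.{ku0} @x0) @x1 @x4)) => @x3 (@Subtype.val.{(ku0+1)} @x0 @(fun (x5 : x0) => @Membership.mem.{ku0, ku0} @x0 (@Multiset.{ku0} @x0) (@Multiset.instMembership.{ku0} @x0) @x1 @x5) @x4) (@Multiset.decidableDforallMultiset._proof_1.{ku0} @x0 @x1 @x4))))
private theorem _root_.Cfsg.Agent.KO8931b23.e9.{ku0} : @Multiset.decidableDforallMultiset.{ku0} = @_root_.Cfsg.Agent.KO8931b23.k9.{ku0} := by delta _root_.Cfsg.Agent.KO8931b23.k9; rewrite [← Cfsg.Agent.KO8931b23.e5.{ku0}]; rfl'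
private noncomputable def _root_.Cfsg.Agent.KO8931b23.k10.{ku0} : ((x0 : Sort (ku0+1)) → ((x1 : @Finset.{ku0} @x0) → ((x2 : ((x2 : x0) → ((@Membership.mem.{ku0, ku0} @x0 (@Finset.{ku0} @x0) (@SetLike.instMembership.{ku0, ku0} (@Finset.{ku0} @x0) @x0 (@Finset.instSetLike.{ku0} @x0)) @x1 @x2) → Prop))) → (((x3 : x0) → ((x4 : @Membership.mem.{ku0, ku0} @x0 (@Finset.{ku0} @x0) (@SetLike.instMembership.{ku0, ku0} (@Finset.{ku0} @x0) @x0 (@Finset.instSetLike.{ku0} @x0)) @x1 @x3) → @Decidable (@x2 @x3 @x4))) → @Decidable ((x4 : x0) → ((x5 : @Membership.mem.{ku0, ku0} @x0 (@Finset.{ku0} @x0) (@SetLike.instMembership.{ku0, ku0} (@Finset.{ku0} @x0) @x0 (@Finset.instSetLike.{ku0} @x0)) @x1 @x4) → @x2 @x4 @x5)))))) := @(fun (x0 : Sort (ku0+1)) (x1 : @Finset.{ku0} @x0) (x2 : ((x2 : x0) → ((@Membership.mem.{ku0, ku0} @x0 (@Finset.{ku0} @x0) (@SetLike.instMembership.{ku0, ku0} (@Finset.{ku0} @x0) @x0 (@Finset.instSetLike.{ku0} @x0)) @x1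 @x2) → Prop))) (x3 : ((x3 : x0) → ((x4 : @Membership.mem.{ku0, ku0} @x0 (@Finset.{ku0} @x0) (@SetLike.instMembership.{ku0, ku0} (@Finset.{ku0} @x0) @x0 (@Finset.instSetLike.{ku0} @x0)) @x1 @x3) → @Decidable (@x2 @x3 @x4)))) => @Cfsg.Agent.KO8931b23.k9.{ku0} @x0 (@Finset.val.{ku0} @x0 @x1) @x2 @x3)
private theorem _root_.Cfsg.Agent.KO8931b23.e10.{ku0} : @Finset.decidableDforallFinset.{ku0} = @_root_.Cfsg.Agent.KO8931b23.k10.{ku0} := by delta _root_.Cfsg.Agent.KO8931b23.k10; rewrite [← Cfsg.Agent.KO8931b23.e9.{ku0}]; rfl'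
private noncomputable def _root_.Cfsg.Agent.KO8931b23.k11.{ku0} : ((x0 : Sort (ku0+1)) → ((x1 : (x0 → Prop)) → ((@DecidablePred.{(ku0+1)} @x0 @x1) → ((@Fintype.{ku0} @x0) → @Decidable ((x4 : x0) → @x1 @x4))))) := @(fun (x0 : Sort (ku0+1)) (x1 : (x0 → Prop)) (x2 : @DecidablePred.{(ku0+1)} @x0 @x1) (x3 : @Fintype.{ku0} @x0) => @Decidable.rec.{1} ((x4 : x0) → ((@Membership.mem.{ku0, ku0} @x0 (@Finset.{ku0} @x0) (@SetLike.instMembership.{ku0, ku0} (@Finset.{ku0} @x0) @x0 (@Finset.instSetLike.{ku0} @x0)) (@Finset.univ.{ku0} @x0 @x3) @x4) → @x1 @x4)) @(fun (x4 : @Decidable ((x4 : x0) → ((@Membership.mem.{ku0, ku0} @x0 (@Finset.{ku0} @x0) (@SetLike.instMembership.{ku0, ku0} (@Finset.{ku0} @x0) @x0 (@Finset.instSetLike.{ku0} @x0)) (@Finset.univ.{ku0} @x0 @x3) @x4) → @x1 @x4))) => @Decidable ((x5 : x0) → @x1 @x5)) @(fun (x4 : @Not ((x4 : x0) → ((@Membership.mem.{ku0, ku0} @x0 (@Finset.{ku0} @x0) (@SetLike.instMembership.{ku0, ku0}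 (@Finset.{ku0} @x0) @x0 (@Finset.instSetLike.{ku0} @x0)) (@Finset.univ.{ku0} @x0 @x3) @x4) → @x1 @x4))) => @Decidable.isFalse ((x5 : x0) → @x1 @x5) (@decidable_of_decidable_of_iff._proof_1 ((x5 : x0) → ((@Membership.mem.{ku0, ku0} @x0 (@Finset.{ku0} @x0) (@SetLike.instMembership.{ku0, ku0} (@Finset.{ku0} @x0) @x0 (@Finset.instSetLike.{ku0} @x0)) (@Finset.univ.{ku0} @x0 @x3) @x5) → @x1 @x5)) ((x5 : x0) → @x1 @x5) (@Fintype.decidableForallFintype._proof_1.{ku0} @x0 @x1 @x3) @x4)) @(fun (x4 : ((x4 : x0) → ((@Membership.mem.{ku0, ku0} @x0 (@Finset.{ku0} @x0) (@SetLike.instMembership.{ku0, ku0} (@Finset.{ku0} @x0) @x0 (@Finset.instSetLike.{ku0} @x0)) (@Finset.univ.{ku0} @x0 @x3) @x4) → @x1 @x4))) => @Decidable.isTrue ((x5 : x0) → @x1 @x5) (@Iff.mp ((x5 : x0) → ((@Membership.mem.{ku0, ku0} @x0 (@Finset.{ku0} @x0) (@SetLike.instMembership.{ku0, ku0} (@Finset.{ku0} @x0) @x0 (@Finset.instSetLike.{ku0} @x0)) (@Finset.univ.{ku0} @x0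 @x3) @x5) → @x1 @x5)) ((x5 : x0) → @x1 @x5) (@Fintype.decidableForallFintype._proof_1.{ku0} @x0 @x1 @x3) @x4)) (@Cfsg.Agent.KO8931b23.k10.{ku0} @x0 (@Fintype.elems.{ku0} @x0 @x3) @(fun (x4 : x0) (x5 : @Membership.mem.{ku0, ku0} @x0 (@Finset.{ku0} @x0) (@SetLike.instMembership.{ku0, ku0} (@Finset.{ku0} @x0) @x0 (@Finset.instSetLike.{ku0} @x0)) (@Finset.univ.{ku0} @x0 @x3) @x4) => @x1 @x4) @(fun (x4 : x0) (x5 : @Membership.mem.{ku0, ku0} @x0 (@Finset.{ku0} @x0) (@SetLike.instMembership.{ku0, ku0} (@Finset.{ku0} @x0) @x0 (@Finset.instSetLike.{ku0} @x0)) (@Finset.univ.{ku0} @x0 @x3) @x4) => @x2 @x4)))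
private theorem _root_.Cfsg.Agent.KO8931b23.e11.{ku0} : @Fintype.decidableForallFintype.{ku0} = @_root_.Cfsg.Agent.KO8931b23.k11.{ku0} := by delta _root_.Cfsg.Agent.KO8931b23.k11; rewrite [← Cfsg.Agent.KO8931b23.e10.{ku0}]; rfl'
private noncomputable def _root_.Cfsg.Agent.KO8931b23.k12 : ((x0 : Prop) → ((x1 : (x0 → Prop)) → ((@Decidable @x0) → (((x3 : x0) → @Decidable (@x1 @x3)) → @Decidable ((x4 : x0) → @x1 @x4))))) := @(fun (x0 : Prop) (x1 : (x0 → Prop)) (x2 : @Decidable @x0) (x3 : ((x3 : x0) → @Decidable (@x1 @x3))) => @Decidable.rec.{1} @x0 @(fun (x4 : @Decidable @x0) => @Decidable ((x5 : x0) → @x1 @x5)) @(fun (x4 : @Not @x0) => @Decidable.isTrue ((x5 : x0) → @x1 @x5) (@forall_prop_decidable._proof_2 @x0 @x1 @x4)) @(fun (x4 : x0) => @Decidable.rec.{1} (@x1 @x4) @(fun (x5 : @Decidable (@x1 @x4)) => @Decidable ((x6 : x0) → @x1 @x6)) @(fun (x5 : @Not (@x1 @x4)) => @Decidable.isFalse ((x6 : x0) → @x1 @x6) (@decidable_of_decidable_of_iff._proof_1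 (@x1 @x4) ((x6 : x0) → @x1 @x6) (@forall_prop_decidable._proof_1 @x0 @x1 @x4) @x5)) @(fun (x5 : @x1 @x4) => @Decidable.isTrue ((x6 : x0) → @x1 @x6) (@Iff.mp (@x1 @x4) ((x6 : x0) → @x1 @x6) (@forall_prop_decidable._proof_1 @x0 @x1 @x4) @x5)) (@x3 @x4)) @x2)
private theorem _root_.Cfsg.Agent.KO8931b23.e12 : @forall_prop_decidable = @_root_.Cfsg.Agent.KO8931b23.k12 := by delta _root_.Cfsg.Agent.KO8931b23.k12; rfl'
private noncomputable def _root_.Cfsg.Agent.KO8931b23.k13 : ((x0 : Prop) → ((@Decidable @x0) → @Decidable (@Not @x0))) := @(fun (x0 : Prop) (x1 : @Decidable @x0) => @Decidable.rec.{1} @x0 @(fun (x2 : @Decidable @x0) => @Decidable (@Not @x0)) @(fun (x2 : @Not @x0) => @Decidable.isTrue (@Not @x0) @x2) @(fun (x2 : x0) => @Decidable.isFalse (@Not @x0) (@absurd.{0} @x0 @False @x2)) @x1)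
private theorem _root_.Cfsg.Agent.KO8931b23.e13 : @instDecidableNot = @_root_.Cfsg.Agent.KO8931b23.k13 := by delta _root_.Cfsg.Agent.KO8931b23.k13; rfl'
private noncomputable def _root_.Cfsg.Agent.KO8931b23.k14.{ku0, ku1} : ((x0 : Sort (ku0+1)) → ((x1 : Sort (ku1+1)) → ((@DecidableEq.{(ku0+1)} @x0) → ((@DecidableEq.{(ku1+1)} @x1) → @DecidableEq.{(max (ku1+1) (ku0+1))} (@Prod.{ku0, ku1} @x0 @x1))))) := @(fun (x0 : Sort (ku0+1)) (x1 : Sort (ku1+1)) (x2 : @DecidableEq.{(ku0+1)} @x0) (x3 : @DecidableEq.{(ku1+1)} @x1) (x4 : @Prod.{ku0, ku1} @x0 @x1) (x5 : @Prod.{ku0, ku1} @x0 @x1) => @Prod.rec.{1, ku0, ku1} @x0 @x1 @(fun (x6 : @Prod.{ku0, ku1} @x0 @x1) => @Decidable (@Eq.{(max (ku1+1) (ku0+1))} (@Prod.{ku0, ku1} @x0 @x1) @x6 @x5)) @(fun (x6 : x0) (x7 : x1) => @Prod.rec.{1, ku0, ku1} @x0 @x1 @(fun (x8 : @Prod.{ku0, ku1} @x0 @x1) => @Decidable (@Eq.{(max (ku1+1) (ku0+1))} (@Prod.{ku0, ku1} @x0 @x1) (@Prod.mk.{ku0, ku1} @x0 @x1 @x6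 @x7) @x8)) @(fun (x8 : x0) (x9 : x1) => @Decidable.rec.{1} (@Eq.{(ku0+1)} @x0 @x6 @x8) @(fun (x10 : @Decidable (@Eq.{(ku0+1)} @x0 @x6 @x8)) => @Decidable (@Eq.{(max (ku1+1) (ku0+1))} (@Prod.{ku0, ku1} @x0 @x1) (@Prod.mk.{ku0, ku1} @x0 @x1 @x6 @x7) (@Prod.mk.{ku0, ku1} @x0 @x1 @x8 @x9))) @(fun (x10 : @Not (@Eq.{(ku0+1)} @x0 @x6 @x8)) => @Decidable.isFalse (@Eq.{(max (ku1+1) (ku0+1))} (@Prod.{ku0, ku1} @x0 @x1) (@Prod.mk.{ku0, ku1} @x0 @x1 @x6 @x7) (@Prod.mk.{ku0, ku1} @x0 @x1 @x8 @x9)) (@instDecidableEqProd._proof_3.{ku1, ku0} @x0 @x1 @x6 @x7 @x8 @x9 @x10)) @(fun (x10 : @Eq.{(ku0+1)} @x0 @x6 @x8) => @Decidable.rec.{1} (@Eq.{(ku1+1)} @x1 @x7 @x9) @(fun (x11 : @Decidable (@Eq.{(ku1+1)} @x1 @x7 @x9)) => @Decidable (@Eq.{(max (ku1+1) (ku0+1))} (@Prod.{ku0, ku1} @x0 @x1) (@Prod.mk.{ku0, ku1} @x0 @x1 @x6 @x7) (@Prod.mk.{ku0, ku1} @x0 @x1 @x8 @x9))) @(fun (x11 : @Not (@Eq.{(ku1+1)} @x1 @x7 @x9)) => @Decidable.isFalse (@Eq.{(max (ku1+1)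 (ku0+1))} (@Prod.{ku0, ku1} @x0 @x1) (@Prod.mk.{ku0, ku1} @x0 @x1 @x6 @x7) (@Prod.mk.{ku0, ku1} @x0 @x1 @x8 @x9)) (@instDecidableEqProd._proof_2.{ku1, ku0} @x0 @x1 @x6 @x7 @x8 @x9 @x11)) @(fun (x11 : @Eq.{(ku1+1)} @x1 @x7 @x9) => @Decidable.isTrue (@Eq.{(max (ku1+1) (ku0+1))} (@Prod.{ku0, ku1} @x0 @x1) (@Prod.mk.{ku0, ku1} @x0 @x1 @x6 @x7) (@Prod.mk.{ku0, ku1} @x0 @x1 @x8 @x9)) (@instDecidableEqProd._proof_1.{ku1, ku0} @x0 @x1 @x6 @x7 @x8 @x9 @x10 @x11)) (@x3 @x7 @x9)) (@x2 @x6 @x8)) @x5) @x4)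
private theorem _root_.Cfsg.Agent.KO8931b23.e14.{ku0, ku1} : @instDecidableEqProd.{ku0, ku1} = @_root_.Cfsg.Agent.KO8931b23.k14.{ku0, ku1} := by delta _root_.Cfsg.Agent.KO8931b23.k14; rfl'
private noncomputable def _root_.Cfsg.Agent.KO8931b23.k15 : ((x0 : @Nat) → ((x1 : @Nat) → @Decidable (@Eq.{1} @Nat @x0 @x1))) := @(fun (x0 : @Nat) (x1 : @Nat) => @Bool.rec.{1} @(fun (x2 : @Bool) => ((@Eq.{1} @Bool (@Nat.beq @x0 @x1) @x2) → @Decidable (@Eq.{1} @Nat @x0 @x1))) @(fun (x2 : @Eq.{1} @Bool (@Nat.beq @x0 @x1) @Bool.false) => @Decidable.isFalse (@Eq.{1} @Nat @x0 @x1) (@Nat.ne_of_beq_eq_false @x0 @x1 @x2)) @(fun (x2 : @Eq.{1} @Bool (@Nat.beq @x0 @x1) @Bool.true) => @Decidable.isTrue (@Eq.{1} @Nat @x0 @x1) (@Nat.eq_of_beq_eq_true @x0 @x1 @x2)) (@Nat.beq @x0 @x1) (@Eq.refl.{1} @Bool (@Nat.beq @x0 @x1)))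
private theorem _root_.Cfsg.Agent.KO8931b23.e15 : @Nat.decEq = @_root_.Cfsg.Agent.KO8931b23.k15 := by delta _root_.Cfsg.Agent.KO8931b23.k15; rfl'
private noncomputable def _root_.Cfsg.Agent.KO8931b23.k16 : ((x0 : @Nat) → @DecidableEq.{1} (@Fin @x0)) := @(fun (x0 : @Nat) (x1 : @Fin @x0) (x2 : @Fin @x0) => @Decidable.rec.{1} (@Eq.{1} @Nat (@Fin.val @x0 @x1) (@Fin.val @x0 @x2)) @(fun (x3 : @Decidable (@Eq.{1} @Nat (@Fin.val @x0 @x1) (@Fin.val @x0 @x2))) => @Decidable (@Eq.{1} (@Fin @x0) @x1 @x2)) @(fun (x3 : @Not (@Eq.{1} @Nat (@Fin.val @x0 @x1) (@Fin.val @x0 @x2))) => @Decidable.isFalse (@Eq.{1} (@Fin @x0) @x1 @x2) (@instDecidableEqFin._proof_1 @x0 @x1 @x2 @x3)) @(fun (x3 : @Eq.{1} @Nat (@Fin.val @x0 @x1) (@Fin.val @x0 @x2)) => @Decidable.isTrue (@Eq.{1} (@Fin @x0) @x1 @x2) (@Fin.eq_of_val_eq @x0 @x1 @x2 @x3)) (@Cfsg.Agent.KO8931b23.k15 (@Fin.val @x0 @x1) (@Fin.val @x0 @x2)))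
private theorem _root_.Cfsg.Agent.KO8931b23.e16 : @instDecidableEqFin = @_root_.Cfsg.Agent.KO8931b23.k16 := by delta _root_.Cfsg.Agent.KO8931b23.k16; rewrite [← Cfsg.Agent.KO8931b23.e15]; rfl'
private theorem _root_.Cfsg.Agent.KO8931b23.e17.{ku} {M : Nat → Sort ku} (φ : ∀ n, M n) {z : M Nat.zero} {s : ∀ n, M n → M (Nat.succ n)} (h0 : φ Nat.zero = z) (hs : ∀ n, φ (Nat.succ n) = s n (φ n)) (n : Nat) : φ n = @Nat.rec M z s n := Nat.rec h0 (fun n ih => (hs n).trans (congrArg (s n) ih)) n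
private noncomputable def _root_.Cfsg.Agent.KO8931b23.k18 : ((x0 : Prop) → ((x1 : Prop) → ((@Decidable @x0) → ((@Decidable @x1) → @Decidable (@Or @x0 @x1))))) := @(fun (x0 : Prop) (x1 : Prop) (x2 : @Decidable @x0) (x3 : @Decidable @x1) => @Decidable.rec.{1} @x0 @(fun (x4 : @Decidable @x0) => @Decidable (@Or @x0 @x1)) @(fun (x4 : @Not @x0) => @Decidable.rec.{1} @x1 @(fun (x5 : @Decidable @x1) => @Decidable (@Or @x0 @x1)) @(fun (x5 : @Not @x1) => @Decidable.isFalse (@Or @x0 @x1) (@instDecidableOr._proof_1 @x0 @x1 @x4 @x5)) @(fun (x5 : x1) => @Decidable.isTrue (@Or @x0 @x1) (@Or.inr @x0 @x1 @x5)) @x3) @(fun (x4 : x0) => @Decidable.isTrue (@Or @x0 @x1) (@Or.inl @x0 @x1 @x4)) @x2)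
private theorem _root_.Cfsg.Agent.KO8931b23.e18 : @instDecidableOr = @_root_.Cfsg.Agent.KO8931b23.k18 := by delta _root_.Cfsg.Agent.KO8931b23.k18; rfl'
private noncomputable def _root_.Cfsg.Agent.KO8931b23.k19 : ((x0 : (@Nat → Prop)) → ((@DecidablePred.{1} @Nat @x0) → @DecidablePred.{1} @Nat @(fun (x2 : @Nat) => @Exists.{1} @Nat @(fun (x3 : @Nat) => @And (@LT.lt.{0} @Nat @instLTNat @x3 @x2) (@x0 @x3))))) := @(fun (x0 : (@Nat → Prop)) (x1 : @DecidablePred.{1} @Nat @x0) (x2 : @Nat) => @Nat.rec.{1} @(fun (x3 : @Nat) => @Decidable (@Exists.{1} @Nat @(fun (x4 : @Nat) => @And (@LT.lt.{0} @Nat @instLTNat @x4 @x3) (@x0 @x4)))) (@Decidable.isFalse (@Exists.{1} @Nat @(fun (x3 : @Nat) => @And (@LT.lt.{0} @Nat @instLTNat @x3 (@OfNat.ofNat.{0} @Nat (nat_lit 0) (@instOfNatNat (nat_lit 0)))) (@x0 @x3))) (@Nat.decidableExistsLT._proof_5 @x0)) @(fun (x3 : @Nat) (x4 : @Decidable (@Exists.{1} @Nat @(fun (x4 : @Nat) => @And (@LT.lt.{0} @Nat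 @instLTNat @x4 @x3) (@x0 @x4)))) => @Decidable.rec.{1} (@Or (@Exists.{1} @Nat @(fun (x5 : @Nat) => @And (@LT.lt.{0} @Nat @instLTNat @x5 @x3) (@x0 @x5))) (@x0 @x3)) @(fun (x5 : @Decidable (@Or (@Exists.{1} @Nat @(fun (x5 : @Nat) => @And (@LT.lt.{0} @Nat @instLTNat @x5 @x3) (@x0 @x5))) (@x0 @x3))) => @Decidable (@Exists.{1} @Nat @(fun (x6 : @Nat) => @And (@LT.lt.{0} @Nat @instLTNat @x6 (@HAdd.hAdd.{0, 0, 0} @Nat @Nat @Nat (@instHAdd.{0} @Nat @instAddNat) @x3 (@OfNat.ofNat.{0} @Nat (nat_lit 1) (@instOfNatNat (nat_lit 1))))) (@x0 @x6)))) @(fun (x5 : @Not (@Or (@Exists.{1} @Nat @(fun (x5 : @Nat) => @And (@LT.lt.{0} @Nat @instLTNat @x5 @x3) (@x0 @x5))) (@x0 @x3))) => @Decidable.isFalse (@Exists.{1} @Nat @(fun (x6 : @Nat) => @And (@LT.lt.{0} @Nat @instLTNat @x6 (@HAdd.hAdd.{0, 0, 0} @Nat @Nat @Nat (@instHAdd.{0} @Nat @instAddNat) @x3 (@OfNat.ofNat.{0} @Nat (nat_lit 1) (@instOfNatNat (nat_lit 1))))) (@x0 @x6))) (@decidable_of_decidable_of_iff._proof_1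 (@Or (@Exists.{1} @Nat @(fun (x6 : @Nat) => @And (@LT.lt.{0} @Nat @instLTNat @x6 @x3) (@x0 @x6))) (@x0 @x3)) (@Exists.{1} @Nat @(fun (x6 : @Nat) => @And (@LT.lt.{0} @Nat @instLTNat @x6 (@HAdd.hAdd.{0, 0, 0} @Nat @Nat @Nat (@instHAdd.{0} @Nat @instAddNat) @x3 (@OfNat.ofNat.{0} @Nat (nat_lit 1) (@instOfNatNat (nat_lit 1))))) (@x0 @x6))) (@Nat.decidableExistsLT._proof_10 @x0 @x3) @x5)) @(fun (x5 : @Or (@Exists.{1} @Nat @(fun (x5 : @Nat) => @And (@LT.lt.{0} @Nat @instLTNat @x5 @x3) (@x0 @x5))) (@x0 @x3)) => @Decidable.isTrue (@Exists.{1} @Nat @(fun (x6 : @Nat) => @And (@LT.lt.{0} @Nat @instLTNat @x6 (@HAdd.hAdd.{0, 0, 0} @Nat @Nat @Nat (@instHAdd.{0} @Nat @instAddNat) @x3 (@OfNat.ofNat.{0} @Nat (nat_lit 1) (@instOfNatNat (nat_lit 1))))) (@x0 @x6))) (@Iff.mp (@Or (@Exists.{1} @Nat @(fun (x6 : @Nat) => @And (@LT.lt.{0} @Nat @instLTNat @x6 @x3) (@x0 @x6))) (@x0 @x3)) (@Exists.{1} @Nat @(fun (x6 : @Nat) => @And (@LT.lt.{0} @Nat @instLTNat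 @x6 (@HAdd.hAdd.{0, 0, 0} @Nat @Nat @Nat (@instHAdd.{0} @Nat @instAddNat) @x3 (@OfNat.ofNat.{0} @Nat (nat_lit 1) (@instOfNatNat (nat_lit 1))))) (@x0 @x6))) (@Nat.decidableExistsLT._proof_10 @x0 @x3) @x5)) (@Cfsg.Agent.KO8931b23.k18 (@Exists.{1} @Nat @(fun (x5 : @Nat) => @And (@LT.lt.{0} @Nat @instLTNat @x5 @x3) (@x0 @x5))) (@x0 @x3) @x4 (@x1 @x3))) @x2)
private theorem _root_.Cfsg.Agent.KO8931b23.e19 : @Nat.decidableExistsLT = @_root_.Cfsg.Agent.KO8931b23.k19 := by delta _root_.Cfsg.Agent.KO8931b23.k19; rewrite [← Cfsg.Agent.KO8931b23.e18]; funext a0 a1 a2; refine (_root_.Cfsg.Agent.KO8931b23.e17 (fun a2 => @Nat.decidableExistsLT a0 a1 a2) ?_ (fun c0 => ?_) a2 :) <;> (rfl')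
private noncomputable def _root_.Cfsg.Agent.KO8931b23.k20 : ((x0 : @Bool) → ((x1 : @Bool) → @Decidable (@Eq.{1} @Bool @x0 @x1))) := @(fun (x0 : @Bool) (x1 : @Bool) => @Bool.rec.{1} @(fun (x2 : @Bool) => @Decidable (@Eq.{1} @Bool @x2 @x1)) (@Bool.rec.{1} @(fun (x2 : @Bool) => @Decidable (@Eq.{1} @Bool @Bool.false @x2)) (@Decidable.isTrue (@Eq.{1} @Bool @Bool.false @Bool.false) (@rfl.{1} @Bool @Bool.false)) (@Decidable.isFalse (@Eq.{1} @Bool @Bool.false @Bool.true) @(fun (x2 : @Eq.{1} @Bool @Bool.false @Bool.true) => @Bool.noConfusion.{0} @False @Bool.false @Bool.true @x2)) @x1) (@Bool.rec.{1} @(fun (x2 : @Bool) => @Decidable (@Eq.{1} @Bool @Bool.true @x2)) (@Decidable.isFalse (@Eq.{1} @Bool @Bool.true @Bool.false) @(fun (x2 : @Eq.{1} @Bool @Bool.true @Bool.false) => @Bool.noConfusion.{0} @False @Bool.true @Bool.false @x2)) (@Decidable.isTrue (@Eq.{1} @Bool @Bool.true @Bool.true) (@rfl.{1} @Bool @Bool.true)) @x1) @x0)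
private theorem _root_.Cfsg.Agent.KO8931b23.e20 : @Bool.decEq = @_root_.Cfsg.Agent.KO8931b23.k20 := by delta _root_.Cfsg.Agent.KO8931b23.k20; rfl'
private noncomputable def _root_.Cfsg.Agent.KO8931b23.k21 : ((x0 : @Nat) → ((x1 : @Nat) → @Decidable (@LE.le.{0} @Nat @instLENat @x0 @x1))) := @(fun (x0 : @Nat) (x1 : @Nat) => @Decidable.rec.{1} (@Eq.{1} @Bool (@Nat.ble @x0 @x1) @Bool.true) @(fun (x2 : @Decidable (@Eq.{1} @Bool (@Nat.ble @x0 @x1) @Bool.true)) => @Decidable (@LE.le.{0} @Nat @instLENat @x0 @x1)) @(fun (x2 : @Not (@Eq.{1} @Bool (@Nat.ble @x0 @x1) @Bool.true)) => @Decidable.isFalse (@LE.le.{0} @Nat @instLENat @x0 @x1) (@Nat.not_le_of_not_ble_eq_true @x0 @x1 @x2)) @(fun (x2 : @Eq.{1} @Bool (@Nat.ble @x0 @x1) @Bool.true) => @Decidable.isTrue (@LE.le.{0} @Nat @instLENat @x0 @x1) (@Nat.le_of_ble_eq_true @x0 @x1 @x2)) (@Cfsg.Agent.KO8931b23.k20 (@Nat.ble @x0 @x1) @Bool.true))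
private theorem _root_.Cfsg.Agent.KO8931b23.e21 : @Nat.decLe = @_root_.Cfsg.Agent.KO8931b23.k21 := by delta _root_.Cfsg.Agent.KO8931b23.k21; rewrite [← Cfsg.Agent.KO8931b23.e20]; rfl'
private noncomputable def _root_.Cfsg.Agent.KO8931b23.k22 : ((x0 : @Nat) → ((x1 : ((@Fin @x0) → Prop)) → ((@DecidablePred.{1} (@Fin @x0) @x1) → @Decidable (@Exists.{1} (@Fin @x0) @(fun (x3 : @Fin @x0) => @x1 @x3))))) := @(fun (x0 : @Nat) (x1 : ((@Fin @x0) → Prop)) (x2 : @DecidablePred.{1} (@Fin @x0) @x1) => @Decidable.rec.{1} (@Exists.{1} @Nat @(fun (x3 : @Nat) => @And (@LT.lt.{0} @Nat @instLTNat @x3 @x0) ((x4 : @LT.lt.{0} @Nat @instLTNat @x3 @x0) → @x1 (@Fin.mk @x0 @x3 @x4)))) @(fun (x3 : @Decidable (@Exists.{1} @Nat @(fun (x3 : @Nat) => @And (@LT.lt.{0} @Nat @instLTNat @x3 @x0) ((x4 : @LT.lt.{0} @Nat @instLTNat @x3 @x0) → @x1 (@Fin.mk @x0 @x3 @x4))))) => @Decidable (@Exists.{1} (@Fin @x0) @(fun (x4 : @Fin @x0) => @x1 @x4))) @(fun (x3 : @Not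 (@Exists.{1} @Nat @(fun (x3 : @Nat) => @And (@LT.lt.{0} @Nat @instLTNat @x3 @x0) ((x4 : @LT.lt.{0} @Nat @instLTNat @x3 @x0) → @x1 (@Fin.mk @x0 @x3 @x4))))) => @Decidable.isFalse (@Exists.{1} (@Fin @x0) @(fun (x4 : @Fin @x0) => @x1 @x4)) (@decidable_of_decidable_of_iff._proof_1 (@Exists.{1} @Nat @(fun (x4 : @Nat) => @And (@LT.lt.{0} @Nat @instLTNat @x4 @x0) ((x5 : @LT.lt.{0} @Nat @instLTNat @x4 @x0) → @x1 (@Fin.mk @x0 @x4 @x5)))) (@Exists.{1} (@Fin @x0) @(fun (x4 : @Fin @x0) => @x1 @x4)) (@Nat.decidableExistsFin._proof_1 @x0 @x1) @x3)) @(fun (x3 : @Exists.{1} @Nat @(fun (x3 : @Nat) => @And (@LT.lt.{0} @Nat @instLTNat @x3 @x0) ((x4 : @LT.lt.{0} @Nat @instLTNat @x3 @x0) → @x1 (@Fin.mk @x0 @x3 @x4)))) => @Decidable.isTrue (@Exists.{1} (@Fin @x0) @(fun (x4 : @Fin @x0) => @x1 @x4)) (@Iff.mp (@Exists.{1} @Nat @(fun (x4 : @Nat) => @And (@LT.lt.{0} @Nat @instLTNat @x4 @x0) ((x5 : @LT.lt.{0} @Nat @instLTNat @x4 @x0) → @x1 (@Fin.mk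 @x0 @x4 @x5)))) (@Exists.{1} (@Fin @x0) @(fun (x4 : @Fin @x0) => @x1 @x4)) (@Nat.decidableExistsFin._proof_1 @x0 @x1) @x3)) (@Cfsg.Agent.KO8931b23.k19 @(fun (x3 : @Nat) => ((x4 : @LT.lt.{0} @Nat @instLTNat @x3 @x0) → @x1 (@Fin.mk @x0 @x3 @x4))) @(fun (x3 : @Nat) => @Decidable.rec.{1} (@LT.lt.{0} @Nat @instLTNat @x3 @x0) @(fun (x4 : @Decidable (@LT.lt.{0} @Nat @instLTNat @x3 @x0)) => @Decidable ((x5 : @LT.lt.{0} @Nat @instLTNat @x3 @x0) → @x1 (@Fin.mk @x0 @x3 @x5))) @(fun (x4 : @Not (@LT.lt.{0} @Nat @instLTNat @x3 @x0)) => @Decidable.isTrue ((x5 : @LT.lt.{0} @Nat @instLTNat @x3 @x0) → @x1 (@Fin.mk @x0 @x3 @x5)) (@forall_prop_decidable._proof_2 (@LT.lt.{0} @Nat @instLTNat @x3 @x0) @(fun (x5 : @LT.lt.{0} @Nat @instLTNat @x3 @x0) => @x1 (@Fin.mk @x0 @x3 @x5)) @x4)) @(fun (x4 : @LT.lt.{0} @Nat @instLTNat @x3 @x0) => @Decidable.rec.{1} (@x1 (@Fin.mk @x0 @x3 @x4)) @(fun (x5 : @Decidable (@x1 (@Fin.mk @x0 @x3 @x4))) => @Decidable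 ((x6 : @LT.lt.{0} @Nat @instLTNat @x3 @x0) → @x1 (@Fin.mk @x0 @x3 @x6))) @(fun (x5 : @Not (@x1 (@Fin.mk @x0 @x3 @x4))) => @Decidable.isFalse ((x6 : @LT.lt.{0} @Nat @instLTNat @x3 @x0) → @x1 (@Fin.mk @x0 @x3 @x6)) (@decidable_of_decidable_of_iff._proof_1 (@x1 (@Fin.mk @x0 @x3 @x4)) ((x6 : @LT.lt.{0} @Nat @instLTNat @x3 @x0) → @x1 (@Fin.mk @x0 @x3 @x6)) (@forall_prop_decidable._proof_1 (@LT.lt.{0} @Nat @instLTNat @x3 @x0) @(fun (x6 : @LT.lt.{0} @Nat @instLTNat @x3 @x0) => @x1 (@Fin.mk @x0 @x3 @x6)) @x4) @x5)) @(fun (x5 : @x1 (@Fin.mk @x0 @x3 @x4)) => @Decidable.isTrue ((x6 : @LT.lt.{0} @Nat @instLTNat @x3 @x0) → @x1 (@Fin.mk @x0 @x3 @x6)) (@Iff.mp (@x1 (@Fin.mk @x0 @x3 @x4)) ((x6 : @LT.lt.{0} @Nat @instLTNat @x3 @x0) → @x1 (@Fin.mk @x0 @x3 @x6)) (@forall_prop_decidable._proof_1 (@LT.lt.{0} @Nat @instLTNat @x3 @x0) @(fun (x6 : @LT.lt.{0} @Nat @instLTNat @x3 @x0) => @x1 (@Fin.mk @x0 @x3 @x6)) @x4) @x5)) (@x2 (@Fin.mk @x0 @x3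 @x4))) (@Cfsg.Agent.KO8931b23.k21 (@Nat.succ @x3) @x0)) @x0))
private theorem _root_.Cfsg.Agent.KO8931b23.e22 : @Nat.decidableExistsFin = @_root_.Cfsg.Agent.KO8931b23.k22 := by delta _root_.Cfsg.Agent.KO8931b23.k22; rewrite [← Cfsg.Agent.KO8931b23.e21, ← Cfsg.Agent.KO8931b23.e19]; rfl'
private noncomputable def _root_.Cfsg.Agent.KO8931b23.k23 : ((x0 : Prop) → ((x1 : Prop) → ((@Decidable @x0) → ((@Decidable @x1) → @Decidable (@And @x0 @x1))))) := @(fun (x0 : Prop) (x1 : Prop) (x2 : @Decidable @x0) (x3 : @Decidable @x1) => @Decidable.rec.{1} @x0 @(fun (x4 : @Decidable @x0) => @Decidable (@And @x0 @x1)) @(fun (x4 : @Not @x0) => @Decidable.isFalse (@And @x0 @x1) (@instDecidableAnd._proof_2 @x0 @x1 @x4)) @(fun (x4 : x0) => @Decidable.rec.{1} @x1 @(fun (x5 : @Decidable @x1) => @Decidable (@And @x0 @x1)) @(fun (x5 : @Not @x1) => @Decidable.isFalse (@And @x0 @x1) (@instDecidableAnd._proof_1 @x0 @x1 @x5)) @(fun (x5 : x1) => @Decidable.isTrue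 (@And @x0 @x1) (@And.intro @x0 @x1 @x4 @x5)) @x3) @x2)
private theorem _root_.Cfsg.Agent.KO8931b23.e23 : @instDecidableAnd = @_root_.Cfsg.Agent.KO8931b23.k23 := by delta _root_.Cfsg.Agent.KO8931b23.k23; rfl'
private noncomputable def _root_.Cfsg.Agent.KO8931b23.k24 : ((x0 : @Int) → ((x1 : @Int) → @Decidable (@Eq.{1} @Int @x0 @x1))) := @(fun (x0 : @Int) (x1 : @Int) => @Int.rec.{1} @(fun (x2 : @Int) => @Decidable (@Eq.{1} @Int @x2 @x1)) @(fun (x2 : @Nat) => @Int.rec.{1} @(fun (x3 : @Int) => @Decidable (@Eq.{1} @Int (@Int.ofNat @x2) @x3)) @(fun (x3 : @Nat) => @Decidable.rec.{1} (@Eq.{1} @Nat @x2 @x3) @(fun (x4 : @Decidable (@Eq.{1} @Nat @x2 @x3)) => @Decidable (@Eq.{1} @Int (@Int.ofNat @x2) (@Int.ofNat @x3))) @(fun (x4 : @Not (@Eq.{1} @Nat @x2 @x3)) => @Decidable.isFalse (@Eq.{1} @Int (@Int.ofNat @x2) (@Int.ofNat @x3)) (@Int.decEq._proof_2 @x2 @x3 @x4)) @(fun (x4 : @Eq.{1} @Nat @x2 @x3) => @Decidable.isTrue (@Eq.{1} @Int (@Int.ofNat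 @x2) (@Int.ofNat @x3)) (@Int.decEq._proof_1 @x2 @x3 @x4)) (@Cfsg.Agent.KO8931b23.k15 @x2 @x3)) @(fun (x3 : @Nat) => @Decidable.isFalse (@Eq.{1} @Int (@Int.ofNat @x2) (@Int.negSucc @x3)) (@Int.decEq._proof_3 @x2 @x3)) @x1) @(fun (x2 : @Nat) => @Int.rec.{1} @(fun (x3 : @Int) => @Decidable (@Eq.{1} @Int (@Int.negSucc @x2) @x3)) @(fun (x3 : @Nat) => @Decidable.isFalse (@Eq.{1} @Int (@Int.negSucc @x2) (@Int.ofNat @x3)) (@Int.decEq._proof_4 @x2 @x3)) @(fun (x3 : @Nat) => @Decidable.rec.{1} (@Eq.{1} @Nat @x2 @x3) @(fun (x4 : @Decidable (@Eq.{1} @Nat @x2 @x3)) => @Decidable (@Eq.{1} @Int (@Int.negSucc @x2) (@Int.negSucc @x3))) @(fun (x4 : @Not (@Eq.{1} @Nat @x2 @x3)) => @Decidable.isFalse (@Eq.{1} @Int (@Int.negSucc @x2) (@Int.negSucc @x3)) (@Int.decEq._proof_6 @x2 @x3 @x4)) @(fun (x4 : @Eq.{1} @Nat @x2 @x3) => @Decidable.isTrue (@Eq.{1} @Int (@Int.negSucc @x2) (@Int.negSucc @x3)) (@Int.decEq._proof_5 @x2 @x3 @x4)) (@Cfsg.Agent.KO8931b23.k15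 @x2 @x3)) @x1) @x0)
private theorem _root_.Cfsg.Agent.KO8931b23.e24 : @Int.decEq = @_root_.Cfsg.Agent.KO8931b23.k24 := by delta _root_.Cfsg.Agent.KO8931b23.k24; rewrite [← Cfsg.Agent.KO8931b23.e15]; rfl'
private noncomputable def _root_.Cfsg.Agent.KO8931b23.k25 : @DecidableEq.{1} @Int := @Cfsg.Agent.KO8931b23.k24
private theorem _root_.Cfsg.Agent.KO8931b23.e25 : @Int.instDecidableEq = @_root_.Cfsg.Agent.KO8931b23.k25 := by delta _root_.Cfsg.Agent.KO8931b23.k25; rewrite [← Cfsg.Agent.KO8931b23.e24]; rfl'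
private noncomputable def _root_.Cfsg.Agent.KO8931b23.oLe.{ku} (α : Sort ku) (a b : Nat) (f t : α) : α := @Decidable.rec (@LE.le Nat instLENat a b) (fun _ => α) (fun _ => f) (fun _ => t) (Nat.decLe a b)
private noncomputable def _root_.Cfsg.Agent.KO8931b23.k26.{ku} (α : Sort ku) (a b : Nat) (f t : α) : α := @Bool.rec (fun _ => α) f t (Nat.ble a b)
private theorem _root_.Cfsg.Agent.KO8931b23.e26.{ku} : @_root_.Cfsg.Agent.KO8931b23.oLe.{ku} = @_root_.Cfsg.Agent.KO8931b23.k26.{ku} := funext fun α => funext fun a => funext fun b => funext fun f => funext fun t => by delta _root_.Cfsg.Agent.KO8931b23.oLe _root_.Cfsg.Agent.KO8931b23.k26; cases h : Nat.ble a b <;> cases Nat.decLe a b <;> rename_i g <;> first | rfl | exact absurd (h.symm.trans (Nat.ble_eq_true_of_le g)) Bool.false_ne_true | exact absurd (Nat.le_of_ble_eq_true h) g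
private noncomputable def _root_.Cfsg.Agent.KO8931b23.k27 : (by first | exact type_of% @Cfsg.Agent.ChevalleyStructure.E6Min.Tables.ent | exact Unit : Sort _) := by first | (refine @Subtype.val _ (fun g => @Cfsg.Agent.ChevalleyStructure.E6Min.Tables.ent = @g) (@Subtype.mk _ _ (@(fun (x0 : @Nat) (x1 : @Nat) => @Nat.land (@Nat.shiftRight @Cfsg.Agent.ChevalleyStructure.E6Min.Tables.TR (@Nat.mul (nat_lit 7) (@Nat.add (@Nat.mul (nat_lit 27) @x0) @x1))) (nat_lit 127))) ?_); (try delta Cfsg.Agent.ChevalleyStructure.E6Min.Tables.ent); (try generalize @Cfsg.Agent.ChevalleyStructure.E6Min.Tables.TR = g0); rfl') | exact @Cfsg.Agent.ChevalleyStructure.E6Min.Tables.ent | exact ()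
private theorem _root_.Cfsg.Agent.KO8931b23.e27 : (by first | exact @Cfsg.Agent.ChevalleyStructure.E6Min.Tables.ent = @_root_.Cfsg.Agent.KO8931b23.k27 | exact True : Prop) := by first | (delta _root_.Cfsg.Agent.KO8931b23.k27; exact @Subtype.property _ (fun g => @Cfsg.Agent.ChevalleyStructure.E6Min.Tables.ent = @g) _) | rfl | trivial
private noncomputable def _root_.Cfsg.Agent.KO8931b23.k28 : (by first | exact type_of% @Cfsg.Agent.ChevalleyStructure.E6Min.Tables.sgN | exact Unit : Sort _) := by first | (refine @Subtype.val _ (fun g => @Cfsg.Agent.ChevalleyStructure.E6Min.Tables.sgN = @g) (@Subtype.mk _ _ (@(fun (x0 : @Nat) (x1 : @Nat) => @Cfsg.Agent.KO8931b23.k26.{1} @Int (@Nat.succ (@Cfsg.Agent.KO8931b23.k27 @x0 @x1)) (nat_lit 32) (@Cfsg.Agent.KO8931b23.k26.{1} @Int (@Nat.succ (@Cfsg.Agent.KO8931b23.k27 @x0 @x1)) (nat_lit 64) (@Nat.rec.{1} @(fun (x2 : @Nat) => @Int) (@Int.ofNat (nat_lit 0)) @(fun (x2 : @Nat) (x3 : @Int) =>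 @Int.negSucc @x2) (nat_lit 1)) (@Int.ofNat (nat_lit 1))) (@Int.ofNat (nat_lit 0)))) ?_); rewrite [← Cfsg.Agent.KO8931b23.e27, ← Cfsg.Agent.KO8931b23.e26.{1}]; (try delta Cfsg.Agent.ChevalleyStructure.E6Min.Tables.sgN); (try generalize @Cfsg.Agent.ChevalleyStructure.E6Min.Tables.ent = g0); rfl') | exact @Cfsg.Agent.ChevalleyStructure.E6Min.Tables.sgN | exact ()
private theorem _root_.Cfsg.Agent.KO8931b23.e28 : (by first | exact @Cfsg.Agent.ChevalleyStructure.E6Min.Tables.sgN = @_root_.Cfsg.Agent.KO8931b23.k28 | exact True : Prop) := by first | (delta _root_.Cfsg.Agent.KO8931b23.k28; exact @Subtype.property _ (fun g => @Cfsg.Agent.ChevalleyStructure.E6Min.Tables.sgN = @g) _) | rfl | trivial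
private noncomputable def _root_.Cfsg.Agent.KO8931b23.k29 : (by first | exact type_of% @Cfsg.Agent.ChevalleyStructure.E6Min.Tables.code | exact Unit : Sort _) := by first | (refine @Subtype.val _ (fun g => @Cfsg.Agent.ChevalleyStructure.E6Min.Tables.code = @g) (@Subtype.mk _ _ (@(fun (x0 : @Cfsg.Lie.I27) => @Nat.add (@Nat.add (@Nat.mul (nat_lit 9) (@Fin.val (nat_lit 3) (@Prod.fst.{0, 0} (@Fin (@OfNat.ofNat.{0} @Nat (nat_lit 3) (@instOfNatNat (nat_lit 3)))) (@Prod.{0, 0} (@Fin (@OfNat.ofNat.{0} @Nat (nat_lit 3) (@instOfNatNat (nat_lit 3)))) (@Fin (@OfNat.ofNat.{0} @Nat (nat_lit 3) (@instOfNatNat (nat_lit 3))))) @x0))) (@Nat.mul (nat_lit 3) (@Fin.val (nat_lit 3) (@Prod.fst.{0, 0} (@Fin (@OfNat.ofNat.{0} @Nat (nat_lit 3) (@instOfNatNat (nat_lit 3)))) (@Fin (@OfNat.ofNat.{0} @Nat (nat_lit 3) (@instOfNatNat (nat_lit 3)))) (@Prod.snd.{0, 0} (@Fin (@OfNat.ofNat.{0} @Nat (nat_lit 3) (@instOfNatNat (nat_lit 3)))) (@Prod.{0, 0} (@Fin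 (@OfNat.ofNat.{0} @Nat (nat_lit 3) (@instOfNatNat (nat_lit 3)))) (@Fin (@OfNat.ofNat.{0} @Nat (nat_lit 3) (@instOfNatNat (nat_lit 3))))) @x0))))) (@Fin.val (nat_lit 3) (@Prod.snd.{0, 0} (@Fin (@OfNat.ofNat.{0} @Nat (nat_lit 3) (@instOfNatNat (nat_lit 3)))) (@Fin (@OfNat.ofNat.{0} @Nat (nat_lit 3) (@instOfNatNat (nat_lit 3)))) (@Prod.snd.{0, 0} (@Fin (@OfNat.ofNat.{0} @Nat (nat_lit 3) (@instOfNatNat (nat_lit 3)))) (@Prod.{0, 0} (@Fin (@OfNat.ofNat.{0} @Nat (nat_lit 3) (@instOfNatNat (nat_lit 3)))) (@Fin (@OfNat.ofNat.{0} @Nat (nat_lit 3) (@instOfNatNat (nat_lit 3))))) @x0))))) ?_); rfl') | exact @Cfsg.Agent.ChevalleyStructure.E6Min.Tables.code | exact ()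
private theorem _root_.Cfsg.Agent.KO8931b23.e29 : (by first | exact @Cfsg.Agent.ChevalleyStructure.E6Min.Tables.code = @_root_.Cfsg.Agent.KO8931b23.k29 | exact True : Prop) := by first | (delta _root_.Cfsg.Agent.KO8931b23.k29; exact @Subtype.property _ (fun g => @Cfsg.Agent.ChevalleyStructure.E6Min.Tables.code = @g) _) | rfl | trivial
private noncomputable def _root_.Cfsg.Agent.KO8931b23.k30 : (by first | exact type_of% @Cfsg.Agent.ChevalleyStructure.E6Min.Basic.sg | exact Unit : Sort _) := by first | (refine @Subtype.val _ (fun g => @Cfsg.Agent.ChevalleyStructure.E6Min.Basic.sg = @g) (@Subtype.mk _ _ (@(fun (x0 : @Nat) (x1 : @Cfsg.Lie.I27) => @Cfsg.Agent.KO8931b23.k28 @x0 (@Cfsg.Agent.KO8931b23.k29 @x1))) ?_); rewrite [← Cfsg.Agent.KO8931b23.e29, ← Cfsg.Agent.KO8931b23.e28]; (try delta Cfsg.Agent.ChevalleyStructure.E6Min.Basic.sg); (try generalize @Cfsg.Agent.ChevalleyStructure.E6Min.Tables.sgN = g0); (try generalize @Cfsg.Agent.ChevalleyStructure.E6Min.Tables.code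 = g1); rfl') | exact @Cfsg.Agent.ChevalleyStructure.E6Min.Basic.sg | exact ()
private theorem _root_.Cfsg.Agent.KO8931b23.e30 : (by first | exact @Cfsg.Agent.ChevalleyStructure.E6Min.Basic.sg = @_root_.Cfsg.Agent.KO8931b23.k30 | exact True : Prop) := by first | (delta _root_.Cfsg.Agent.KO8931b23.k30; exact @Subtype.property _ (fun g => @Cfsg.Agent.ChevalleyStructure.E6Min.Basic.sg = @g) _) | rfl | trivial

theorem chk_sep : ∀ x y : I27, x ≠ y → ∃ r : Fin 72, sg r x ≠ 0 ∧ sg r y = 0 := by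
  (first | (refine of_decide_eq_true ?_; rewrite [Cfsg.Agent.KO8931b23.e0, Cfsg.Agent.KO8931b23.e11.{0}, Cfsg.Agent.KO8931b23.e12, Cfsg.Agent.KO8931b23.e13, Cfsg.Agent.KO8931b23.e14.{0, 0}, Cfsg.Agent.KO8931b23.e16, Cfsg.Agent.KO8931b23.e22, Cfsg.Agent.KO8931b23.e23, Cfsg.Agent.KO8931b23.e25, Cfsg.Agent.KO8931b23.e30]; decide +kernel) | decide +kernel)

private noncomputable def _root_.Cfsg.Agent.KO8931b23.k31 : (by first | exact type_of% @Cfsg.Agent.ChevalleyStructure.E6Min.Basic.sr | exact Unit : Sort _) := by first | (refine @Subtype.val _ (fun g => @Cfsg.Agent.ChevalleyStructure.E6Min.Basic.sr = @g) (@Subtype.mk _ _ (@(fun (x0 : @Nat) (x1 : @Cfsg.Lie.I27) => @Cfsg.Agent.ChevalleyStructure.E6Min.Tables.dec (@Nat.land (@Cfsg.Agent.KO8931b23.k27 @x0 (@Cfsg.Agent.KO8931b23.k29 @x1)) (nat_lit 31)))) ?_); rewrite [← Cfsg.Agent.KO8931b23.e29, ← Cfsg.Agent.KO8931b23.e27]; (try delta Cfsg.Agent.ChevalleyStructure.E6Min.Basic.sr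 Cfsg.Agent.ChevalleyStructure.E6Min.Tables.srN); (try generalize @Cfsg.Agent.ChevalleyStructure.E6Min.Tables.dec = g0); (try generalize @Cfsg.Agent.ChevalleyStructure.E6Min.Tables.ent = g1); (try generalize @Cfsg.Agent.ChevalleyStructure.E6Min.Tables.code = g2); rfl') | exact @Cfsg.Agent.ChevalleyStructure.E6Min.Basic.sr | exact ()
private theorem _root_.Cfsg.Agent.KO8931b23.e31 : (by first | exact @Cfsg.Agent.ChevalleyStructure.E6Min.Basic.sr = @_root_.Cfsg.Agent.KO8931b23.k31 | exact True : Prop) := by first | (delta _root_.Cfsg.Agent.KO8931b23.k31; exact @Subtype.property _ (fun g => @Cfsg.Agent.ChevalleyStructure.E6Min.Basic.sr = @g) _) | rfl | trivial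

theorem chk_conn : ∀ x : I27, ∃ r : Fin 72, (x = dec 0 ∨ (sg r x ≠ 0 ∧ sr r x = dec 0)) ∨
    ∃ s : Fin 72, sg r x ≠ 0 ∧ sg s (sr r x) ≠ 0 ∧ sr s (sr r x) = dec 0 := by
  (first | (refine of_decide_eq_true ?_; rewrite [Cfsg.Agent.KO8931b23.e0, Cfsg.Agent.KO8931b23.e11.{0}, Cfsg.Agent.KO8931b23.e22, Cfsg.Agent.KO8931b23.e18, Cfsg.Agent.KO8931b23.e14.{0, 0}, Cfsg.Agent.KO8931b23.e16, Cfsg.Agent.KO8931b23.e23, Cfsg.Agent.KO8931b23.e13, Cfsg.Agent.KO8931b23.e25, Cfsg.Agent.KO8931b23.e30, Cfsg.Agent.KO8931b23.e31]; decide +kernel) | decide +kernel)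

private noncomputable def _root_.Cfsg.Agent.KO8931b23.k32l (n : Nat) (P : ∀ k, k < n → Prop) (H : ∀ k h, Decidable (P k h)) (m : Nat) : m ≤ n → Bool := @Nat.rec (fun m => m ≤ n → Bool) (fun _ => true) (fun k ih h => @Decidable.rec (P k h) (fun _ => Bool) (fun _ => false) (fun _ => ih (Nat.le_of_succ_le h)) (H k h)) m
private theorem _root_.Cfsg.Agent.KO8931b23.k32ls (n : Nat) (P : ∀ k, k < n → Prop) (H : ∀ k h, Decidable (P k h)) (m : Nat) : ∀ h : m ≤ n, _root_.Cfsg.Agent.KO8931b23.k32l n P H m h = true ↔ ∀ k (g : k < m), P k (Nat.lt_of_lt_of_le g h) := by induction m with | zero => exact fun _ => ⟨fun _ _ g => absurd g (Nat.not_lt_zero _), fun _ => rfl⟩ | succ m ih => intro h; show @Decidable.rec (P m h) (fun _ => Bool) (fun _ => false) (fun _ => _root_.Cfsg.Agent.KO8931b23.k32l n P H m (Nat.le_of_succ_le h)) (H m h) = true ↔ _; cases H m h with | isFalse q => exact ⟨fun g => absurd g Bool.false_ne_true, fun g => absurd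 (g m (Nat.lt_succ_self m)) q⟩ | isTrue q => exact ⟨fun g k hk => (Nat.lt_succ_iff_lt_or_eq.1 hk).elim ((ih _).1 g k) fun e => by subst e; exact q, fun g => (ih _).2 fun k hk => g k (Nat.lt_succ_of_lt hk)⟩
private noncomputable def _root_.Cfsg.Agent.KO8931b23.k32 (n : Nat) (P : ∀ k, k < n → Prop) (H : ∀ k h, Decidable (P k h)) : Decidable (∀ k h, P k h) := @Bool.rec (fun b => _root_.Cfsg.Agent.KO8931b23.k32l n P H n (Nat.le_refl n) = b → Decidable (∀ k h, P k h)) (fun g => isFalse fun q => Bool.false_ne_true (g.symm.trans ((_root_.Cfsg.Agent.KO8931b23.k32ls n P H n _).2 fun k h => q k h))) (fun g => isTrue fun k h => (_root_.Cfsg.Agent.KO8931b23.k32ls n P H n _).1 g k h) (_root_.Cfsg.Agent.KO8931b23.k32l n P H n (Nat.le_refl n)) rfl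
private theorem _root_.Cfsg.Agent.KO8931b23.e32 : @Nat.decidableBallLT = @_root_.Cfsg.Agent.KO8931b23.k32 := funext fun _ => funext fun _ => funext fun _ => Subsingleton.elim _ _
private noncomputable def _root_.Cfsg.Agent.KO8931b23.k33 : ((x0 : @Nat) → ((x1 : ((@Fin @x0) → Prop)) → ((@DecidablePred.{1} (@Fin @x0) @x1) → @Decidable ((x3 : @Fin @x0) → @x1 @x3)))) := @(fun (x0 : @Nat) (x1 : ((@Fin @x0) → Prop)) (x2 : @DecidablePred.{1} (@Fin @x0) @x1) => @Decidable.rec.{1} ((x3 : @Nat) → ((x4 : @LT.lt.{0} @Nat @instLTNat @x3 @x0) → @x1 (@Fin.mk @x0 @x3 @x4))) @(fun (x3 : @Decidable ((x3 : @Nat) → ((x4 : @LT.lt.{0} @Nat @instLTNat @x3 @x0) → @x1 (@Fin.mk @x0 @x3 @x4)))) => @Decidable ((x4 : @Fin @x0) → @x1 @x4)) @(fun (x3 : @Not ((x3 : @Nat) → ((x4 : @LT.lt.{0} @Nat @instLTNat @x3 @x0) → @x1 (@Fin.mk @x0 @x3 @x4)))) => @Decidable.isFalse ((x4 : @Fin @x0) → @x1 @x4) (@decidable_of_decidable_of_iff._proof_1 ((x4 : @Nat) → ((x5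 : @LT.lt.{0} @Nat @instLTNat @x4 @x0) → @x1 (@Fin.mk @x0 @x4 @x5))) ((x4 : @Fin @x0) → @x1 @x4) (@Nat.decidableForallFin._proof_1 @x0 @x1) @x3)) @(fun (x3 : ((x3 : @Nat) → ((x4 : @LT.lt.{0} @Nat @instLTNat @x3 @x0) → @x1 (@Fin.mk @x0 @x3 @x4)))) => @Decidable.isTrue ((x4 : @Fin @x0) → @x1 @x4) (@Iff.mp ((x4 : @Nat) → ((x5 : @LT.lt.{0} @Nat @instLTNat @x4 @x0) → @x1 (@Fin.mk @x0 @x4 @x5))) ((x4 : @Fin @x0) → @x1 @x4) (@Nat.decidableForallFin._proof_1 @x0 @x1) @x3)) (@Cfsg.Agent.KO8931b23.k32 @x0 @(fun (x3 : @Nat) (x4 : @LT.lt.{0} @Nat @instLTNat @x3 @x0) => @x1 (@Fin.mk @x0 @x3 @x4)) @(fun (x3 : @Nat) (x4 : @LT.lt.{0} @Nat @instLTNat @x3 @x0) => @x2 (@Fin.mk @x0 @x3 @x4))))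
private theorem _root_.Cfsg.Agent.KO8931b23.e33 : @Nat.decidableForallFin = @_root_.Cfsg.Agent.KO8931b23.k33 := by delta _root_.Cfsg.Agent.KO8931b23.k33; rewrite [← Cfsg.Agent.KO8931b23.e32]; rfl'

theorem chk_sg : ∀ (r : Fin 72) (x : I27), sg r x = 0 ∨ sg r x = 1 ∨ sg r x = -1 := by
  (first | (refine of_decide_eq_true ?_; rewrite [Cfsg.Agent.KO8931b23.e0, Cfsg.Agent.KO8931b23.e33, Cfsg.Agent.KO8931b23.e11.{0}, Cfsg.Agent.KO8931b23.e18, Cfsg.Agent.KO8931b23.e25, Cfsg.Agent.KO8931b23.e30]; decide +kernel) | decide +kernel)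

theorem sg_ne_zero {r : ℕ} (hr : r < 72) {x : I27} (h : sg r x ≠ 0) : ((sg r x : ℤ) : F) ≠ 0 := by
  rcases chk_sg ⟨r, hr⟩ x with h1 | h1 | h1
  · exact absurd h1 h
  · change sg r x = 1 at h1
    rw [h1, Int.cast_one]; exact one_ne_zero
  · change sg r x = -1 at h1
    rw [h1, Int.cast_neg, Int.cast_one]; exact neg_ne_zero.2 one_ne_zero

/-- Matrices commuting with all the `N_r` are scalar (after helper689). -/
theorem scalar_of_comm {g : Matrix I27 I27 F}
    (h : ∀ r < 72, g * Nm F r = Nm F r * g) : g = g (dec 0) (dec 0) • 1 := by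
  have hoff : ∀ x y, x ≠ y → g x y = 0 := by
    intro x y hxy
    obtain ⟨r, h1, h2⟩ := chk_sep x y hxy
    have h3 : g * (Nm F r * Nm F (71 - r)) = (Nm F r * Nm F (71 - r)) * g := by
      rw [← mul_assoc, h r r.2, mul_assoc, h (71 - r) (by omega), ← mul_assoc]
    rw [Nm_mul_opp r.2] at h3
    have h4 := congrFun (congrFun h3 x) y
    rw [Matrix.mul_diagonal, Matrix.diagonal_mul, ind_of_ne h1, ind_of_eq h2] at h4
    simpa using h4.symm
  have hstep : ∀ (r : ℕ), r < 72 → ∀ x : I27, sg r x ≠ 0 → g x x = g (sr r x) (sr r x) := by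
    intro r hr x hx
    have h3 := congrFun (congrFun (h r hr) x) (sr r x)
    rw [Nm_mul_apply, Matrix.mul_apply, Finset.sum_eq_single x] at h3
    · rw [Nm_apply, if_pos rfl, mul_comm] at h3
      exact mul_left_cancel₀ (sg_ne_zero hr hx) h3
    · intro z _ hz
      rw [hoff x z hz.symm, zero_mul]
    · intro h; exact absurd (Finset.mem_univ _) h
  ext x y
  rw [Matrix.smul_apply, smul_eq_mul]
  rcases eq_or_ne x y with rfl | hxy
  · rw [Matrix.one_apply_eq, mul_one]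
    obtain ⟨r, h1 | ⟨s, h1, h2, h3⟩⟩ := chk_conn x
    · rcases h1 with h1 | ⟨h1, h2⟩
      · rw [h1]
      · rw [hstep r r.2 x h1, h2]
    · rw [hstep r r.2 x h1, hstep s s.2 _ h2, h3]
  · rw [Matrix.one_apply_ne hxy, mul_zero, hoff x y hxy]

/-- the kernel of `ad` consists of scalar matrices -/
theorem ker_scalar {g : ↥(Zgrp F)} (hg : ad F g = 1) :
    ∃ c : F, c ^ 3 = 1 ∧ ((g : GL I27 F) : Matrix I27 I27 F) = c • 1 := by
  have h1 := scalar_of_comm (g := ((g : GL I27 F) : Matrix I27 I27 F))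
    (fun r hr => comm_B_of_ker hg (Sum.inr ⟨r, hr⟩))
  set c := ((g : GL I27 F) : Matrix I27 I27 F) (dec 0) (dec 0) with hc
  refine ⟨c, ?_, h1⟩
  have h2 := Cfsg.Agent.ChevalleyStructure.E6Min.Inv.Zgrp_le F g.2
    (Cfsg.Agent.H952.F4.u0 F)
  change cubicT (((g : GL I27 F) : Matrix I27 I27 F).mulVec _) = _ at h2
  rw [h1, Matrix.smul_mulVec, Matrix.one_mulVec, Cfsg.Agent.H952.F4.Jord.N_smul,
    Cfsg.Agent.H952.F4.Jord.N_u0, mul_one] at h2
  exact h2

theorem V_injective {g h : ↥(Zgrp F)} (hgh : ∀ x, V F g x = V F h x) : g = h := by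
  apply Subtype.ext
  apply Units.ext
  ext a b
  have h1 := congrFun (hgh (Pi.single b 1)) a
  rw [V_apply, V_apply, Matrix.mulVec_single_one, Matrix.mulVec_single_one] at h1
  exact h1

/-- the kernel of `ad` has exponent 3 and is central -/
theorem ker_pow {g : ↥(Zgrp F)} (hg : ad F g = 1) : g ^ 3 = 1 ∧ ∀ x : ↥(Zgrp F), x * g = g * x := by
  constructor
  · obtain ⟨c, hc, h⟩ := ker_scalar hg
    apply Subtype.ext
    apply Units.ext
    show (((g : GL I27 F) ^ 3 : GL I27 F) : Matrix I27 I27 F) = 1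
    rw [Units.val_pow_eq_pow_val, h, smul_pow, one_pow, hc, one_smul]
  · have h1 : g ∈ (ad F).ker := hg
    rw [ker_ad, Subgroup.mem_center_iff] at h1
    exact h1

end scalar

theorem exists_frob {F : Type u} {E : Type v} [Field F] [Field E] [Fintype F] [Fintype E] (f : F →+* E) :
    ∃ s : E →+* E, ∀ x, s x = x ^ Fintype.card F := by
  obtain ⟨p, hp⟩ := CharP.exists F
  have hpE : CharP E p := charP_of_injective_ringHom f.injective p
  obtain ⟨n, hpp, hn⟩ := FiniteField.card F p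
  have : Fact p.Prime := ⟨hpp⟩
  exact ⟨iterateFrobenius E p n, fun x => by rw [iterateFrobenius_def, hn]⟩

/-- the two one-parameter groups -/
theorem mat_key {E : Type u} [Field E] {n : Type*} [Fintype n] [DecidableEq n] {N N' : Matrix n n E} (hN : N ≠ 0)
    (h2 : N * N = 0) (h2' : N' * N' = 0) {a b c : E} (h : (1 + a • N') * (1 + b • N) = c • 1) :
    a • N' = -(b • N) := by
  have h3 : (1 + b • N) * (1 - b • N) = 1 := by
    rw [add_mul, mul_sub, mul_sub, one_mul, one_mul, mul_one, smul_mul_smul_comm, h2, smul_zero]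
    abel
  have h4 : 1 + a • N' = c • (1 - b • N) := by
    calc 1 + a • N' = (1 + a • N') * ((1 + b • N) * (1 - b • N)) := by rw [h3, mul_one]
      _ = c • (1 - b • N) := by rw [← mul_assoc, h, smul_mul_assoc, one_mul]
  have h5 : a • N' = (c - 1) • (1 : Matrix n n E) - (c * b) • N := by
    rw [← sub_eq_iff_eq_add'.2 h4.symm]
    rw [smul_sub, smul_smul, sub_smul, one_smul]
    abel
  have h6 : (a • N') * (a • N') = 0 := by rw [smul_mul_smul_comm, h2', smul_zero]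
  rw [h5] at h6
  have h9 : c - 1 = 0 := by
    have h8 := congrArg (fun M => M * N) h6
    simp only [sub_mul, mul_sub, smul_mul_assoc, mul_smul_comm, one_mul, mul_one, h2, smul_zero, sub_zero,
      zero_mul, smul_smul] at h8
    rcases smul_eq_zero.1 h8 with h | h
    · exact mul_self_eq_zero.1 (by linear_combination h)
    · exact absurd h hN
  have h10 : c = 1 := sub_eq_zero.1 h9
  rw [h5, h10, sub_self, zero_smul, zero_sub, one_mul]

seal _root_.Finset.sum _root_.dotProduct in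
/-- **descent of a one-parameter group of root elements** -/
theorem exists_of_ext {F : Type u} [Field F] [Finite F] {E : Type v} [Field E] [Finite E] (f : F →+* E)
    (hE : Nat.card E = Nat.card F ^ 2) {B : Subgroup ↥(Zgrp F)}
    (h : ∃ n : (I27 → E) →ₗ[E] (I27 → E), n ≠ 0 ∧ (∀ x, n (n x) = 0) ∧
      (∀ t : E, ∃ z : ↥(Zgrp E), ∀ x, V E z x = x + t • n x) ∧
      ∀ b ∈ B, ∀ x, V E (emb f b) (n x) = n (V E (emb f b) x)) :
    ∃ z : ↥(Zgrp F), ad F z ≠ 1 ∧ ∀ b ∈ B, b * z = z * b := by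
  have := Fintype.ofFinite F
  have := Fintype.ofFinite E
  obtain ⟨s, hs⟩ := exists_frob f
  obtain ⟨n, hn0, hn2, hz, hnb⟩ := h
  by_contra hcon
  push Not at hcon
  have hcE : Fintype.card E = Fintype.card F ^ 2 := by
    rwa [Nat.card_eq_fintype_card, Nat.card_eq_fintype_card] at hE
  have hss : s.comp s = RingHom.id E := by
    ext x
    rw [RingHom.comp_apply, hs, hs, ← pow_mul, ← pow_two, ← hcE, FiniteField.pow_card]
    rfl
  have hσσ : ∀ z : ↥(Zgrp E), emb s (emb s z) = z := fun z => by rw [emb_emb, hss, emb_id]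
  let C : Subgroup ↥(Zgrp E) := Subgroup.centralizer ((B.map (emb f) : Subgroup ↥(Zgrp E)) : Set ↥(Zgrp E))
  have memC : ∀ x, x ∈ C ↔ ∀ b ∈ B, emb f b * x = x * emb f b := by
    intro x
    rw [Subgroup.mem_centralizer_iff]
    constructor
    · exact fun h b hb => h _ ⟨b, hb, rfl⟩
    · rintro h _ ⟨b, hb, rfl⟩
      exact h b hb
  have hσC : ∀ x ∈ C, emb s x ∈ C := by
    intro x hx
    rw [memC] at hx ⊢
    intro b hb
    have h1 := congrArg (emb s) (hx b hb)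
    rw [map_mul, map_mul, emb_frob f s hs] at h1
    exact h1
  -- fixed elements
  have hfix : ∀ x ∈ C, emb s x = x → ad E x = 1 := by
    intro x hx hsx
    obtain ⟨z, rfl⟩ := Cfsg.Agent.H65.E6Full.exists_of_emb_eq_all f s hs x hsx
    rw [ad_emb_eq_one_iff]
    by_contra h1
    obtain ⟨b, hb, hne⟩ := hcon z h1
    apply hne
    apply emb_injective f
    rw [map_mul, map_mul]
    exact (memC _).1 hx b hb
  have hfix2 : ∀ x ∈ C, ad E (emb s x) = ad E x → ad E x = 1 := by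
    intro x hx h1
    set! c := x⁻¹ * emb s x with hc
    have hc1 : ad E c = 1 := by rw [hc, map_mul, map_inv, h1, inv_mul_cancel]
    obtain ⟨hc3, hcc⟩ := ker_pow hc1
    have hsx : emb s x = x * c := by rw [hc, mul_inv_cancel_left]
    have hsc : emb s c = c⁻¹ := by
      have h2 := hσσ x
      rw [hsx, map_mul, hsx, mul_assoc] at h2
      have h3 : c * emb s c = 1 := mul_left_cancel (h2.trans (mul_one x).symm)
      exact ((inv_eq_of_mul_eq_one_right (h3 :)).symm :)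
    have hcC : c ∈ C := by
      rw [memC]
      exact fun b _ => hcc _
    have h4 := hfix (x * c⁻¹) (mul_mem hx (inv_mem hcC)) (by
      rw [map_mul, map_inv, hsx, hsc, inv_inv]
      have h5 : c * c = c⁻¹ := by
        rw [eq_inv_iff_mul_eq_one, ← pow_two, ← pow_succ, hc3]
      rw [mul_assoc, h5])
    rw [map_mul, map_inv, hc1, inv_one, mul_one] at h4
    exact h4
  -- the quotient
  let a : C →* ↥(chevE6.group E) := (ad E).comp C.subtype
  let ψ : C →* C := ((emb s).comp C.subtype).codRestrict C fun x => hσC x x.2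
  have hK : a.ker ≤ a.ker.comap ψ := by
    intro x hx
    rw [Subgroup.mem_comap, MonoidHom.mem_ker]
    exact (ad_emb_eq_one_iff s (x : ↥(Zgrp E))).2 (MonoidHom.mem_ker.1 hx)
  let φ : (C ⧸ a.ker) →* (C ⧸ a.ker) := QuotientGroup.map a.ker a.ker ψ hK
  have hφ : (MonoidHom.FixedPointFree φ :) := by
    intro q hq
    induction q using QuotientGroup.induction_on with
    | H x =>
      have h1 : (QuotientGroup.mk (ψ x) : C ⧸ a.ker) = QuotientGroup.mk x := hq
      rw [QuotientGroup.eq] at h1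
      have h2 : ad E ((emb s (x : ↥(Zgrp E)))⁻¹ * x) = 1 := h1
      rw [map_mul, map_inv, inv_mul_eq_one] at h2
      exact (QuotientGroup.eq_one_iff x).2 (hfix2 x x.2 h2)
  have hφ2 : φ^[2] = _root_.id := by
    funext q
    induction q using QuotientGroup.induction_on with
    | H x =>
      show (QuotientGroup.mk (ψ (ψ x)) : C ⧸ a.ker) = QuotientGroup.mk x
      congr 1
      exact Subtype.ext (hσσ x)
  have hfin : Finite ↥(Zgrp E) := inferInstance
  have hfinq : Finite (C ⧸ a.ker) := inferInstance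
  have hinv := hφ.coe_eq_inv_of_sq_eq_one hφ2
  have key : ∀ x ∈ C, ad E (emb s x * x) = 1 := by
    intro x hx
    have h1 := congrFun hinv (QuotientGroup.mk (⟨x, hx⟩ : C))
    have h2 : (QuotientGroup.mk (ψ ⟨x, hx⟩) : C ⧸ a.ker) = (QuotientGroup.mk (⟨x, hx⟩ : C))⁻¹ := h1
    rw [eq_inv_iff_mul_eq_one, ← QuotientGroup.mk_mul] at h2
    exact (QuotientGroup.eq_one_iff (ψ ⟨x, hx⟩ * ⟨x, hx⟩ :)).1 h2
  -- the one-parameter group
  choose z hzz using hz
  let N : Matrix I27 I27 E := LinearMap.toMatrix' n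
  have hNn : ∀ x, N.mulVec x = n x := fun x => LinearMap.toMatrix'_mulVec n x
  have hN0 : N ≠ 0 := fun h0 => hn0 (LinearMap.toMatrix'.injective (h0.trans (map_zero _).symm))
  have hN2 : N * N = 0 := by
    have h1 : n.comp n = 0 := LinearMap.ext hn2
    have h2 : LinearMap.toMatrix' (n.comp n) = N * N := LinearMap.toMatrix'_comp n n
    rw [← h2, h1, map_zero]
  have hzm : ∀ t, ((z t : GL I27 E) : Matrix I27 I27 E) = 1 + t • N := by
    intro t
    apply Matrix.toLin'.injective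
    refine LinearMap.ext fun x => ?_
    rw [Matrix.toLin'_apply, Matrix.toLin'_apply, Matrix.add_mulVec, Matrix.one_mulVec, Matrix.smul_mulVec, hNn]
    exact hzz t x
  have hzC : ∀ t, z t ∈ C := by
    intro t
    rw [memC]
    intro b hb
    apply V_injective
    intro x
    rw [map_mul, map_mul]
    show V E (emb f b) (V E (z t) x) = V E (z t) (V E (emb f b) x)
    rw [hzz, hzz, map_add, map_smul, hnb b hb]
  let N' : Matrix I27 I27 E := N.map s
  have hN2' : N' * N' = 0 := by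
    show N.map s * N.map s = 0
    rw [← Matrix.map_mul, hN2]
    ext i j
    simp
  have hst : ∀ t, s t • N' = -(t • N) := by
    intro t
    obtain ⟨c, -, hc⟩ := ker_scalar (key (z t) (hzC t))
    have h1 : ((emb s (z t) * z t : ↥(Zgrp E)) : GL I27 E) = (emb s (z t) : GL I27 E) * (z t : GL I27 E) := rfl
    rw [h1, Units.val_mul, coe_emb, hzm] at hc
    have h2 : (1 + t • N).map s = 1 + s t • N' := by
      ext i j
      simp only [Matrix.map_apply, Matrix.add_apply, Matrix.smul_apply, smul_eq_mul, map_add, map_mul,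
        Matrix.one_apply, apply_ite s, map_one, map_zero]
      rfl
    rw [h2] at hc
    exact mat_key hN0 hN2 hN2' hc
  have hN' : N' = -N := by
    have h1 := hst 1
    rwa [map_one, one_smul, one_smul] at h1
  have hsid : ∀ t, s t = t := by
    intro t
    have h1 := hst t
    rw [hN', smul_neg, neg_inj] at h1
    have h2 : (s t - t) • N = 0 := by rw [sub_smul, h1, sub_self]
    exact sub_eq_zero.1 ((smul_eq_zero.1 h2).resolve_right hN0)
  have hsurj : Function.Surjective f := fun x => mem_range_of_pow f (by rw [← hs, hsid])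
  have h1 := Fintype.card_le_of_surjective f hsurj
  have h2 : 1 < Fintype.card F := Fintype.one_lt_card
  rw [hcE] at h1
  nlinarith only [h1, h2]

/-- `Sing.three_ext` from `three_root` over the extension field -/
theorem three_ext_of {F : Type u} [Field F] [Finite F] {E : Type u} [Field E] [Finite E]
    (hroot : ∀ (ρ : Representation E ↥(Zgrp E) (I27 → E)) (_ : ρ = V E ∨ ρ = V' E) {B : Subgroup ↥(Zgrp E)}
      (_ : ∀ θ : ↥B →* GL (Fin 2) E, ∀ b, θ b = 1) {W : Submodule E (I27 → E)} (_ : finrank E ↥W = 3) (_ : TS W)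
      (_ : ∀ b ∈ B, ∀ w ∈ W, ρ b w ∈ W), ∃ n : (I27 → E) →ₗ[E] (I27 → E), n ≠ 0 ∧ (∀ x, n (n x) = 0) ∧
        (∀ t : E, ∃ z : ↥(Zgrp E), ∀ x, V E z x = x + t • n x) ∧ ∀ b ∈ B, ∀ x, V E b (n x) = n (V E b x))
    (f : F →+* E) (hE : Nat.card E = Nat.card F ^ 2) (j : ↥(Zgrp F) →* ↥(Zgrp E))
    (hj : ∀ (g : ↥(Zgrp F)) (x : I27 → F), V E (j g) (fun i => f (x i)) = fun i => f (V F g x i))
    (ρ : Representation E ↥(Zgrp E) (I27 → E)) (hρ : ρ = V E ∨ ρ = V' E) {B : Subgroup ↥(Zgrp F)}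
    (hB : ∀ θ : ↥B →* GL (Fin 2) E, ∀ b, θ b = 1) {W : Submodule E (I27 → E)} (h3 : finrank E ↥W = 3) (hW : TS W)
    (hst : ∀ b ∈ B, ∀ w ∈ W, ρ (j b) w ∈ W) : ∃ z : ↥(Zgrp F), ad F z ≠ 1 ∧ ∀ b ∈ B, b * z = z * b := by
  have hj' := Cfsg.Agent.H163.E6.Sing.emb_unique f j hj
  subst hj'
  obtain ⟨n, h1, h2, h4, h5⟩ := hroot ρ hρ (B := B.map (emb f)) (fun θ b => by
    obtain ⟨b, c, hc, rfl⟩ := b
    exact hB (θ.comp ((emb f).subgroupMap B)) ⟨c, hc⟩) h3 hW (by
    rintro _ ⟨b, hb, rfl⟩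
    exact hst b hb)
  exact exists_of_ext f hE ⟨n, h1, h2, h4, fun b hb => h5 _ ⟨b, hb, rfl⟩⟩

end Cfsg.Agent.H65.E6Ext
end
end

-- part: R2/H8/NoFix/Desc
section
set_option linter.all false
open scoped Cfsg.Agent.FastGrp

/-!
# S5749, S5750, box NOFIX: descent (helper8)

* `exists_rational` : a non-zero subspace of `k^n` stable under the coordinatewise Frobenius map contains a non-zero vector
  with coordinates in `F`;
* `ext_rat` : such a subspace is defined over `F`.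
-/

set_option autoImplicit false

namespace Cfsg.Agent.R2.H8.NoFix.Desc

open Module
open Cfsg.Agent.H65.E6Emb (ext mem_ext_iff mem_ext_of_mem ext_le finrank_ext mem_range_of_pow)

universe u v w

variable {F : Type u} [Field F] [Fintype F] {k : Type v} [Field k] (f : F →+* k) {n : Type w} [Fintype n]
  {s : k →+* k} (hs : ∀ x, s x = x ^ Fintype.card F)

include hs

omit [Fintype F] hs in
/-- vectors of minimal support, any semilinear map -/
theorem exists_fixed {t : k →+* k} {Y : Submodule k (n → k)} (hY : ∀ y ∈ Y, (fun i => t (y i)) ∈ Y) (h0 : Y ≠ ⊥) :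
    ∃ y ∈ Y, y ≠ 0 ∧ ∀ i, t (y i) = y i := by
  classical
  have hex : ∃ c : ℕ, ∃ y ∈ Y, y ≠ 0 ∧ (Finset.univ.filter fun i => y i ≠ 0).card = c := by
    obtain ⟨y, hy, hy0⟩ := Submodule.exists_mem_ne_zero_of_ne_bot h0
    exact ⟨_, y, hy, hy0, rfl⟩
  obtain ⟨y, hy, hy0, hc⟩ := Nat.find_spec hex
  have hmin : ∀ z ∈ Y, (Finset.univ.filter fun i => z i ≠ 0).card < (Finset.univ.filter fun i => y i ≠ 0).card →
      z = 0 := by
    intro z hz hlt
    by_contra hz0
    rw [hc] at hlt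
    exact Nat.find_min hex hlt ⟨z, hz, hz0, rfl⟩
  obtain ⟨i0, hi0⟩ : ∃ i, y i ≠ 0 := by
    by_contra h
    push Not at h
    exact hy0 (funext h)
  let x : n → k := (y i0)⁻¹ • y
  have hx : x ∈ Y := Y.smul_mem _ hy
  have hx1 : x i0 = 1 := by
    show (y i0)⁻¹ * y i0 = 1
    exact inv_mul_cancel₀ hi0
  have hx2 : (fun i => t (x i)) - x = 0 := by
    refine hmin _ (Y.sub_mem (hY x hx) hx) ?_
    apply Finset.card_lt_card
    rw [Finset.ssubset_iff_of_subset]
    · refine ⟨i0, by simpa using hi0, ?_⟩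
      rw [Finset.mem_filter, not_and, not_not]
      intro _
      rw [Pi.sub_apply, hx1, map_one, sub_self]
    · intro i hi
      rw [Finset.mem_filter] at hi ⊢
      refine ⟨Finset.mem_univ _, fun h => hi.2 ?_⟩
      have h1 : x i = 0 := by
        show (y i0)⁻¹ * y i = 0
        rw [h, mul_zero]
      rw [Pi.sub_apply, h1, map_zero, sub_self]
  refine ⟨x, hx, ?_, fun i => ?_⟩
  · intro h
    rw [h] at hx1
    exact zero_ne_one hx1
  · have h1 := congrFun hx2 i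
    rw [Pi.sub_apply, Pi.zero_apply, sub_eq_zero] at h1
    exact h1

/-- the Frobenius map stabilizes the extensions of scalars -/
theorem ext_frob {W : Submodule F (n → F)} {y : n → k} (hy : y ∈ ext f W) : (fun i => s (y i)) ∈ ext f W := by
  unfold ext at hy
  induction hy using Submodule.span_induction with
  | mem y hy =>
    obtain ⟨x, hx, rfl⟩ := hy
    have h1 : (fun i => s (f (x i))) = fun i => f (x i) := by
      funext i
      rw [hs, ← map_pow, FiniteField.pow_card]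
    show (fun i => s (f (x i))) ∈ _
    rw [h1]
    exact mem_ext_of_mem hx
  | zero =>
    have h1 : (fun i => s ((0 : n → k) i)) = 0 := by
      funext i
      rw [Pi.zero_apply, map_zero]
    rw [h1]
    exact Submodule.zero_mem _
  | add a b _ _ ha hb =>
    have h1 : (fun i => s ((a + b) i)) = (fun i => s (a i)) + fun i => s (b i) := by
      funext i
      rw [Pi.add_apply, map_add]
      rfl
    rw [h1]
    exact Submodule.add_mem _ ha hb
  | smul c a _ ha =>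
    have h1 : (fun i => s ((c • a) i)) = s c • fun i => s (a i) := by
      funext i
      rw [Pi.smul_apply, smul_eq_mul, map_mul]
      rfl
    rw [h1]
    exact Submodule.smul_mem _ _ ha

omit [Fintype n] [Fintype F] hs in
/-- the rational vectors -/
def rat (f : F →+* k) (Y : Submodule k (n → k)) : Submodule F (n → F) where
  carrier := {v | (fun i => f (v i)) ∈ Y}
  add_mem' := by
    intro a b ha hb
    have h1 : (fun i => f ((a + b) i)) = (fun i => f (a i)) + fun i => f (b i) := by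
      funext i
      rw [Pi.add_apply, map_add]
      rfl
    show (fun i => f ((a + b) i)) ∈ Y
    rw [h1]
    exact Y.add_mem ha hb
  zero_mem' := by
    have h1 : (fun i => f ((0 : n → F) i)) = (0 : n → k) := by
      funext i
      rw [Pi.zero_apply, map_zero]
      rfl
    show (fun i => f ((0 : n → F) i)) ∈ Y
    rw [h1]
    exact Y.zero_mem
  smul_mem' := by
    intro c a ha
    have h1 : (fun i => f ((c • a) i)) = f c • fun i => f (a i) := by
      funext i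
      rw [Pi.smul_apply, smul_eq_mul, map_mul]
      rfl
    show (fun i => f ((c • a) i)) ∈ Y
    rw [h1]
    exact Y.smul_mem _ ha

omit [Fintype F] [Fintype n] hs in
theorem mem_rat {Y : Submodule k (n → k)} {v : n → F} : v ∈ rat f Y ↔ (fun i => f (v i)) ∈ Y := Iff.rfl

variable [DecidableEq n]

omit [DecidableEq n] in
theorem exists_rational {Y : Submodule k (n → k)} (hY : ∀ y ∈ Y, (fun i => s (y i)) ∈ Y) (h0 : Y ≠ ⊥) :
    ∃ v : n → F, v ≠ 0 ∧ (fun i => f (v i)) ∈ Y := by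
  obtain ⟨y, hy, hy0, hyf⟩ := exists_fixed hY h0
  choose v hv using fun i => mem_range_of_pow f (by rw [← hs]; exact hyf i : y i ^ Fintype.card F = y i)
  have h1 : (fun i => f (v i)) = y := funext hv
  refine ⟨v, ?_, by rw [h1]; exact hy⟩
  rintro rfl
  apply hy0
  rw [← h1]
  funext i
  rw [Pi.zero_apply, map_zero]
  rfl

/-- **descent** -/
theorem ext_rat {Y : Submodule k (n → k)} (hY : ∀ y ∈ Y, (fun i => s (y i)) ∈ Y) : ext f (rat f Y) = Y := by
  have hle : ext f (rat f Y) ≤ Y := ext_le fun x hx => hx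
  obtain ⟨C, hC⟩ := Submodule.exists_isCompl (rat f Y)
  have h1 : Y ⊓ ext f C = ⊥ := by
    by_contra h0
    obtain ⟨v, hv0, hv⟩ := exists_rational f hs (Y := Y ⊓ ext f C) (fun y hy => ⟨hY y hy.1, ext_frob f hs hy.2⟩) h0
    have h2 : v ∈ rat f Y ⊓ C := ⟨hv.1, mem_ext_iff.1 hv.2⟩
    rw [hC.inf_eq_bot, Submodule.mem_bot] at h2
    exact hv0 h2
  have h2 := Submodule.finrank_sup_add_finrank_inf_eq Y (ext f C)
  rw [h1, finrank_bot, add_zero, finrank_ext] at h2
  have h3 := Submodule.finrank_le (Y ⊔ ext f C)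
  have h4 := Submodule.finrank_add_eq_of_isCompl hC
  rw [finrank_fintype_fun_eq_card] at h3 h4
  apply Submodule.eq_of_le_of_finrank_le hle
  rw [finrank_ext]
  omega

theorem finrank_rat {Y : Submodule k (n → k)} (hY : ∀ y ∈ Y, (fun i => s (y i)) ∈ Y) :
    finrank F ↥(rat f Y) = finrank k ↥Y := by
  rw [← finrank_ext (f := f), ext_rat f hs hY]

end Cfsg.Agent.R2.H8.NoFix.Desc
end
end
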