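import Cfsg.Agent.ChevalleyStructure.E6Form.Elim
import Cfsg.Agent.ChevalleyStructure.E6Min.Torus
import Cfsg.Agent.H952.F4.Scott_m3
import Mathlib
import Cfsg.Agent.H65.E6Ext_m3
import Cfsg.Agent.FastGrp
import Cfsg.Agent.Prune
set_option linter.all false

section
prune_inst 0x7ffdadfbfbfcffffdfff7e7fa6dfcffdfdbb7fffe6fff9cb7fe061ff0fdf5f8ec9e56bad8feb10fe1ff7e21410f87bd3fbffffffea6ffc7ffffdfff41ffbffdffdf7b508519c88b41fbc2fff03f0778e7f3fffffffffffffffffffffffffffbeffbfffffffff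

-- part: H203/E6/Three
section
prune_inst 0x10040000000000000000080010000000000009000000000000000000000000000000000002000000000040020000000000000000000000000000000000000000000000000000000000000000000000000000000000000000000000000000000000000000
set_option linter.all false
open scoped Cfsg.Agent.FastGrp

-- part: H203/E6/Base
section
/-!
# The group generated by the root elements of E₆ on the 27-dimensional module, over any field

`Zgrp F` (generated by the `zM r t`) contains all `zG r t`, is closed under inverse transpose, and preserves the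
polarisations `Q`, `tri` of the cubic form, also over the field with two elements.
-/

set_option autoImplicit false

namespace Cfsg.Agent.H203.E6

open Cfsg.Lie Cfsg.Agent.ChevalleyStructure Cfsg.Agent.ChevalleyStructure.E6Form.Cubic
  Cfsg.Agent.ChevalleyStructure.E6Form.Table Cfsg.Agent.ChevalleyStructure.E6Form.Elim
open Cfsg.Agent.ChevalleyStructure.E6Min.Basic (Zgrp zM zU)

universe u

/-! ### The two tables of root elements -/

/-- `zM r'` is `zG r` up to the sign `ε`. -/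
def mt (r r' : ℕ) (ε : ℤ) : Bool := wts.all fun b =>
  if E6Min.Basic.sg r' b = 0 then (tabr r).all fun q => !(q.2.2 == b)
  else (tabr r).contains (ε * E6Min.Basic.sg r' b, E6Min.Basic.sr r' b, b)

theorem mt_spec {F : Type u} [Field F] {r r' : ℕ} {ε : ℤ} (hr : r < 72) (h : mt r r' ε = true)
    (hε : ε = 1 ∨ ε = -1) (t : F) : zMat F r t = zM r' ((ε : F) * t) := by
  apply Matrix.toLin'.injective
  refine LinearMap.ext fun v => ?_
  rw [Matrix.toLin'_apply, Matrix.toLin'_apply, zMat_mulVec]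
  funext b
  rw [E6Min.Basic.zM_mulVec, Pi.add_apply, Pi.smul_apply, smul_eq_mul]
  have h1 := forall_wts h b
  split_ifs at h1 with h2
  · rw [List.all_eq_true] at h1
    rw [nv_other (fun q hq he => by have := h1 q hq; simp [he] at this), h2]
    simp
  · rw [List.contains_iff_mem] at h1
    have h3 := nv_target hr h1 v
    dsimp only at h3
    rw [h3]
    push_cast
    rcases hε with rfl | rfl <;> push_cast <;> ring

private def mtA (r : ℕ) : ℕ := [29, 14, 2, 47, 39, 3, 48, 40, 26, 19, 64, 11, 8, 53, 33, 35, 4, 49, 41, 27, 20, 65, 28, 21, 66, 56, 12, 9, 54, 34, 13, 10, 55, 1, 0, 46, 25, 71, 70, 16, 61, 58, 37, 17, 62, 59, 15, 5, 50, 43, 6, 51, 44, 30, 22, 67, 36, 38, 18, 63, 60, 7, 52, 45, 31, 23, 68, 32, 24, 69, 57, 42].getD r 0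

private def mtB (r : ℕ) : ℕ := [34, 33, 2, 5, 16, 47, 50, 61, 12, 27, 31, 11, 26, 30, 1, 46, 39, 43, 58, 9, 20, 23, 54, 65, 68, 36, 8, 19, 22, 0, 53, 64, 67, 14, 29, 15, 56, 42, 57, 4, 7, 18, 71, 49, 52, 63, 35, 3, 6, 17, 48, 51, 62, 13, 28, 32, 25, 70, 41, 45, 60, 40, 44, 59, 10, 21, 24, 55, 66, 69, 38, 37].getD r 0

private noncomputable def _root_.Cfsg.Agent.KOf9ff029.k0 : type_of% @Int.neg := @(letI c0 := @Int.ofNat; @(fun x0 => @Int.rec.{1} @(fun x1 => ℤ) @(fun x1 => @Nat.rec.{1} @(fun x2 => ℤ) (@c0 (nat_lit 0)) @(fun x2 x3 => @Int.negSucc @x2) @x1) @(fun x1 => @c0 (@Nat.succ @x1)) @x0))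
private theorem _root_.Cfsg.Agent.KOf9ff029.e0 : @Int.neg = @_root_.Cfsg.Agent.KOf9ff029.k0 := by delta _root_.Cfsg.Agent.KOf9ff029.k0; rfl'
private noncomputable def _root_.Cfsg.Agent.KOf9ff029.k1s : (by first | exact Subtype (fun g => @Neg.neg.{0} (ℤ) _ = @g) | exact Unit : Sort _) := by first | (refine @Subtype.mk _ _ (@Cfsg.Agent.KOf9ff029.k0) ?_; rewrite [← Cfsg.Agent.KOf9ff029.e0]; rfl') | exact ⟨_, rfl⟩ | exact ()
private noncomputable def _root_.Cfsg.Agent.KOf9ff029.k1 : (by first | exact type_of% (@Subtype.val _ _ _root_.Cfsg.Agent.KOf9ff029.k1s) | exact Unit : Sort _) := by first | exact @Subtype.val _ _ _root_.Cfsg.Agent.KOf9ff029.k1s | exact ()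
private theorem _root_.Cfsg.Agent.KOf9ff029.e1 : (by first | exact type_of% (show _ = @_root_.Cfsg.Agent.KOf9ff029.k1 from @Subtype.property _ _ _root_.Cfsg.Agent.KOf9ff029.k1s) | exact True : Prop) := by first | exact @Subtype.property _ _ _root_.Cfsg.Agent.KOf9ff029.k1s | trivial
private theorem _root_.Cfsg.Agent.KOf9ff029.e2.{ku, kv} {α : Type kv} {M : List α → Sort ku} (φ : ∀ l, M l) {z : M List.nil} {s : ∀ a l, M l → M (List.cons a l)} (h0 : φ List.nil = z) (hs : ∀ a l, φ (List.cons a l) = s a l (φ l)) (l : List α) : φ l = @List.rec α M z s l := List.rec h0 (fun a l ih => (hs a l).trans (congrArg (s a l) ih)) l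
private noncomputable def _root_.Cfsg.Agent.KOf9ff029.k3.{ku0} : type_of% @List.all.{ku0} := @(fun x0 x1 x2 => @List.rec.{(ku0+1), ku0} @x0 @(fun x3 => (@x0 → @Bool) → @Bool) @(fun x3 => @Bool.true) @(fun x3 x4 x5 x6 => @Bool.rec.{1} @(fun x7 => @Bool) @Bool.false (@x5 @x6) (@x6 @x3)) @x1 @x2)
private theorem _root_.Cfsg.Agent.KOf9ff029.e3.{ku0} : @List.all.{ku0} = @_root_.Cfsg.Agent.KOf9ff029.k3.{ku0} := by delta _root_.Cfsg.Agent.KOf9ff029.k3; funext a0 a1 a2; refine (congrFun (_root_.Cfsg.Agent.KOf9ff029.e2 (fun a1 a2 => @List.all.{ku0} a0 a1 a2) ?_ (fun c0 c1 => ?_) a1) a2 :) <;> (rfl')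
private theorem _root_.Cfsg.Agent.KOf9ff029.e4.{ku} {M : Nat → Sort ku} (φ : ∀ n, M n) {z : M Nat.zero} {s : ∀ n, M n → M (Nat.succ n)} (h0 : φ Nat.zero = z) (hs : ∀ n, φ (Nat.succ n) = s n (φ n)) (n : Nat) : φ n = @Nat.rec M z s n := Nat.rec h0 (fun n ih => (hs n).trans (congrArg (s n) ih)) n
private noncomputable def _root_.Cfsg.Agent.KOf9ff029.k5 : type_of% @List.range.loop := @(fun x0 x1 => @Nat.rec.{1} @(fun x2 => (@List.{0} ℕ) → @List.{0} ℕ) @(fun x2 => @x2) @(fun x2 x3 x4 => @x3 (@x2 :: @x4)) @x0 @x1)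
private theorem _root_.Cfsg.Agent.KOf9ff029.e5 : @List.range.loop = @_root_.Cfsg.Agent.KOf9ff029.k5 := by delta _root_.Cfsg.Agent.KOf9ff029.k5; funext a0 a1; refine (congrFun (_root_.Cfsg.Agent.KOf9ff029.e4 (fun a0 a1 => @List.range.loop a0 a1) ?_ (fun c0 => ?_) a0) a1 :) <;> (rfl')
private noncomputable def _root_.Cfsg.Agent.KOf9ff029.k6 : type_of% @List.range := @(fun x0 => @Cfsg.Agent.KOf9ff029.k5 @x0 [])
private theorem _root_.Cfsg.Agent.KOf9ff029.e6 : @List.range = @_root_.Cfsg.Agent.KOf9ff029.k6 := by delta _root_.Cfsg.Agent.KOf9ff029.k6; rewrite [← Cfsg.Agent.KOf9ff029.e5]; rfl'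
private noncomputable def _root_.Cfsg.Agent.KOf9ff029.k7 : type_of% @Bool.and := @(fun x0 x1 => @Bool.rec.{1} @(fun x2 => @Bool) @Bool.false @x1 @x0)
private theorem _root_.Cfsg.Agent.KOf9ff029.e7 : @Bool.and = @_root_.Cfsg.Agent.KOf9ff029.k7 := by delta _root_.Cfsg.Agent.KOf9ff029.k7; rfl'
private noncomputable def _root_.Cfsg.Agent.KOf9ff029.k8 : type_of% @Decidable.decide := @(fun x0 x1 => @Decidable.rec.{1} _ @(fun x2 => @Bool) @(fun x2 => @Bool.false) @(fun x2 => @Bool.true) @x1)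
private theorem _root_.Cfsg.Agent.KOf9ff029.e8 : @Decidable.decide = @_root_.Cfsg.Agent.KOf9ff029.k8 := by delta _root_.Cfsg.Agent.KOf9ff029.k8; rfl'
private noncomputable def _root_.Cfsg.Agent.KOf9ff029.k9 : type_of% @instDecidableAnd := @(fun x0 x1 x2 x3 => @Decidable.rec.{1} _ @(fun x4 => @Decidable (@And @x0 @x1)) @(fun x4 => @Decidable.isFalse _ (@instDecidableAnd._proof_2 _ _ @x4)) @(fun x4 => @Decidable.rec.{1} _ @(fun x5 => @Decidable (@And @x0 @x1)) @(fun x5 => @Decidable.isFalse _ (@instDecidableAnd._proof_1 _ _ @x5)) @(fun x5 => @Decidable.isTrue _ (@And.intro _ _ @x4 @x5)) @x3) @x2)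
private theorem _root_.Cfsg.Agent.KOf9ff029.e9 : @instDecidableAnd = @_root_.Cfsg.Agent.KOf9ff029.k9 := by delta _root_.Cfsg.Agent.KOf9ff029.k9; exact Subsingleton.elim _ _
private noncomputable def _root_.Cfsg.Agent.KOf9ff029.k10 : type_of% @Bool.decEq := @(letI c0 := @Bool.rec.{1}; letI c1 := @Decidable.isTrue; letI c2 := @rfl.{1}; letI c3 := @Decidable.isFalse; letI c4 := @Bool.noConfusion.{0}; @(fun x0 x1 => @c0 @(fun x2 => @Decidable (@Eq.{1} _ @x2 @x1)) (@c0 @(fun x2 => @Decidable (@Eq.{1} _ @Bool.false @x2)) (@c1 _ (@c2 _ _)) (@c3 _ @(fun x2 => @c4 _ _ _ @x2)) @x1) (@c0 @(fun x2 => @Decidable (@Eq.{1} _ @Bool.true @x2)) (@c3 _ @(fun x2 => @c4 _ _ _ @x2)) (@c1 _ (@c2 _ _)) @x1) @x0))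
private noncomputable def _root_.Cfsg.Agent.KOf9ff029.k11 : type_of% @Nat.decLe := @(fun x0 x1 => @Decidable.rec.{1} _ @(fun x2 => @Decidable (@LE.le.{0} _ _ @x0 @x1)) @(fun x2 => @Decidable.isFalse _ (@Nat.not_le_of_not_ble_eq_true _ _ @x2)) @(fun x2 => @Decidable.isTrue _ (@Nat.le_of_ble_eq_true _ _ @x2)) (@Cfsg.Agent.KOf9ff029.k10 (@Nat.ble @x0 @x1) @Bool.true))
private noncomputable def _root_.Cfsg.Agent.KOf9ff029.k12 : type_of% @Nat.decLt := @(fun x0 x1 => @Cfsg.Agent.KOf9ff029.k11 (@Nat.succ @x0) @x1)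
private theorem _root_.Cfsg.Agent.KOf9ff029.e12 : @Nat.decLt = @_root_.Cfsg.Agent.KOf9ff029.k12 := by delta _root_.Cfsg.Agent.KOf9ff029.k12; exact Subsingleton.elim _ _
private noncomputable def _root_.Cfsg.Agent.KOf9ff029.k14.{ku0} : type_of% @List.get?Internal.{ku0} := @(fun x0 x1 x2 => @List.rec.{(ku0+1), ku0} @x0 @(fun x3 => ℕ → @Option.{ku0} @x0) @(fun x3 => @Option.none.{ku0} _) @(fun x3 x4 x5 x6 => @Nat.rec.{(ku0+1)} @(fun x7 => @Option.{ku0} @x0) (@Option.some.{ku0} _ @x3) @(fun x7 x8 => @x5 @x7) @x6) @x1 @x2)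
private theorem _root_.Cfsg.Agent.KOf9ff029.e14.{ku0} : @List.get?Internal.{ku0} = @_root_.Cfsg.Agent.KOf9ff029.k14.{ku0} := by delta _root_.Cfsg.Agent.KOf9ff029.k14; funext a0 a1 a2; refine (congrFun (_root_.Cfsg.Agent.KOf9ff029.e2 (fun a1 a2 => @List.get?Internal.{ku0} a0 a1 a2) ?_ (fun c0 c1 => ?_) a1) a2 :) <;> [(funext b0; (rfl')); (funext b0; (cases b0 with | @zero  => (rfl') | @succ b0_0 => (rfl')))]
private noncomputable def _root_.Cfsg.Agent.KOf9ff029.k15 : (by first | exact type_of% @Cfsg.Agent.H203.E6.mtA | exact Unit : Sort _) := by first | (refine @Subtype.val _ (fun g => @Cfsg.Agent.H203.E6.mtA = @g) (@Subtype.mk _ _ (@(fun x0 => @Option.rec.{1, 0} ℕ @(fun x1 => ℕ) (nat_lit 0) @(fun x1 => @x1) (@Cfsg.Agent.KOf9ff029.k14.{0} _ ((let x1 : @List.{0} ℕ := (let x1 : @List.{0} ℕ := (let x1 : @List.{0} ℕ := (let x1 : @List.{0} ℕ := (nat_lit 32) :: ((nat_lit 24) :: ((nat_lit 69) :: ((nat_lit 57) :: ((nat_lit 42) :: [])))); (nat_lit 45)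 :: ((nat_lit 31) :: ((nat_lit 23) :: ((nat_lit 68) :: @x1)))); (let x2 : @List.{0} ℕ := (nat_lit 18) :: ((nat_lit 63) :: ((nat_lit 60) :: ((nat_lit 7) :: ((nat_lit 52) :: @x1)))); (nat_lit 22) :: ((nat_lit 67) :: ((nat_lit 36) :: ((nat_lit 38) :: @x2))))); (let x2 : @List.{0} ℕ := (let x2 : @List.{0} ℕ := (nat_lit 43) :: ((nat_lit 6) :: ((nat_lit 51) :: ((nat_lit 44) :: ((nat_lit 30) :: @x1)))); (nat_lit 59) :: ((nat_lit 15) :: ((nat_lit 5) :: ((nat_lit 50) :: @x2)))); (let x3 : @List.{0} ℕ := (nat_lit 61) :: ((nat_lit 58) :: ((nat_lit 37) :: ((nat_lit 17) :: ((nat_lit 62) :: @x2)))); (nat_lit 25) :: ((nat_lit 71) :: ((nat_lit 70) :: ((nat_lit 16) :: @x3)))))); (let x2 : @List.{0} ℕ := (let x2 : @List.{0} ℕ := (let x2 : @List.{0} ℕ := (nat_lit 10) :: ((nat_lit 55) :: ((nat_lit 1) :: ((nat_lit 0) :: ((nat_lit 46) :: @x1)))); (nat_lit 9) :: ((nat_lit 54) :: ((nat_lit 34) :: ((nat_lit 13) :: @x2)))); (let x3 : @List.{0} ℕ := (nat_lit 28) :: ((nat_lit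 21) :: ((nat_lit 66) :: ((nat_lit 56) :: ((nat_lit 12) :: @x2)))); (nat_lit 41) :: ((nat_lit 27) :: ((nat_lit 20) :: ((nat_lit 65) :: @x3))))); (let x3 : @List.{0} ℕ := (let x3 : @List.{0} ℕ := (nat_lit 53) :: ((nat_lit 33) :: ((nat_lit 35) :: ((nat_lit 4) :: ((nat_lit 49) :: @x2)))); (nat_lit 19) :: ((nat_lit 64) :: ((nat_lit 11) :: ((nat_lit 8) :: @x3)))); (let x4 : @List.{0} ℕ := (nat_lit 39) :: ((nat_lit 3) :: ((nat_lit 48) :: ((nat_lit 40) :: ((nat_lit 26) :: @x3)))); (nat_lit 29) :: ((nat_lit 14) :: ((nat_lit 2) :: ((nat_lit 47) :: @x4)))))))) @x0))) ?_); rewrite [← Cfsg.Agent.KOf9ff029.e14.{0}]; rfl') | exact @Cfsg.Agent.H203.E6.mtA | exact ()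
private theorem _root_.Cfsg.Agent.KOf9ff029.e15 : (by first | exact @Cfsg.Agent.H203.E6.mtA = @_root_.Cfsg.Agent.KOf9ff029.k15 | exact True : Prop) := by first | (delta _root_.Cfsg.Agent.KOf9ff029.k15; exact @Subtype.property _ (fun g => @Cfsg.Agent.H203.E6.mtA = @g) _) | rfl | trivial
private noncomputable def _root_.Cfsg.Agent.KOf9ff029.k16 : (by first | exact type_of% @Cfsg.Agent.H203.E6.mtB | exact Unit : Sort _) := by first | (refine @Subtype.val _ (fun g => @Cfsg.Agent.H203.E6.mtB = @g) (@Subtype.mk _ _ (@(fun x0 => @Option.rec.{1, 0} ℕ @(fun x1 => ℕ) (nat_lit 0) @(fun x1 => @x1) (@Cfsg.Agent.KOf9ff029.k14.{0} _ ((let x1 : @List.{0} ℕ := (let x1 : @List.{0} ℕ := (let x1 : @List.{0} ℕ := (let x1 : @List.{0} ℕ := (nat_lit 55) :: ((nat_lit 66) :: ((nat_lit 69) :: ((nat_lit 38) :: ((nat_lit 37) :: [])))); (nat_lit 59) :: ((nat_lit 10) :: ((nat_lit 21) :: ((nat_lit 24) :: @x1)))); (let x2 : @List.{0} ℕ := (nat_lit 41) :: ((nat_lit 45) ::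 ((nat_lit 60) :: ((nat_lit 40) :: ((nat_lit 44) :: @x1)))); (nat_lit 28) :: ((nat_lit 32) :: ((nat_lit 25) :: ((nat_lit 70) :: @x2))))); (let x2 : @List.{0} ℕ := (let x2 : @List.{0} ℕ := (nat_lit 17) :: ((nat_lit 48) :: ((nat_lit 51) :: ((nat_lit 62) :: ((nat_lit 13) :: @x1)))); (nat_lit 63) :: ((nat_lit 35) :: ((nat_lit 3) :: ((nat_lit 6) :: @x2)))); (let x3 : @List.{0} ℕ := (nat_lit 7) :: ((nat_lit 18) :: ((nat_lit 71) :: ((nat_lit 49) :: ((nat_lit 52) :: @x2)))); (nat_lit 56) :: ((nat_lit 42) :: ((nat_lit 57) :: ((nat_lit 4) :: @x3)))))); (let x2 : @List.{0} ℕ := (let x2 : @List.{0} ℕ := (let x2 : @List.{0} ℕ := (nat_lit 64) :: ((nat_lit 67) :: ((nat_lit 14) :: ((nat_lit 29) :: ((nat_lit 15) :: @x1)))); (nat_lit 19) :: ((nat_lit 22) :: ((nat_lit 0) :: ((nat_lit 53) :: @x2)))); (let x3 : @List.{0} ℕ := (nat_lit 54) :: ((nat_lit 65) :: ((nat_lit 68) :: ((nat_lit 36) :: ((nat_lit 8) :: @x2)))); (nat_lit 58) :: ((nat_lit 9) :: ((nat_lit 20)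 :: ((nat_lit 23) :: @x3))))); (let x3 : @List.{0} ℕ := (let x3 : @List.{0} ℕ := (nat_lit 30) :: ((nat_lit 1) :: ((nat_lit 46) :: ((nat_lit 39) :: ((nat_lit 43) :: @x2)))); (nat_lit 27) :: ((nat_lit 31) :: ((nat_lit 11) :: ((nat_lit 26) :: @x3)))); (let x4 : @List.{0} ℕ := (nat_lit 16) :: ((nat_lit 47) :: ((nat_lit 50) :: ((nat_lit 61) :: ((nat_lit 12) :: @x3)))); (nat_lit 34) :: ((nat_lit 33) :: ((nat_lit 2) :: ((nat_lit 5) :: @x4)))))))) @x0))) ?_); rewrite [← Cfsg.Agent.KOf9ff029.e14.{0}]; rfl') | exact @Cfsg.Agent.H203.E6.mtB | exact ()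
private theorem _root_.Cfsg.Agent.KOf9ff029.e16 : (by first | exact @Cfsg.Agent.H203.E6.mtB = @_root_.Cfsg.Agent.KOf9ff029.k16 | exact True : Prop) := by first | (delta _root_.Cfsg.Agent.KOf9ff029.k16; exact @Subtype.property _ (fun g => @Cfsg.Agent.H203.E6.mtB = @g) _) | rfl | trivial
private noncomputable def _root_.Cfsg.Agent.KOf9ff029.k17 : type_of% @Nat.decEq := @(letI c0 := @Nat.beq; @(fun x0 x1 => @Bool.rec.{1} @(fun x2 => (@Eq.{1} _ (@c0 @x0 @x1) @x2) → @Decidable (@Eq.{1} _ @x0 @x1)) @(fun x2 => @Decidable.isFalse _ (@Nat.ne_of_beq_eq_false _ _ @x2)) @(fun x2 => @Decidable.isTrue _ (@Nat.eq_of_beq_eq_true _ _ @x2)) (@c0 @x0 @x1) (@Eq.refl.{1} _ (@c0 @x0 @x1))))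
private noncomputable def _root_.Cfsg.Agent.KOf9ff029.k18 : type_of% @instDecidableEqNat := @Cfsg.Agent.KOf9ff029.k17
private theorem _root_.Cfsg.Agent.KOf9ff029.e18 : @instDecidableEqNat = @_root_.Cfsg.Agent.KOf9ff029.k18 := by delta _root_.Cfsg.Agent.KOf9ff029.k18; exact Subsingleton.elim _ _
private noncomputable def _root_.Cfsg.Agent.KOf9ff029.k19 : type_of% @Bool.or := @(fun x0 x1 => @Bool.rec.{1} @(fun x2 => @Bool) @x1 @Bool.true @x0)
private theorem _root_.Cfsg.Agent.KOf9ff029.e19 : @Bool.or = @_root_.Cfsg.Agent.KOf9ff029.k19 := by delta _root_.Cfsg.Agent.KOf9ff029.k19; rfl'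
private noncomputable def _root_.Cfsg.Agent.KOf9ff029.k20 : type_of% @instDecidableEqFin := @(letI c0 := @Fin.val; @(fun x0 x1 x2 => @Decidable.rec.{1} _ @(fun x3 => @Decidable (@Eq.{1} _ @x1 @x2)) @(fun x3 => @Decidable.isFalse _ (@instDecidableEqFin._proof_1 @x0 @x1 @x2 @x3)) @(fun x3 => @Decidable.isTrue _ (@Fin.eq_of_val_eq _ _ _ @x3)) (@Cfsg.Agent.KOf9ff029.k17 (@c0 _ @x1) (@c0 _ @x2))))
private theorem _root_.Cfsg.Agent.KOf9ff029.e20 : @instDecidableEqFin = @_root_.Cfsg.Agent.KOf9ff029.k20 := by delta _root_.Cfsg.Agent.KOf9ff029.k20; exact Subsingleton.elim _ _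
private noncomputable def _root_.Cfsg.Agent.KOf9ff029.k21s : (by first | exact Subtype (fun g => @BEq.beq.{0} (@Fin ((3 : ℕ))) _ = @g) | exact Unit : Sort _) := by first | (refine @Subtype.mk _ _ (@(fun x0 x1 => @Decidable.rec.{1} _ @(fun x2 => @Bool) @(fun x2 => @Bool.false) @(fun x2 => @Bool.true) (@Cfsg.Agent.KOf9ff029.k20 (nat_lit 3) @x0 @x1))) ?_; rewrite [← Cfsg.Agent.KOf9ff029.e20]; rfl') | exact ⟨_, rfl⟩ | exact ()
private noncomputable def _root_.Cfsg.Agent.KOf9ff029.k21 : (by first | exact type_of% (@Subtype.val _ _ _root_.Cfsg.Agent.KOf9ff029.k21s) | exact Unit : Sort _) := by first | exact @Subtype.val _ _ _root_.Cfsg.Agent.KOf9ff029.k21s | exact ()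
private theorem _root_.Cfsg.Agent.KOf9ff029.e21 : (by first | exact type_of% (show _ = @_root_.Cfsg.Agent.KOf9ff029.k21 from @Subtype.property _ _ _root_.Cfsg.Agent.KOf9ff029.k21s) | exact True : Prop) := by first | exact @Subtype.property _ _ _root_.Cfsg.Agent.KOf9ff029.k21s | trivial
private noncomputable def _root_.Cfsg.Agent.KOf9ff029.k22s : (by first | exact Subtype (fun g => @BEq.beq.{0} (@Cfsg.Lie.I27) _ = @g) | exact Unit : Sort _) := by first | (refine @Subtype.mk _ _ (@(letI c0 := @Prod.rec.{1, 0, 0}; letI c1 := @Bool.rec.{1}; letI c2 := @Bool.false; letI c3 := @Cfsg.Agent.KOf9ff029.k21; @(fun x0 x1 => @c0 (@Fin ((3 : ℕ))) ((@Fin ((3 : ℕ))) × (@Fin ((3 : ℕ)))) @(fun x2 => @Bool) @(fun x2 x3 => @c0 (@Fin ((3 : ℕ))) ((@Fin ((3 : ℕ))) × (@Fin ((3 : ℕ)))) @(fun x4 => @Bool) @(fun x4 x5 => @c1 @(fun x6 => @Bool) @c2 (@c0 (@Fin ((3 : ℕ))) (@Fin ((3 : ℕ))) @(fun x6 => @Bool) @(fun x6 x7 => @c0 (@Fin ((3 : ℕ))) (@Fin ((3 : ℕ))) @(fun x8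 => @Bool) @(fun x8 x9 => @c1 @(fun x10 => @Bool) @c2 (@c3 @x7 @x9) (@c3 @x6 @x8)) @x5) @x3) (@c3 @x2 @x4)) @x1) @x0))) ?_; rewrite [← Cfsg.Agent.KOf9ff029.e21]; rfl') | exact ⟨_, rfl⟩ | exact ()
private noncomputable def _root_.Cfsg.Agent.KOf9ff029.k22 : (by first | exact type_of% (@Subtype.val _ _ _root_.Cfsg.Agent.KOf9ff029.k22s) | exact Unit : Sort _) := by first | exact @Subtype.val _ _ _root_.Cfsg.Agent.KOf9ff029.k22s | exact ()
private theorem _root_.Cfsg.Agent.KOf9ff029.e22 : (by first | exact type_of% (show _ = @_root_.Cfsg.Agent.KOf9ff029.k22 from @Subtype.property _ _ _root_.Cfsg.Agent.KOf9ff029.k22s) | exact True : Prop) := by first | exact @Subtype.property _ _ _root_.Cfsg.Agent.KOf9ff029.k22s | trivial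
private noncomputable def _root_.Cfsg.Agent.KOf9ff029.k23 : type_of% @Int.decEq := @(letI c0 := @Int.rec.{1}; letI c1 := @Int.ofNat; letI c2 := @Decidable.rec.{1}; letI c3 := @Decidable.isFalse; letI c4 := @Decidable.isTrue; letI c5 := @Int.negSucc; @(fun x0 x1 => @c0 @(fun x2 => @Decidable (@Eq.{1} _ @x2 @x1)) @(fun x2 => @c0 @(fun x3 => @Decidable (@Eq.{1} _ (@c1 @x2) @x3)) @(fun x3 => @c2 _ @(fun x4 => @Decidable (@Eq.{1} _ (@c1 @x2) (@c1 @x3))) @(fun x4 => @c3 _ (@Int.decEq._proof_2 @x2 @x3 @x4)) @(fun x4 => @c4 _ (@Int.decEq._proof_1 @x2 @x3 @x4)) (@Cfsg.Agent.KOf9ff029.k17 @x2 @x3)) @(fun x3 => @c3 _ (@Int.decEq._proof_3 @x2 @x3)) @x1) @(fun x2 => @c0 @(fun x3 => @Decidable (@Eq.{1} _ (@c5 @x2) @x3)) @(fun x3 => @c3 _ (@Int.decEq._proof_4 @x2 @x3)) @(fun x3 => @c2 _ @(fun x4 => @Decidable (@Eq.{1} _ (@c5 @x2) (@c5 @x3))) @(fun x4 => @c3 _ (@Int.decEq._proof_6 @x2 @x3 @x4)) @(fun x4 => @c4 _ (@Int.decEq._proof_5 @x2 @x3 @x4)) (@Cfsg.Agent.KOf9ff029.k17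 @x2 @x3)) @x1) @x0))
private theorem _root_.Cfsg.Agent.KOf9ff029.e23 : @Int.decEq = @_root_.Cfsg.Agent.KOf9ff029.k23 := by delta _root_.Cfsg.Agent.KOf9ff029.k23; exact Subsingleton.elim _ _
private noncomputable def _root_.Cfsg.Agent.KOf9ff029.k24s : (by first | exact Subtype (fun g => @BEq.beq.{0} (ℤ) _ = @g) | exact Unit : Sort _) := by first | (refine @Subtype.mk _ _ (@(fun x0 x1 => @Decidable.rec.{1} _ @(fun x2 => @Bool) @(fun x2 => @Bool.false) @(fun x2 => @Bool.true) (@Cfsg.Agent.KOf9ff029.k23 @x0 @x1))) ?_; rewrite [← Cfsg.Agent.KOf9ff029.e23]; rfl') | exact ⟨_, rfl⟩ | exact ()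
private noncomputable def _root_.Cfsg.Agent.KOf9ff029.k24 : (by first | exact type_of% (@Subtype.val _ _ _root_.Cfsg.Agent.KOf9ff029.k24s) | exact Unit : Sort _) := by first | exact @Subtype.val _ _ _root_.Cfsg.Agent.KOf9ff029.k24s | exact ()
private theorem _root_.Cfsg.Agent.KOf9ff029.e24 : (by first | exact type_of% (show _ = @_root_.Cfsg.Agent.KOf9ff029.k24 from @Subtype.property _ _ _root_.Cfsg.Agent.KOf9ff029.k24s) | exact True : Prop) := by first | exact @Subtype.property _ _ _root_.Cfsg.Agent.KOf9ff029.k24s | trivial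
private noncomputable def _root_.Cfsg.Agent.KOf9ff029.k25s : (by first | exact Subtype (fun g => @BEq.beq.{0} (ℤ × (@Cfsg.Lie.I27 × @Cfsg.Lie.I27)) _ = @g) | exact Unit : Sort _) := by first | (refine @Subtype.mk _ _ (@(letI c0 := @Prod.rec.{1, 0, 0}; letI c1 := @Bool.rec.{1}; letI c2 := @Bool.false; @(fun x0 x1 => @c0 ℤ (@Cfsg.Lie.I27 × @Cfsg.Lie.I27) @(fun x2 => @Bool) @(fun x2 x3 => @c0 ℤ (@Cfsg.Lie.I27 × @Cfsg.Lie.I27) @(fun x4 => @Bool) @(fun x4 x5 => @c1 @(fun x6 => @Bool) @c2 (@c0 @Cfsg.Lie.I27 @Cfsg.Lie.I27 @(fun x6 => @Bool) @(fun x6 x7 => @c0 @Cfsg.Lie.I27 @Cfsg.Lie.I27 @(fun x8 => @Bool) @(fun x8 x9 => @c1 @(fun x10 => @Bool) @c2 (@Cfsg.Agent.KOf9ff029.k22 @x7 @x9) (@Cfsg.Agent.KOf9ff029.k22 @x6 @x8)) @x5) @x3) (@Cfsg.Agent.KOf9ff029.k24 @x2 @x4)) @x1) @x0))) ?_; rewrite [← Cfsg.Agent.KOf9ff029.e24, ← Cfsg.Agent.KOf9ff029.e22]; rfl') | exact ⟨_, rfl⟩ | exact ()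
private noncomputable def _root_.Cfsg.Agent.KOf9ff029.k25 : (by first | exact type_of% (@Subtype.val _ _ _root_.Cfsg.Agent.KOf9ff029.k25s) | exact Unit : Sort _) := by first | exact @Subtype.val _ _ _root_.Cfsg.Agent.KOf9ff029.k25s | exact ()
private theorem _root_.Cfsg.Agent.KOf9ff029.e25 : (by first | exact type_of% (show _ = @_root_.Cfsg.Agent.KOf9ff029.k25 from @Subtype.property _ _ _root_.Cfsg.Agent.KOf9ff029.k25s) | exact True : Prop) := by first | exact @Subtype.property _ _ _root_.Cfsg.Agent.KOf9ff029.k25s | trivial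
private noncomputable def _root_.Cfsg.Agent.KOf9ff029.k26s : (by first | exact Subtype (fun g => @List.elem.{0} (ℤ × (@Cfsg.Lie.I27 × @Cfsg.Lie.I27)) _ = @g) | exact Unit : Sort _) := by first | (refine @Subtype.mk _ _ (@(fun x0 x1 => @List.rec.{1, 0} (ℤ × (@Cfsg.Lie.I27 × @Cfsg.Lie.I27)) @(fun x2 => @Bool) @Bool.false @(fun x2 x3 x4 => @Bool.rec.{1} @(fun x5 => @Bool) @x4 @Bool.true (@Cfsg.Agent.KOf9ff029.k25 @x0 @x2)) @x1)) ?_; rewrite [← Cfsg.Agent.KOf9ff029.e25]; funext a2 a3; refine (_root_.Cfsg.Agent.KOf9ff029.e2 (fun a3 => @List.elem.{0} (ℤ × (@Cfsg.Lie.I27 × @Cfsg.Lie.I27)) _ a2 a3) ?_ (fun c0 c1 => ?_) a3 :) <;> (rfl')) | exact ⟨_, rfl⟩ | exact ()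
private noncomputable def _root_.Cfsg.Agent.KOf9ff029.k26 : (by first | exact type_of% (@Subtype.val _ _ _root_.Cfsg.Agent.KOf9ff029.k26s) | exact Unit : Sort _) := by first | exact @Subtype.val _ _ _root_.Cfsg.Agent.KOf9ff029.k26s | exact ()
private theorem _root_.Cfsg.Agent.KOf9ff029.e26 : (by first | exact type_of% (show _ = @_root_.Cfsg.Agent.KOf9ff029.k26 from @Subtype.property _ _ _root_.Cfsg.Agent.KOf9ff029.k26s) | exact True : Prop) := by first | exact @Subtype.property _ _ _root_.Cfsg.Agent.KOf9ff029.k26s | trivial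
private noncomputable def _root_.Cfsg.Agent.KOf9ff029.k27 : type_of% @Int.mul := @(letI c0 := @Int.rec.{1}; letI c1 := @Int.ofNat; letI c2 := @Nat.mul; letI c3 := @Nat.rec.{1}; letI c4 := @Int.negSucc; letI c5 := @Nat.succ; @(fun x0 x1 => @c0 @(fun x2 => ℤ) @(fun x2 => @c0 @(fun x3 => ℤ) @(fun x3 => @c1 (@c2 @x2 @x3)) @(fun x3 => @c3 @(fun x4 => ℤ) (@c1 (nat_lit 0)) @(fun x4 x5 => @c4 @x4) (@c2 @x2 (@c5 @x3))) @x1) @(fun x2 => @c0 @(fun x3 => ℤ) @(fun x3 => @c3 @(fun x4 => ℤ) (@c1 (nat_lit 0)) @(fun x4 x5 => @c4 @x4) (@c2 (@c5 @x2) @x3)) @(fun x3 => @c1 (@c2 (@c5 @x2) (@c5 @x3))) @x1) @x0))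
private theorem _root_.Cfsg.Agent.KOf9ff029.e27 : @Int.mul = @_root_.Cfsg.Agent.KOf9ff029.k27 := by delta _root_.Cfsg.Agent.KOf9ff029.k27; rfl'
private noncomputable def _root_.Cfsg.Agent.KOf9ff029.k29 : (by first | exact type_of% @Cfsg.Agent.ChevalleyStructure.E6Min.Tables.ent | exact Unit : Sort _) := by first | (refine @Subtype.val _ (fun g => @Cfsg.Agent.ChevalleyStructure.E6Min.Tables.ent = @g) (@Subtype.mk _ _ (@(letI c0 := @Nat.mul; @(fun x0 x1 => @Nat.land (@Nat.shiftRight @Cfsg.Agent.ChevalleyStructure.E6Min.Tables.TR (@c0 (nat_lit 7) (@Nat.add (@c0 (nat_lit 27) @x0) @x1))) (nat_lit 127)))) ?_); (try delta Cfsg.Agent.ChevalleyStructure.E6Min.Tables.ent); (try generalize @Cfsg.Agent.ChevalleyStructure.E6Min.Tables.TR = g0); rfl') | exact @Cfsg.Agent.ChevalleyStructure.E6Min.Tables.ent | exact ()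
private theorem _root_.Cfsg.Agent.KOf9ff029.e29 : (by first | exact @Cfsg.Agent.ChevalleyStructure.E6Min.Tables.ent = @_root_.Cfsg.Agent.KOf9ff029.k29 | exact True : Prop) := by first | (delta _root_.Cfsg.Agent.KOf9ff029.k29; exact @Subtype.property _ (fun g => @Cfsg.Agent.ChevalleyStructure.E6Min.Tables.ent = @g) _) | rfl | trivial
private noncomputable def _root_.Cfsg.Agent.KOf9ff029.k32 : (by first | exact type_of% @Cfsg.Agent.ChevalleyStructure.E6Min.Tables.dec | exact Unit : Sort _) := by first | (refine @Subtype.val _ (fun g => @Cfsg.Agent.ChevalleyStructure.E6Min.Tables.dec = @g) (@Subtype.mk _ _ (@(letI c0 := @Fin.mk; letI c1 := @Nat.mod; letI c2 := @Nat.div; letI c3 := @Fin.ofNat._proof_1; letI c4 := @HDiv.hDiv.{0, 0, 0}; @(fun x0 => (@c0 (nat_lit 3) (@c1 (@c2 @x0 (nat_lit 9)) (nat_lit 3)) (@c3 ((3 : ℕ)) _ (@c4 _ _ _ _ @x0 ((9 : ℕ)))), (@c0 (nat_lit 3) (@c1 (@c2 @x0 (nat_lit 3)) (nat_lit 3)) (@c3 ((3 : ℕ)) _ (@c4 _ _ _ _ @x0 ((3 :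 ℕ)))), @c0 (nat_lit 3) (@c1 @x0 (nat_lit 3)) (@c3 ((3 : ℕ)) _ @x0)))))) ?_); rfl') | exact @Cfsg.Agent.ChevalleyStructure.E6Min.Tables.dec | exact ()
private theorem _root_.Cfsg.Agent.KOf9ff029.e32 : (by first | exact @Cfsg.Agent.ChevalleyStructure.E6Min.Tables.dec = @_root_.Cfsg.Agent.KOf9ff029.k32 | exact True : Prop) := by first | (delta _root_.Cfsg.Agent.KOf9ff029.k32; exact @Subtype.property _ (fun g => @Cfsg.Agent.ChevalleyStructure.E6Min.Tables.dec = @g) _) | rfl | trivial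
private noncomputable def _root_.Cfsg.Agent.KOf9ff029.k33 : (by first | exact type_of% @Cfsg.Agent.H203.E6.mt | exact Unit : Sort _) := by first | (refine @Subtype.val _ (fun g => @Cfsg.Agent.H203.E6.mt = @g) (@Subtype.mk _ _ (@(letI c0 := @Cfsg.Agent.ChevalleyStructure.E6Min.Tables.sgN; letI c1 := @Cfsg.Agent.ChevalleyStructure.E6Min.Tables.code; letI c2 := @Option.rec.{1, 0}; letI c3 := @Cfsg.Agent.ChevalleyStructure.E6Form.Table.tab; letI c4 := @Prod.snd.{0, 0}; @(fun x0 x1 x2 => @Cfsg.Agent.KOf9ff029.k3.{0} _ @Cfsg.Agent.ChevalleyStructure.E6Form.Cubic.wts @(fun x3 => @Decidable.rec.{1} _ @(fun x4 => @Bool) @(fun x4 => @Cfsg.Agent.KOf9ff029.k26 ((@Cfsg.Agent.KOf9ff029.k27 @x2 (@c0 @x1 (@c1 @x3)), (@Cfsg.Agent.KOf9ff029.k32 (@Nat.land (@Cfsg.Agent.KOf9ff029.k29 @x1 (@c1 @x3)) (nat_lit 31)), @x3))) (@c2 (@List.{0} (ℤ × (@Cfsg.Lie.I27 × @Cfsg.Lie.I27))) @(fun x5 => @List.{0} (ℤ × (@Cfsg.Lie.I27 × @Cfsg.Lie.I27))) [] @(fun x5 => @x5) (@Cfsg.Agent.KOf9ff029.k14.{0}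 _ @c3 @x0))) @(fun x4 => @Cfsg.Agent.KOf9ff029.k3.{0} _ (@c2 (@List.{0} (ℤ × (@Cfsg.Lie.I27 × @Cfsg.Lie.I27))) @(fun x5 => @List.{0} (ℤ × (@Cfsg.Lie.I27 × @Cfsg.Lie.I27))) [] @(fun x5 => @x5) (@Cfsg.Agent.KOf9ff029.k14.{0} _ @c3 @x0)) @(fun x5 => @Bool.rec.{1} @(fun x6 => @Bool) @Bool.true @Bool.false (@Cfsg.Agent.KOf9ff029.k22 (@c4 _ _ (@c4 _ _ @x5)) @x3))) (@Cfsg.Agent.KOf9ff029.k23 (@c0 @x1 (@c1 @x3)) (@Int.ofNat (nat_lit 0))))))) ?_); rewrite [← Cfsg.Agent.KOf9ff029.e23, ← Cfsg.Agent.KOf9ff029.e14.{0}, ← Cfsg.Agent.KOf9ff029.e29, ← Cfsg.Agent.KOf9ff029.e32, ← Cfsg.Agent.KOf9ff029.e27, ← Cfsg.Agent.KOf9ff029.e3.{0}, ← Cfsg.Agent.KOf9ff029.e22, ← Cfsg.Agent.KOf9ff029.e26]; (try delta Cfsg.Agent.H203.E6.mt Cfsg.Agent.ChevalleyStructure.E6Min.Basic.sg Cfsg.Agent.ChevalleyStructure.E6Min.Basic.sr Cfsg.Agent.ChevalleyStructure.E6Min.Tables.srN Cfsg.Agent.ChevalleyStructure.E6Form.Table.tabr); (try generalize @Cfsg.Agent.ChevalleyStructure.E6Form.Cubic.wts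 = g0); (try generalize @Cfsg.Agent.ChevalleyStructure.E6Min.Tables.sgN = g1); (try generalize @Cfsg.Agent.ChevalleyStructure.E6Min.Tables.code = g2); (try generalize @Cfsg.Agent.ChevalleyStructure.E6Min.Tables.dec = g3); (try generalize @Cfsg.Agent.ChevalleyStructure.E6Min.Tables.ent = g4); (try generalize @Cfsg.Agent.ChevalleyStructure.E6Form.Table.tab = g5); rfl') | exact @Cfsg.Agent.H203.E6.mt | exact ()
private theorem _root_.Cfsg.Agent.KOf9ff029.e33 : (by first | exact @Cfsg.Agent.H203.E6.mt = @_root_.Cfsg.Agent.KOf9ff029.k33 | exact True : Prop) := by first | (delta _root_.Cfsg.Agent.KOf9ff029.k33; exact @Subtype.property _ (fun g => @Cfsg.Agent.H203.E6.mt = @g) _) | rfl | trivial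

private theorem mt_tab {r : ℕ} (hr : r < 72) : (mtA r < 72 ∧ mtB r < 72 ∧ mtA (mtB r) = r) ∧
    (mt r (mtA r) 1 = true ∨ mt r (mtA r) (-1) = true) := by
  have h := forall_roots (p := fun r => decide (mtA r < 72 ∧ mtB r < 72 ∧ mtA (mtB r) = r) &&
    (mt r (mtA r) 1 || mt r (mtA r) (-1))) (by (first | (rewrite [Cfsg.Agent.KOf9ff029.e1, Cfsg.Agent.KOf9ff029.e3.{0}, Cfsg.Agent.KOf9ff029.e6, Cfsg.Agent.KOf9ff029.e7, Cfsg.Agent.KOf9ff029.e8, Cfsg.Agent.KOf9ff029.e9, Cfsg.Agent.KOf9ff029.e12, Cfsg.Agent.KOf9ff029.e15, Cfsg.Agent.KOf9ff029.e16, Cfsg.Agent.KOf9ff029.e18, Cfsg.Agent.KOf9ff029.e19, Cfsg.Agent.KOf9ff029.e33]; decide +kernel) | decide +kernel)) hr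
  rwa [Bool.and_eq_true, decide_eq_true_eq, Bool.or_eq_true] at h

theorem exists_mt {r : ℕ} (hr : r < 72) : ∃ r' < 72, mt r r' 1 = true ∨ mt r r' (-1) = true :=
  ⟨mtA r, (mt_tab hr).1.1, (mt_tab hr).2⟩

variable {F : Type u} [Field F]

theorem zG_mem {r : ℕ} (hr : r < 72) (t : F) : (zG r t : GL I27 F) ∈ Zgrp F := by
  obtain ⟨r', hr', h | h⟩ := exists_mt hr
  · exact Subgroup.subset_closure ⟨r', _, hr', by rw [coe_zG, mt_spec hr h (Or.inl rfl)]⟩
  · exact Subgroup.subset_closure ⟨r', _, hr', by rw [coe_zG, mt_spec hr h (Or.inr rfl)]⟩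

/-! ### Invariance over any field -/

section base

variable {K : Type*} [Field K] (f : F →+* K)

theorem map_zM (r : ℕ) (t : F) : (zM r t).map f = zM r (f t) := by
  ext x y
  rw [E6Min.Basic.zM_def, E6Min.Basic.zM_def]
  simp only [Matrix.map_apply, Matrix.add_apply, Matrix.smul_apply, E6Min.Basic.Nm_apply, Matrix.one_apply, map_add,
    smul_eq_mul, map_mul]
  congr 1
  · split_ifs <;> simp
  · congr 1
    split_ifs <;> simp

theorem term_map (m : ℤ × I27 × I27 × I27) (x y z : I27 → F) :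
    term m (f ∘ x) (f ∘ y) (f ∘ z) = f (term m x y z) := by
  simp only [term, Function.comp_apply, map_mul, map_intCast]

theorem Q_map (x y : I27 → F) : Q (f ∘ x) (f ∘ y) = f (Q x y) := by
  simp only [Q, map_list_sum, List.map_map]
  congr 1
  refine List.map_congr_left fun m _ => ?_
  simp only [Function.comp_apply, map_add, ← term_map]

end base

theorem Q_zM {r : ℕ} (hr : r < 72) (t : F) (x y : I27 → F) :
    Q ((zM r t).mulVec x) ((zM r t).mulVec y) = Q x y := by
  let K := AlgebraicClosure F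
  let f : F →+* K := algebraMap F K
  have hf : Function.Injective f := f.injective
  classical
  have : Infinite K := IsAlgClosed.instInfinite
  obtain ⟨s, hs⟩ := Infinite.exists_notMem_finset ({0, 1} : Finset K)
  have hs' : ∃ s : K, s ≠ 0 ∧ s ≠ 1 := ⟨s, fun h => hs (by simp [h]), fun h => hs (by simp [h])⟩
  apply hf
  have h1 := Q_mulVec hs' (E6Min.Inv.Zgrp_le K (E6Min.Basic.zU_mem r (f t))) (f ∘ x) (f ∘ y)
  rw [E6Min.Basic.coe_zU hr, ← map_zM f r t] at h1
  have h2 : ∀ v : I27 → F, ((zM r t).map f).mulVec (f ∘ v) = f ∘ ((zM r t).mulVec v) := fun v => by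
    funext i
    exact (RingHom.map_mulVec f _ _ i).symm
  rw [h2, h2, Q_map, Q_map] at h1
  exact h1

/-- Every element of `Zgrp` preserves `Q`. -/
theorem Q_act {g : GL I27 F} (hg : g ∈ Zgrp F) (x y : I27 → F) : Q (act g x) (act g y) = Q x y := by
  revert x y
  unfold Zgrp at hg
  induction hg using Subgroup.closure_induction with
  | mem g hg =>
    obtain ⟨r, t, hr, hg⟩ := hg
    intro x y
    rw [act, act, hg, Q_zM hr]
  | one => intro x y; rw [act_one, act_one]
  | mul g h _ _ hg hh => intro x y; rw [act_mul, act_mul, hg, hh]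
  | inv g _ hg =>
    intro x y
    rw [← hg (act g⁻¹ x), act_act_inv, act_act_inv]

theorem tri_act' {g : GL I27 F} (hg : g ∈ Zgrp F) (x y z : I27 → F) :
    tri (act g x) (act g y) (act g z) = tri x y z := tri_act (E6Min.Inv.Zgrp_le F hg) x y z

theorem Singular.act {g : GL I27 F} (hg : g ∈ Zgrp F) {x : I27 → F} (hx : Singular x) : Singular (act g x) := by
  intro y
  rw [← act_act_inv g y, Q_act hg, hx]

/-! ### The adjoint -/

open Cfsg.Agent.H952.F4 in
set_option maxHeartbeats 4000000 in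
set_option maxRecDepth 20000 in
/-- `Q x y` is the pairing of `x^#` with `y`. -/
theorem Q_eq (x y : I27 → F) : Q x y = tf (sh x) y := by
  simp only [Q, mono, List.map_cons, List.map_nil, List.sum_cons, List.sum_nil, term, tf, sh, ofM, mat3,
    Matrix.adjugate_fin_three, Matrix.trace, Matrix.diag, Matrix.mul_apply, Fin.sum_univ_three, Matrix.of_apply,
    Matrix.sub_apply, Int.cast_one, Int.cast_neg]
  simp only [Matrix.cons_val', Matrix.cons_val_zero, Matrix.cons_val_one, Matrix.cons_val_two, Matrix.cons_val_fin_one,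
    Fin.isValue, Matrix.vecHead, Matrix.vecTail, Function.comp_apply, Fin.succ_zero_eq_one]
  simp only [show (1 : Fin 3) ≠ 0 from by decide, show (2 : Fin 3) ≠ 0 from by decide,
    show (2 : Fin 3) ≠ 1 from by decide, if_true, if_false]
  ring

/-- The dual coordinate of the pairing `tf`. -/
def du (a : I27) : I27 := (-a.1, a.2.2, a.2.1)

open Cfsg.Agent.H952.F4 in
theorem tf_e (z : I27 → F) (a : I27) : tf z (e F a) = z (du a) := by
  obtain ⟨k, i, j⟩ := a
  (revert k i j; simp only [tf, mat3, Matrix.trace, Matrix.diag, Matrix.mul_apply, Fin.sum_univ_three, e_apply, du, show (-1 : Fin 3) = 2 from rfl, show (-2 : Fin 3) = 1 from rfl, _root_.Fin.forall_fin_succ, Fin.isValue, _root_.Prod.mk.injEq, _root_.Matrix.of_apply, _root_.mul_ite, _root_.mul_one, _root_.MulZeroClass.mul_zero, _root_.and_true, _root_.one_ne_zero, _root_.and_false, ↓reduceIte, _root_.add_zero, Fin.reduceEq, _root_.Fin.succ_zero_eq_one, _root_.zero_ne_one, _root_.zero_add,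 _root_.Fin.succ_one_eq_two, _root_.IsEmpty.forall_iff, _root_.neg_zero, _root_.and_self])

theorem du_du (a : I27) : du (du a) = a := by
  revert a; decide

open Cfsg.Agent.H952.F4 in
theorem singular_iff (x : I27 → F) : Singular x ↔ sh x = 0 := by
  constructor
  · intro h
    funext a
    have := h (e F (du a))
    rw [Q_eq, tf_e, du_du] at this
    exact this
  · intro h y
    rw [Q_eq, h]
    simp [tf, mat3, Matrix.trace, Matrix.diag, Matrix.mul_apply]

theorem tri_eq_zero_of_singular {x y : I27 → F} (hx : Singular x) (hy : Singular y) (hxy : Singular (x + y))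
    (z : I27 → F) : tri x y z = 0 := by
  have := Q_add_left x y z
  rw [hx, hy, hxy] at this
  simpa using this.symm

/-! ### Inverse transpose -/

theorem nMat_of_mem {r : ℕ} (hr : r < 72) {q : ℤ × I27 × I27} (hq : q ∈ tabr r) :
    nMat F r q.2.2 q.2.1 = (q.1 : F) := by
  rw [nMat_apply, nv_target hr hq, e_self, mul_one]

theorem nMat_of_not {r : ℕ} (hr : r < 72) {a b : I27} (h : ¬ ∃ q ∈ tabr r, q.2.1 = a ∧ q.2.2 = b) :
    nMat F r b a = 0 := by
  rw [nMat_apply]
  by_cases hb : ∃ q ∈ tabr r, q.2.2 = b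
  · obtain ⟨q, hq, rfl⟩ := hb
    rw [nv_target hr hq, e_ne (fun he => h ⟨q, hq, he, rfl⟩), mul_zero]
  · push Not at hb
    exact nv_other hb _

end Cfsg.Agent.H203.E6
end

-- part: H203/E6/Six
section
/-!
# Totally singular six-dimensional subspaces of the 27-dimensional module of E₆

`Zgrp F` is transitive on them (`exists_mp_eq`), and the stabiliser of the image of a root element normalises that
root subgroup (`conj_root`).
-/

set_option autoImplicit false

namespace Cfsg.Agent.H203.E6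

open Cfsg.Lie Cfsg.Agent.ChevalleyStructure Cfsg.Agent.ChevalleyStructure.E6Form.Cubic
  Cfsg.Agent.ChevalleyStructure.E6Form.Table Cfsg.Agent.ChevalleyStructure.E6Form.Elim Module
open Cfsg.Agent.ChevalleyStructure.E6Min.Basic (Zgrp zM zU)

universe u

variable {F : Type u} [Field F]

/-! ### Images of subspaces -/

/-- The image of a subspace. -/
def mp (g : GL I27 F) (W : Submodule F (I27 → F)) : Submodule F (I27 → F) :=
  W.map (Matrix.toLin' (g : Matrix I27 I27 F))

theorem mem_mp {g : GL I27 F} {W : Submodule F (I27 → F)} {x : I27 → F} : x ∈ mp g W ↔ act g⁻¹ x ∈ W := by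
  constructor
  · rintro ⟨y, hy, rfl⟩
    rw [Matrix.toLin'_apply]
    change act g⁻¹ (act g y) ∈ W
    rwa [act_inv_act]
  · intro h
    exact ⟨_, h, by rw [Matrix.toLin'_apply]; exact act_act_inv g x⟩

theorem act_mem_mp {g : GL I27 F} {W : Submodule F (I27 → F)} {x : I27 → F} (hx : x ∈ W) : act g x ∈ mp g W := by
  rw [mem_mp, act_inv_act]; exact hx

theorem mp_mul (g h : GL I27 F) (W : Submodule F (I27 → F)) : mp (g * h) W = mp g (mp h W) := by
  ext x
  rw [mem_mp, mem_mp, mem_mp, mul_inv_rev, act_mul]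

theorem mp_one (W : Submodule F (I27 → F)) : mp 1 W = W := by
  ext x
  rw [mem_mp, inv_one, act_one]

theorem finrank_mp (g : GL I27 F) (W : Submodule F (I27 → F)) : finrank F (mp g W) = finrank F W := by
  have hinj : Function.Injective (Matrix.toLin' (g : Matrix I27 I27 F)) := by
    intro x y h
    rw [Matrix.toLin'_apply, Matrix.toLin'_apply] at h
    have := congrArg (act g⁻¹) h
    change act g⁻¹ (act g x) = act g⁻¹ (act g y) at this
    rwa [act_inv_act, act_inv_act] at this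
  exact (Submodule.equivMapOfInjective _ hinj W).finrank_eq.symm

/-- Totally singular subspaces. -/
def TS (W : Submodule F (I27 → F)) : Prop := ∀ x ∈ W, Singular x

theorem TS.mp {W : Submodule F (I27 → F)} (hW : TS W) {g : GL I27 F} (hg : g ∈ Zgrp F) : TS (mp g W) := by
  intro x hx
  rw [mem_mp] at hx
  have := Singular.act hg (hW _ hx)
  rwa [act_act_inv] at this

theorem TS.tri {W : Submodule F (I27 → F)} (hW : TS W) {x y : I27 → F} (hx : x ∈ W) (hy : y ∈ W) (z : I27 → F) :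
    tri x y z = 0 := tri_eq_zero_of_singular (hW x hx) (hW y hy) (hW _ (W.add_mem hx hy)) z

/-! ### Linearity of the trilinear form -/

theorem tri_add_left (x x' y z : I27 → F) : tri (x + x') y z = tri x y z + tri x' y z := by
  rw [tri_formula, tri_formula, tri_formula, ← Finset.sum_add_distrib]
  refine Finset.sum_congr rfl fun a _ => ?_
  rw [← Finset.sum_add_distrib]
  refine Finset.sum_congr rfl fun b _ => ?_
  split_ifs
  · rw [Pi.add_apply]; ring
  · rw [add_zero]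

theorem tri_add_mid (x y y' z : I27 → F) : tri x (y + y') z = tri x y z + tri x y' z := by
  rw [tri_comm12, tri_add_left, tri_comm12 y, tri_comm12 y']

theorem tri_add_right (x y z z' : I27 → F) : tri x y (z + z') = tri x y z + tri x y z' := by
  rw [tri_comm23, tri_add_mid, tri_comm23 x z, tri_comm23 x z']

/-- Coordinates at weights non-collinear with a basis vector of a totally singular subspace vanish. -/
theorem TS.apply_eq_zero {W : Submodule F (I27 → F)} (hW : TS W) {w : I27} (hw : e F w ∈ W) {x : I27 → F}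
    (hx : x ∈ W) {b : I27} (hb : nc w b = true) : x b = 0 := by
  obtain ⟨-, h1, h2, -, -⟩ := (th_facts w b).1 hb
  have h3 := hW.tri hw hx (e F (th w b))
  rw [tri_comm23, tri_e_e, if_pos h1, h2] at h3
  exact (mul_eq_zero.1 h3).resolve_left (sg_ne_zero h1)

/-! ### Elimination without restriction on the field -/

theorem eliminate' (K : Subgroup (GL I27 F)) (hKu : K ≤ Zgrp F) (l : I27)
    {x : I27 → F} (hx : Singular x) (hl : x l ≠ 0)
    (hK : ∀ r < 72, ∀ q ∈ tabr r, q.2.1 = l → x q.2.2 ≠ 0 → ∀ t : F, zG r t ∈ K) :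
    ∃ h ∈ K, act h x = x l • e F l := by
  obtain ⟨h, hh, h1, h2, -⟩ := clear K l x hl hK (wts.filter fun b => ip l b == 1)
    (fun b hb => by simpa using (List.mem_filter.1 hb).2)
  have h2' : ∀ b, ip l b = 1 → act h x b = 0 := fun b hb =>
    h2 b (List.mem_filter.2 ⟨mem_wts b, by simpa using hb⟩)
  have hsing : Singular (act h x) := Singular.act (hKu hh) hx
  refine ⟨h, hh, ?_⟩
  funext d
  rw [Pi.smul_apply, smul_eq_mul]
  rcases ip_cases l d with h3 | h3 | h3
  · rw [← h3.2, h1, e_self, mul_one]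
  · rw [h2' d h3.1, e_ne (Ne.symm h3.2.1), mul_zero]
  · rw [hsing.eq_zero (by rwa [h1]) h2' h3.2.2, e_ne (Ne.symm h3.2.1), mul_zero]

theorem exists_reduced (W : Submodule F (I27 → F)) (L : List I27) (hd : L.length < finrank F W) :
    ∃ x ∈ W, x ≠ 0 ∧ ∀ w ∈ L, x w = 0 := by
  let f : W →ₗ[F] (Fin L.length → F) := LinearMap.pi fun i => (LinearMap.proj (L.get i)).comp W.subtype
  have h : finrank F (Fin L.length → F) < finrank F W := by
    rwa [finrank_fin_fun]
  have hk := LinearMap.ker_ne_bot_of_finrank_lt (f := f) h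
  obtain ⟨x, hx, hne⟩ := (Submodule.ne_bot_iff _).1 hk
  refine ⟨x, x.2, fun h => hne (Subtype.ext h), fun w hw => ?_⟩
  obtain ⟨i, rfl⟩ := List.mem_iff_get.1 hw
  exact congrFun (LinearMap.mem_ker.1 hx) i

/-- The check for one step. -/
def chk (L : List I27) (a : I27) : Bool := !(L.contains a) && (L.all fun w => ip w a == 1) &&
  wts.all fun c => !(L.all fun w => ip w c == 1) || reach L c a

theorem step {L : List I27} {a : I27} (hc : chk L a = true) {W : Submodule F (I27 → F)} (hW : TS W)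
    (hL : ∀ w ∈ L, e F w ∈ W) (hd : L.length < finrank F W) : ∃ h ∈ KW (Zgrp F) L, e F a ∈ mp h W := by
  rw [chk, Bool.and_eq_true, Bool.and_eq_true] at hc
  obtain ⟨⟨haL, hLa⟩, hc⟩ := hc
  have haL : a ∉ L := by simpa using haL
  rw [List.all_eq_true] at hLa
  have hKle : KW (Zgrp F) L ≤ Zgrp F := fun h hh => hh.1
  obtain ⟨x, hxW, hx0, hxL⟩ := exists_reduced W L hd
  obtain ⟨c, hxc⟩ : ∃ c, x c ≠ 0 := by
    by_contra hcon
    push Not at hcon
    exact hx0 (funext hcon)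
  have hLc : L.all (fun w => ip w c == 1) = true := by
    rw [List.all_eq_true]
    intro w hw
    rw [beq_iff_eq]
    rcases ip_cases w c with h | h | h
    · exact absurd (h.2 ▸ hxL w hw) hxc
    · exact h.1
    · exact absurd (hW.apply_eq_zero (hL w hw) hxW h.2.2) hxc
  have hreach : reach L c a = true := by
    have := forall_wts hc c
    rw [hLc] at this
    simpa using this
  obtain ⟨k, hk, hne⟩ := pivot (G0 := Zgrp F) (fun r hr t => zG_mem hr t) hreach hxc
  have hkx : act k x ∈ mp k W := act_mem_mp hxW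
  have hTS : TS (mp k W) := hW.mp (hKle hk)
  have hkL : ∀ w ∈ L, e F w ∈ mp k W := fun w hw => by
    have := act_mem_mp (g := k) (hL w hw)
    rwa [hk.2 w hw] at this
  obtain ⟨h, hh, h1⟩ := eliminate' (KW (Zgrp F) L) hKle a (hTS _ hkx) hne (by
    intro r hr q hq hql hne' t
    refine ⟨zG_mem hr t, fun w hw => act_zG_e_of_not_source hr ?_ t⟩
    intro q' hq' he
    have h1 := ((tab_facts hr hq).2.2.2 q' hq').2.2.2 w
    have h3 := (tab_facts hr hq').2.1
    rw [he] at h3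
    rw [he, ip_self, hql, h3] at h1
    have h4 : ip w a = 1 := by simpa using hLa w hw
    rw [h4] at h1
    rcases ip_cases w q.2.2 with h5 | h5 | h5
    · omega
    · omega
    · exact hne' (hTS.apply_eq_zero (hkL w hw) hkx h5.2.2))
  refine ⟨h * k, Subgroup.mul_mem _ hh hk, ?_⟩
  rw [mp_mul]
  have h2 := act_mem_mp (g := h) hkx
  rw [h1] at h2
  have h3 := (mp h (mp k W)).smul_mem (act k x a)⁻¹ h2
  rwa [smul_smul, inv_mul_cancel₀ hne, one_smul] at h3

/-- The targets of the root element with index 0. -/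
def T6 : List I27 := [(0, 2, 0), (0, 2, 1), (0, 2, 2), (2, 0, 1), (2, 1, 1), (2, 2, 1)]

/-- The vectors supported on the targets. -/
def W6 (F : Type u) [Field F] : Submodule F (I27 → F) where
  carrier := {x | ∀ a, a ∉ T6 → x a = 0}
  add_mem' {x y} hx hy a ha := by rw [Pi.add_apply, hx a ha, hy a ha, add_zero]
  zero_mem' a _ := rfl
  smul_mem' c x hx a ha := by rw [Pi.smul_apply, hx a ha, smul_zero]

theorem finrank_W6_le : finrank F (W6 F) ≤ 6 := by
  let f : W6 F →ₗ[F] (Fin T6.length → F) := LinearMap.pi fun i => (LinearMap.proj (T6.get i)).comp (W6 F).subtype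
  have hinj : Function.Injective f := by
    rw [← LinearMap.ker_eq_bot, LinearMap.ker_eq_bot']
    intro x hx
    apply Subtype.ext
    funext a
    by_cases ha : a ∈ T6
    · obtain ⟨i, rfl⟩ := List.mem_iff_get.1 ha
      exact congrFun hx i
    · exact x.2 a ha
  have := LinearMap.finrank_le_finrank_of_injective hinj
  rwa [finrank_fin_fun] at this

/-- The last weight collinear with the first four. -/
theorem last_facts : (∀ a, a ∉ T6 → a ≠ (2, 0, 0) → nc (0, 2, 0) a = true ∨ nc (0, 2, 1) a = true ∨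
    nc (0, 2, 2) a = true ∨ nc (2, 0, 1) a = true) := by
  intro a
  have h := forall_wts (p := fun a => T6.contains a || (a == (2, 0, 0)) || nc (0, 2, 0) a || nc (0, 2, 1) a ||
    nc (0, 2, 2) a || nc (2, 0, 1) a) (by decide +kernel) a
  simp only [Bool.or_eq_true, beq_iff_eq, List.contains_iff_mem] at h
  tauto

/-- A totally singular subspace of dimension six containing the first four basis vectors. -/
theorem le_W6 {W : Submodule F (I27 → F)} (hW : TS W) (h6 : finrank F W = 6) (h1 : e F (0, 2, 0) ∈ W)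
    (h2 : e F (0, 2, 1) ∈ W) (h3 : e F (0, 2, 2) ∈ W) (h4 : e F (2, 0, 1) ∈ W) : W = W6 F := by
  have hz : ∀ x ∈ W, ∀ a, a ∉ T6 → a ≠ (2, 0, 0) → x a = 0 := by
    intro x hx a ha hb
    rcases last_facts a ha hb with h | h | h | h
    · exact hW.apply_eq_zero h1 hx h
    · exact hW.apply_eq_zero h2 hx h
    · exact hW.apply_eq_zero h3 hx h
    · exact hW.apply_eq_zero h4 hx h
  obtain ⟨y, hy, hy0, hyL⟩ := exists_reduced W [(0, 2, 0), (0, 2, 1), (0, 2, 2), (2, 0, 1), (2, 0, 0)]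
    (by rw [h6]; decide)
  have hy' : y = y (2, 1, 1) • e F (2, 1, 1) + y (2, 2, 1) • e F (2, 2, 1) := by
    funext a
    rw [Pi.add_apply, Pi.smul_apply, Pi.smul_apply, smul_eq_mul, smul_eq_mul]
    by_cases ha : a ∈ T6
    · by_cases h5 : a = (2, 1, 1)
      · subst h5; rw [e_self, e_ne (by decide)]; ring
      · by_cases h6 : a = (2, 2, 1)
        · subst h6; rw [e_self, e_ne (by decide)]; ring
        · rw [e_ne h5, e_ne h6, hyL a]
          · ring
          · simp only [T6, List.mem_cons, List.not_mem_nil, or_false] at ha ⊢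
            (clear * - h5 h6 ha; tauto)
    · have h5 : a ≠ (2, 1, 1) := fun h => ha (h ▸ by decide)
      have h6 : a ≠ (2, 2, 1) := fun h => ha (h ▸ by decide)
      rw [e_ne h5, e_ne h6]
      by_cases hb : a = (2, 0, 0)
      · rw [hyL a (by rw [hb]; decide)]; ring
      · rw [hz y hy a ha hb]; ring
  have key : ∀ x ∈ W, x (2, 0, 0) = 0 := by
    intro x hx
    by_contra hne
    have ht : ∀ z, y (2, 1, 1) * tri (e F (2, 1, 1)) x z + y (2, 2, 1) * tri (e F (2, 2, 1)) x z = 0 := by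
      intro z
      have := hW.tri hy hx z
      rw [hy', tri_add_left, tri_smul_left, tri_smul_left] at this
      exact this
    have t1 := ht (e F (2, 2, 2))
    have t2 := ht (e F (2, 1, 2))
    rw [tri_comm23, tri_e_e, tri_comm23 (e F (2, 2, 1)), tri_e_e, if_pos (by decide), if_neg (by decide),
      show th (2, 1, 1) (2, 2, 2) = (2, 0, 0) by decide] at t1
    rw [tri_comm23, tri_e_e, tri_comm23 (e F (2, 2, 1)), tri_e_e, if_neg (by decide), if_pos (by decide),
      show th (2, 2, 1) (2, 1, 2) = (2, 0, 0) by decide] at t2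
    have s1 : ((sg (2, 1, 1) (2, 2, 2) : ℤ) : F) ≠ 0 := sg_ne_zero (by decide)
    have s2 : ((sg (2, 2, 1) (2, 1, 2) : ℤ) : F) ≠ 0 := sg_ne_zero (by decide)
    have u1 : y (2, 1, 1) = 0 := by
      have : y (2, 1, 1) * ((sg (2, 1, 1) (2, 2, 2) : ℤ) * x (2, 0, 0)) = 0 := by simpa only [_root_.Fin.isValue, _root_.mul_eq_zero, _root_.MulZeroClass.mul_zero, _root_.add_zero] using t1
      exact (mul_eq_zero.1 this).resolve_right (mul_ne_zero s1 hne)
    have u2 : y (2, 2, 1) = 0 := by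
      have : y (2, 2, 1) * ((sg (2, 2, 1) (2, 1, 2) : ℤ) * x (2, 0, 0)) = 0 := by simpa only [_root_.Fin.isValue, _root_.mul_eq_zero, _root_.MulZeroClass.mul_zero, _root_.zero_add] using t2
      exact (mul_eq_zero.1 this).resolve_right (mul_ne_zero s2 hne)
    apply hy0
    rw [hy', u1, u2, zero_smul, zero_smul, add_zero]
  have hle : W ≤ W6 F := by
    intro x hx a ha
    by_cases hb : a = (2, 0, 0)
    · rw [hb]; exact key x hx
    · exact hz x hx a ha hb
  exact Submodule.eq_of_le_of_finrank_le hle (by rw [h6]; exact finrank_W6_le)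

theorem checks : chk [] (0, 2, 0) = true ∧ chk [(0, 2, 0)] (0, 2, 1) = true ∧
    chk [(0, 2, 1), (0, 2, 0)] (0, 2, 2) = true ∧ chk [(0, 2, 2), (0, 2, 1), (0, 2, 0)] (2, 0, 1) = true := by
  decide +kernel

/-- **Transitivity on the totally singular subspaces of dimension six.** -/
theorem exists_mp_eq {W : Submodule F (I27 → F)} (hW : TS W) (h6 : finrank F W = 6) :
    ∃ g ∈ Zgrp F, mp g W = W6 F := by
  obtain ⟨g1, hg1, m1⟩ := step checks.1 hW (by simp) (by rw [h6]; decide)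
  have hW1 := hW.mp hg1.1
  have f1 : finrank F (mp g1 W) = 6 := by rw [finrank_mp, h6]
  obtain ⟨g2, hg2, m2⟩ := step checks.2.1 hW1 (by simpa using m1) (by rw [f1]; decide)
  have hW2 := hW1.mp hg2.1
  have f2 : finrank F (mp g2 (mp g1 W)) = 6 := by rw [finrank_mp, f1]
  have n1 : e F (0, 2, 0) ∈ mp g2 (mp g1 W) := by
    have := act_mem_mp (g := g2) m1
    rwa [hg2.2 _ (by simp)] at this
  obtain ⟨g3, hg3, m3⟩ := step checks.2.2.1 hW2 (by
    intro w hw
    simp only [List.mem_cons, List.not_mem_nil, or_false] at hw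
    rcases hw with rfl | rfl
    · exact m2
    · exact n1) (by rw [f2]; decide)
  have hW3 := hW2.mp hg3.1
  have f3 : finrank F (mp g3 (mp g2 (mp g1 W))) = 6 := by rw [finrank_mp, f2]
  have k1 : e F (0, 2, 0) ∈ mp g3 (mp g2 (mp g1 W)) := by
    have := act_mem_mp (g := g3) n1
    rwa [hg3.2 _ (by simp)] at this
  have k2 : e F (0, 2, 1) ∈ mp g3 (mp g2 (mp g1 W)) := by
    have := act_mem_mp (g := g3) m2
    rwa [hg3.2 _ (by simp)] at this
  obtain ⟨g4, hg4, m4⟩ := step checks.2.2.2 hW3 (by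
    intro w hw
    simp only [List.mem_cons, List.not_mem_nil, or_false] at hw
    rcases hw with rfl | rfl | rfl
    · exact m3
    · exact k2
    · exact k1) (by rw [f3]; decide)
  have l1 : e F (0, 2, 0) ∈ mp g4 (mp g3 (mp g2 (mp g1 W))) := by
    have := act_mem_mp (g := g4) k1
    rwa [hg4.2 _ (by simp)] at this
  have l2 : e F (0, 2, 1) ∈ mp g4 (mp g3 (mp g2 (mp g1 W))) := by
    have := act_mem_mp (g := g4) k2
    rwa [hg4.2 _ (by simp)] at this
  have l3 : e F (0, 2, 2) ∈ mp g4 (mp g3 (mp g2 (mp g1 W))) := by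
    have := act_mem_mp (g := g4) m3
    rwa [hg4.2 _ (by simp)] at this
  refine ⟨g4 * (g3 * (g2 * g1)), mul_mem hg4.1 (mul_mem hg3.1 (mul_mem hg2.1 hg1.1)), ?_⟩
  rw [mp_mul, mp_mul, mp_mul]
  exact le_W6 (hW3.mp hg4.1) (by rw [finrank_mp, f3]) l1 l2 l3 m4

/-! ### Uniqueness of the root subgroup -/

/-- The value of the derivation identity on basis vectors. -/
def der (E : Matrix I27 I27 F) (a b c : I27) : F :=
  (if nc b c = true then ((sg b c : ℤ) : F) * E (th b c) a else 0) +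
    (if nc a c = true then ((sg a c : ℤ) : F) * E (th a c) b else 0) +
    (if nc a b = true then ((sg a b : ℤ) : F) * E (th a b) c else 0)

theorem mulVec_e (E : Matrix I27 I27 F) (a b : I27) : E.mulVec (e F a) b = E b a := by
  rw [e, Matrix.mulVec_single_one, Matrix.col_apply]

/-- A transvection-like element `1 + E` with `E` mapping into a totally singular subspace satisfies the derivation
identity. -/
theorem der_eq_zero {E : Matrix I27 I27 F} {W : Submodule F (I27 → F)} (hW : TS W)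
    (hE : ∀ x, E.mulVec x ∈ W) (htri : ∀ x y z, tri (x + E.mulVec x) (y + E.mulVec y) (z + E.mulVec z) = tri x y z)
    (a b c : I27) : der E a b c = 0 := by
  have h12 : ∀ x y z, tri (E.mulVec x) (E.mulVec y) z = 0 := fun x y z => hW.tri (hE x) (hE y) z
  have h13 : ∀ x y z, tri (E.mulVec x) y (E.mulVec z) = 0 := fun x y z => by
    rw [tri_comm23]; exact h12 x z y
  have h23 : ∀ x y z, tri x (E.mulVec y) (E.mulVec z) = 0 := fun x y z => by
    rw [tri_comm12]; exact h13 y x z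
  have h := htri (e F a) (e F b) (e F c)
  simp only [tri_add_left, tri_add_mid, tri_add_right, h12, h13, h23, add_zero] at h
  have h1 : tri (E.mulVec (e F a)) (e F b) (e F c) =
      if nc b c = true then ((sg b c : ℤ) : F) * E (th b c) a else 0 := by
    rw [tri_comm12, tri_comm23, tri_e_e, mulVec_e]
  have h2 : tri (e F a) (E.mulVec (e F b)) (e F c) =
      if nc a c = true then ((sg a c : ℤ) : F) * E (th a c) b else 0 := by
    rw [tri_comm23, tri_e_e, mulVec_e]
  have h3 : tri (e F a) (e F b) (E.mulVec (e F c)) =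
      if nc a b = true then ((sg a b : ℤ) : F) * E (th a b) c else 0 := by
    rw [tri_e_e, mulVec_e]
  rw [der, ← h1, ← h2, ← h3]
  linear_combination h

theorem der_sub_smul (E N : Matrix I27 I27 F) (k : F) (a b c : I27) :
    der (E - k • N) a b c = der E a b c - k * der N a b c := by
  simp only [der, Matrix.sub_apply, Matrix.smul_apply, smul_eq_mul]
  split_ifs <;> ring

/-- The check that the derivation identities determine a matrix with rows in `T6` up to one entry. -/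
def chkE : Bool := T6.all fun d => wts.all fun x => ((d == ((0, 2, 0) : I27)) && (x == ((0, 1, 0) : I27))) ||
  wts.any fun y => wts.any fun z => nc y z && (th y z == d) &&
    (!(nc x z && T6.contains (th x z)) || ((th x z == ((0, 2, 0) : I27)) && (y == ((0, 1, 0) : I27)))) &&
    (!(nc x y && T6.contains (th x y)) || ((th x y == ((0, 2, 0) : I27)) && (z == ((0, 1, 0) : I27))))

theorem chkE_true : chkE = true := by decide +kernel

theorem eq_zero_of_der {E : Matrix I27 I27 F} (hE : ∀ d, d ∉ T6 → ∀ x, E d x = 0) (h0 : E (0, 2, 0) (0, 1, 0) = 0)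
    (hder : ∀ a b c, der E a b c = 0) : E = 0 := by
  ext d x
  rw [Matrix.zero_apply]
  by_cases hd : d ∈ T6
  · have h := chkE_true
    rw [chkE, List.all_eq_true] at h
    have h1 := forall_wts (h d hd) x
    rw [Bool.or_eq_true, Bool.and_eq_true, beq_iff_eq, beq_iff_eq, List.any_eq_true] at h1
    rcases h1 with ⟨rfl, rfl⟩ | ⟨y, -, h1⟩
    · exact h0
    · rw [List.any_eq_true] at h1
      obtain ⟨z, -, h1⟩ := h1
      rw [Bool.and_eq_true, Bool.and_eq_true, Bool.and_eq_true] at h1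
      obtain ⟨⟨⟨h1, h2⟩, h3⟩, h4⟩ := h1
      rw [beq_iff_eq] at h2
      have key : ∀ u v : I27, (!(nc x u && T6.contains (th x u)) || ((th x u == ((0, 2, 0) : I27)) &&
          (v == ((0, 1, 0) : I27)))) = true → nc x u = true → E (th x u) v = 0 := by
        intro u v h5 h6
        rw [h6, Bool.true_and] at h5
        by_cases h7 : th x u ∈ T6
        · have h8 : T6.contains (th x u) = true := by simpa using h7
          rw [h8] at h5
          simp only [Bool.not_true, Bool.false_or, Bool.and_eq_true, beq_iff_eq] at h5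
          rw [h5.1, h5.2]; exact h0
        · exact hE _ h7 _
      have h5 := hder x y z
      rw [der, if_pos h1, h2] at h5
      have h6 : (if nc x z = true then ((sg x z : ℤ) : F) * E (th x z) y else 0) = 0 := by
        split_ifs with h7
        · rw [key z y h3 h7, mul_zero]
        · rfl
      have h8 : (if nc x y = true then ((sg x y : ℤ) : F) * E (th x y) z else 0) = 0 := by
        split_ifs with h7
        · rw [key y z h4 h7, mul_zero]
        · rfl
      rw [h6, h8, add_zero, add_zero] at h5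
      exact (mul_eq_zero.1 h5).resolve_left (sg_ne_zero h1)
  · exact hE d hd x

theorem nMat_mem_W6 (x : I27 → F) : (nMat F 0).mulVec x ∈ W6 F := by
  intro a ha
  rw [nMat_mulVec]
  refine nv_other (fun q hq he => ha ?_) x
  have : (tabr 0).all (fun q => T6.contains q.2.2) = true := by decide +kernel
  rw [List.all_eq_true] at this
  simpa [he] using this q hq

private noncomputable def _root_.Cfsg.Agent.KOf9ff029.k35s : (by first | exact Subtype (fun g => @List.elem.{0} (@Cfsg.Lie.I27) _ = @g) | exact Unit : Sort _) := by first | (refine @Subtype.mk _ _ (@(fun x0 x1 => @List.rec.{1, 0} @Cfsg.Lie.I27 @(fun x2 => @Bool) @Bool.false @(fun x2 x3 x4 => @Bool.rec.{1} @(fun x5 => @Bool) @x4 @Bool.true (@Cfsg.Agent.KOf9ff029.k22 @x0 @x2)) @x1)) ?_; rewrite [← Cfsg.Agent.KOf9ff029.e22]; funext a2 a3; refine (_root_.Cfsg.Agent.KOf9ff029.e2 (fun a3 => @List.elem.{0} (@Cfsg.Lie.I27) _ a2 a3) ?_ (fun c0 c1 => ?_) a3 :) <;> (rfl')) | exact ⟨_, rfl⟩ |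 exact ()
private noncomputable def _root_.Cfsg.Agent.KOf9ff029.k35 : (by first | exact type_of% (@Subtype.val _ _ _root_.Cfsg.Agent.KOf9ff029.k35s) | exact Unit : Sort _) := by first | exact @Subtype.val _ _ _root_.Cfsg.Agent.KOf9ff029.k35s | exact ()
private theorem _root_.Cfsg.Agent.KOf9ff029.e35 : (by first | exact type_of% (show _ = @_root_.Cfsg.Agent.KOf9ff029.k35 from @Subtype.property _ _ _root_.Cfsg.Agent.KOf9ff029.k35s) | exact True : Prop) := by first | exact @Subtype.property _ _ _root_.Cfsg.Agent.KOf9ff029.k35s | trivial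
private noncomputable def _root_.Cfsg.Agent.KOf9ff029.k47s : (by first | exact Subtype (fun g => @List.contains.{0} (@Cfsg.Lie.I27) _ = @g) | exact Unit : Sort _) := by first | (refine @Subtype.mk _ _ (@(fun x0 x1 => @Cfsg.Agent.KOf9ff029.k35 @x1 @x0)) ?_; rewrite [← Cfsg.Agent.KOf9ff029.e35]; (try delta List.contains); with_reducible_and_instances rfl) | exact ⟨_, rfl⟩ | exact ()
private noncomputable def _root_.Cfsg.Agent.KOf9ff029.k47 : (by first | exact type_of% (@Subtype.val _ _ _root_.Cfsg.Agent.KOf9ff029.k47s) | exact Unit : Sort _) := by first | exact @Subtype.val _ _ _root_.Cfsg.Agent.KOf9ff029.k47s | exact ()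
private theorem _root_.Cfsg.Agent.KOf9ff029.e47 : (by first | exact type_of% (show _ = @_root_.Cfsg.Agent.KOf9ff029.k47 from @Subtype.property _ _ _root_.Cfsg.Agent.KOf9ff029.k47s) | exact True : Prop) := by first | exact @Subtype.property _ _ _root_.Cfsg.Agent.KOf9ff029.k47s | trivial
private noncomputable def _root_.Cfsg.Agent.KOf9ff029.k48 : type_of% @Bool.not := @(fun x0 => @Bool.rec.{1} @(fun x1 => @Bool) @Bool.true @Bool.false @x0)
private theorem _root_.Cfsg.Agent.KOf9ff029.e48 : @Bool.not = @_root_.Cfsg.Agent.KOf9ff029.k48 := by delta _root_.Cfsg.Agent.KOf9ff029.k48; rfl'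

theorem W6_TS : TS (W6 F) := by
  intro x hx y
  rw [Q_eq_L3]
  have h : L3.all (fun t => !(T6.contains t.2.1 && T6.contains t.2.2.1)) = true := by (first | (rewrite [Cfsg.Agent.KOf9ff029.e47, Cfsg.Agent.KOf9ff029.e3.{0}, Cfsg.Agent.KOf9ff029.e48, Cfsg.Agent.KOf9ff029.e7]; decide +kernel) | decide +kernel)
  rw [List.all_eq_true] at h
  apply List.sum_eq_zero
  intro v hv
  obtain ⟨t, ht, rfl⟩ := List.mem_map.1 hv
  have h1 := h t ht
  rw [Bool.not_eq_true', Bool.and_eq_false_iff] at h1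
  rcases h1 with h1 | h1
  · rw [term, hx t.2.1 (by simpa using h1)]; ring
  · rw [term, hx t.2.2.1 (by simpa using h1)]; ring

theorem nMat_entry : nMat F 0 (0, 2, 0) (0, 1, 0) = -1 := by
  have hq : ((-1, (0, 1, 0), (0, 2, 0)) : ℤ × I27 × I27) ∈ tabr 0 := by decide +kernel
  have := nMat_of_mem (F := F) (r := 0) (by norm_num) hq
  simpa using this

/-- **The stabiliser of `W6` normalises the root subgroup.** -/
theorem conj_root {h : GL I27 F} (hh : h ∈ Zgrp F) (hW : mp h (W6 F) = W6 F) : ∃ c : F, c ≠ 0 ∧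
    (h : Matrix I27 I27 F) * nMat F 0 = c • (nMat F 0 * (h : Matrix I27 I27 F)) := by
  set hi : Matrix I27 I27 F := ((h⁻¹ : GL I27 F) : Matrix I27 I27 F) with hhi
  have m1 : (h : Matrix I27 I27 F) * hi = 1 := by rw [hhi, ← Units.val_mul, mul_inv_cancel, Units.val_one]
  have m2 : hi * (h : Matrix I27 I27 F) = 1 := by rw [hhi, ← Units.val_mul, inv_mul_cancel, Units.val_one]
  set E : Matrix I27 I27 F := (h : Matrix I27 I27 F) * nMat F 0 * hi with hE
  have hEW : ∀ x, E.mulVec x ∈ W6 F := by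
    intro x
    rw [hE, ← Matrix.mulVec_mulVec, ← Matrix.mulVec_mulVec]
    have := act_mem_mp (g := h) (nMat_mem_W6 (F := F) (hi.mulVec x))
    rw [hW] at this
    exact this
  have htN : ∀ x y z : I27 → F, tri (x + (nMat F 0).mulVec x) (y + (nMat F 0).mulVec y) (z + (nMat F 0).mulVec z) =
      tri x y z := by
    intro x y z
    have := tri_act' (zG_mem (F := F) (r := 0) (by norm_num) 1) x y z
    simp only [act_zG, one_smul, ← nMat_mulVec] at this
    exact this
  have htE : ∀ x y z : I27 → F, tri (x + E.mulVec x) (y + E.mulVec y) (z + E.mulVec z) = tri x y z := by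
    intro x y z
    have hk : h * zG 0 1 * h⁻¹ ∈ Zgrp F := mul_mem (mul_mem hh (zG_mem (by norm_num) 1)) (inv_mem hh)
    have := tri_act' hk x y z
    have h1 : ∀ v : I27 → F, act (h * zG 0 1 * h⁻¹) v = v + E.mulVec v := by
      intro v
      rw [act_mul, act_mul, act_zG, one_smul, act_add, act_act_inv, ← nMat_mulVec]
      congr 1
      rw [hE, ← Matrix.mulVec_mulVec, ← Matrix.mulVec_mulVec]
      rfl
    rw [h1, h1, h1] at this
    exact this
  set k : F := -E (0, 2, 0) (0, 1, 0) with hk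
  have hzero : E - k • nMat F 0 = 0 := by
    apply eq_zero_of_der
    · intro d hd x
      have h1 := hEW (e F x) d hd
      have h2 := nMat_mem_W6 (e F x) d hd
      rw [mulVec_e] at h1 h2
      rw [Matrix.sub_apply, Matrix.smul_apply, h1, h2, smul_zero, sub_zero]
    · rw [Matrix.sub_apply, Matrix.smul_apply, nMat_entry, hk]
      simp
    · intro a b c
      rw [der_sub_smul, der_eq_zero W6_TS hEW htE, der_eq_zero W6_TS nMat_mem_W6 htN, mul_zero, sub_zero]
  have hEk : E = k • nMat F 0 := sub_eq_zero.1 hzero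
  refine ⟨k, ?_, ?_⟩
  · intro hk0
    rw [hk0, zero_smul] at hEk
    have h1 : nMat F 0 = hi * E * (h : Matrix I27 I27 F) := by
      rw [hE, ← mul_assoc, ← mul_assoc, m2, one_mul, mul_assoc, m2, mul_one]
    rw [hEk, mul_zero, zero_mul] at h1
    have h2 := nMat_entry (F := F)
    rw [h1, Matrix.zero_apply] at h2
    exact one_ne_zero (neg_eq_zero.1 h2.symm)
  · have h1 : (h : Matrix I27 I27 F) * nMat F 0 = E * (h : Matrix I27 I27 F) := by
      rw [hE, mul_assoc _ hi, m2, mul_one]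
    rw [h1, hEk, Matrix.smul_mul]

end Cfsg.Agent.H203.E6
end

-- part: H203/E6/Sing
section
/-!
# S5927, S5928: a perfect group stabilising a totally singular 6-space commutes with a root element (helper203)
-/

set_option autoImplicit false

namespace Cfsg.Agent.H203.E6

open Cfsg.Lie Cfsg.Agent.ChevalleyStructure Cfsg.Agent.ChevalleyStructure.E6Form.Cubic
  Cfsg.Agent.ChevalleyStructure.E6Form.Table Cfsg.Agent.ChevalleyStructure.E6Form.Elim Module
open Cfsg.Agent.ChevalleyStructure.E6Min.Basic (Zgrp zM zU)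
open Cfsg.Agent.ChevalleyStructure.E6Min.Adjoint (ad ker_ad)
open scoped commutatorElement

universe u

variable {F : Type u} [Field F]

/-- The elements commuting with a matrix up to a scalar: commutators commute with it. -/
theorem commutator_comm {N : Matrix I27 I27 F} {h k : GL I27 F} {c d : F} (hc : c ≠ 0) (hd : d ≠ 0)
    (h1 : (h : Matrix I27 I27 F) * N = c • (N * (h : Matrix I27 I27 F)))
    (h2 : (k : Matrix I27 I27 F) * N = d • (N * (k : Matrix I27 I27 F))) :
    ((⁅h, k⁆ : GL I27 F) : Matrix I27 I27 F) * N = N * ((⁅h, k⁆ : GL I27 F) : Matrix I27 I27 F) := by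
  have inv : ∀ {h : GL I27 F} {c : F}, c ≠ 0 → (h : Matrix I27 I27 F) * N = c • (N * (h : Matrix I27 I27 F)) →
      ((h⁻¹ : GL I27 F) : Matrix I27 I27 F) * N = c⁻¹ • (N * ((h⁻¹ : GL I27 F) : Matrix I27 I27 F)) := by
    intro h c hc h1
    have m1 : (h : Matrix I27 I27 F) * ((h⁻¹ : GL I27 F) : Matrix I27 I27 F) = 1 := by
      rw [← Units.val_mul, mul_inv_cancel, Units.val_one]
    have m2 : ((h⁻¹ : GL I27 F) : Matrix I27 I27 F) * (h : Matrix I27 I27 F) = 1 := by
      rw [← Units.val_mul, inv_mul_cancel, Units.val_one]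
    calc ((h⁻¹ : GL I27 F) : Matrix I27 I27 F) * N
        = ((h⁻¹ : GL I27 F) : Matrix I27 I27 F) * (N * (h : Matrix I27 I27 F)) * ((h⁻¹ : GL I27 F) : Matrix I27 I27 F) := by
          rw [mul_assoc, mul_assoc, m1, mul_one]
      _ = ((h⁻¹ : GL I27 F) : Matrix I27 I27 F) * (c⁻¹ • ((h : Matrix I27 I27 F) * N)) *
            ((h⁻¹ : GL I27 F) : Matrix I27 I27 F) := by
          rw [h1, smul_smul, inv_mul_cancel₀ hc, one_smul]
      _ = c⁻¹ • (N * ((h⁻¹ : GL I27 F) : Matrix I27 I27 F)) := by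
          rw [Matrix.mul_smul, Matrix.smul_mul, ← mul_assoc, m2, one_mul]
  have h1' := inv hc h1
  have h2' := inv hd h2
  rw [commutatorElement_def, Units.val_mul, Units.val_mul, Units.val_mul]
  set a := (h : Matrix I27 I27 F)
  set b := (k : Matrix I27 I27 F)
  set a' := ((h⁻¹ : GL I27 F) : Matrix I27 I27 F)
  set b' := ((k⁻¹ : GL I27 F) : Matrix I27 I27 F)
  calc a * b * a' * b' * N = a * b * a' * (b' * N) := by rw [mul_assoc]
    _ = d⁻¹ • (a * b * (a' * N) * b') := by rw [h2', Matrix.mul_smul]; simp only [mul_assoc]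
    _ = d⁻¹ • c⁻¹ • (a * (b * N) * a' * b') := by
        rw [h1', Matrix.mul_smul, Matrix.smul_mul]; simp only [mul_assoc]
    _ = d⁻¹ • c⁻¹ • d • ((a * N) * b * a' * b') := by
        rw [h2, Matrix.mul_smul, Matrix.smul_mul, Matrix.smul_mul]; simp only [mul_assoc]
    _ = (d⁻¹ * c⁻¹ * d * c) • (N * (a * b * a' * b')) := by
        rw [h1, Matrix.smul_mul, Matrix.smul_mul, Matrix.smul_mul, smul_smul, smul_smul, smul_smul]
        simp only [mul_assoc]
    _ = N * (a * b * a' * b') := by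
        have : d⁻¹ * c⁻¹ * d * c = 1 := by field_simp
        rw [this, one_smul]

theorem TS_of {W : Submodule F (I27 → F)} (hW : Cfsg.Agent.H163.E6.TS W) : TS W := fun x hx =>
  (singular_iff x).2 (hW.1 x hx)

open Cfsg.Agent.H184.GraphE6 Cfsg.Agent.H952.F4 in
/-- The permutation `P` of the coordinates is compatible with the adjoint. -/
theorem sh_PU (x : I27 → F) : sh (act (PU F) x) = act (PU F) (sh x) := by
  funext a
  change _ = (PM F).mulVec (sh x) a
  have h : act (PU F) x = fun b => x (pi b) := by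
    funext b; exact PM_mulVec x b
  rw [h, PM_mulVec]
  obtain ⟨k, i, j⟩ := a
  (revert k i j; simp only [sh, ofM, mat3, Matrix.adjugate_fin_three, Matrix.mul_apply, Fin.sum_univ_three, pi, _root_.Fin.forall_fin_succ, Fin.isValue, _root_.Nat.succ_eq_add_one, Nat.reduceAdd, _root_.Matrix.cons_val_zero, _root_.Matrix.of_apply, _root_.Matrix.cons_val_one, _root_.Matrix.cons_val, _root_.Matrix.sub_apply, _root_.Matrix.cons_val', _root_.Matrix.cons_val_fin_one, _root_.Matrix.cons_val_succ, _root_.Fin.succ_zero_eq_one, _root_.Fin.succ_one_eq_two, _root_.IsEmpty.forall_iff, _root_.and_true, ↓reduceIte, _root_.Fin.succ_ne_zero, Fin.reduceEq, _root_.one_ne_zero]) <;> (repeat' with_reducible apply And.intro) <;> ring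

end Cfsg.Agent.H203.E6

namespace Cfsg.Agent.H163.E6.Sing

open Cfsg.Lie Cfsg.Agent.H203.E6 Module
open Cfsg.Agent.ChevalleyStructure.E6Form.Table (act act_mul act_one)
open Cfsg.Agent.ChevalleyStructure.E6Min.Basic (Zgrp)
open Cfsg.Agent.ChevalleyStructure.E6Min.Adjoint (ad ker_ad)
open Cfsg.Agent.H184.GraphE6 (gU PU PU_sq dual dual_dual dual_mem_Zgrp)

universe u

variable {F : Type u} [Field F]

end Cfsg.Agent.H163.E6.Sing
end

-- part: H203/E6/Three
section
/-!
# Totally singular three-dimensional subspaces of the 27-dimensional module of E₆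

The stabiliser of a totally singular 3-space acts linearly on a two-dimensional space of root elements.
-/

set_option autoImplicit false

namespace Cfsg.Agent.H203.E6

open Cfsg.Lie Cfsg.Agent.ChevalleyStructure Cfsg.Agent.ChevalleyStructure.E6Form.Cubic
  Cfsg.Agent.ChevalleyStructure.E6Form.Table Cfsg.Agent.ChevalleyStructure.E6Form.Elim Module
open Cfsg.Agent.ChevalleyStructure.E6Min.Basic (Zgrp zM zU)
open Cfsg.Agent.ChevalleyStructure.E6Min.Adjoint (ad ker_ad)

universe u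

variable {F : Type u} [Field F]

/-- The vectors supported on a list of weights. -/
def Ws (F : Type u) [Field F] (T : List I27) : Submodule F (I27 → F) where
  carrier := {x | ∀ a, a ∉ T → x a = 0}
  add_mem' {x y} hx hy a ha := by rw [Pi.add_apply, hx a ha, hy a ha, add_zero]
  zero_mem' a _ := rfl
  smul_mem' c x hx a ha := by rw [Pi.smul_apply, hx a ha, smul_zero]

theorem Ws_TS {T : List I27} (h : (L3.all fun t => !(T.contains t.2.1 && T.contains t.2.2.1)) = true) :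
    TS (Ws F T) := by
  intro x hx y
  rw [Q_eq_L3]
  rw [List.all_eq_true] at h
  apply List.sum_eq_zero
  intro v hv
  obtain ⟨t, ht, rfl⟩ := List.mem_map.1 hv
  have h1 := h t ht
  rw [Bool.not_eq_true', Bool.and_eq_false_iff] at h1
  rcases h1 with h1 | h1
  · rw [term, hx t.2.1 (by simpa using h1)]; ring
  · rw [term, hx t.2.2.1 (by simpa using h1)]; ring

theorem nMat_mem_Ws {T : List I27} {r : ℕ} (h : ((tabr r).all fun q => T.contains q.2.2) = true) (x : I27 → F) :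
    (nMat F r).mulVec x ∈ Ws F T := by
  intro a ha
  rw [nMat_mulVec]
  refine nv_other (fun q hq he => ha ?_) x
  rw [List.all_eq_true] at h
  simpa [he] using h q hq

/-- The check that the derivation identities determine a matrix with rows in `T` up to the entries in `P`. -/
def chkG (T : List I27) (P : List (I27 × I27)) : Bool := T.all fun d => wts.all fun x => P.contains (d, x) ||
  wts.any fun y => wts.any fun z => nc y z && (th y z == d) &&
    (!(nc x z && T.contains (th x z)) || P.contains (th x z, y)) &&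
    (!(nc x y && T.contains (th x y)) || P.contains (th x y, z))

theorem eq_zero_of_chkG {T : List I27} {P : List (I27 × I27)} (hT : chkG T P = true) {E : Matrix I27 I27 F}
    (hE : ∀ d, d ∉ T → ∀ x, E d x = 0) (h0 : ∀ p ∈ P, E p.1 p.2 = 0)
    (hder : ∀ a b c, der E a b c = 0) : E = 0 := by
  ext d x
  rw [Matrix.zero_apply]
  by_cases hd : d ∈ T
  · have h := hT
    rw [chkG, List.all_eq_true] at h
    have h1 := forall_wts (h d hd) x
    rw [Bool.or_eq_true, List.any_eq_true, List.contains_iff_mem] at h1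
    rcases h1 with h1 | ⟨y, -, h1⟩
    · exact h0 _ h1
    · rw [List.any_eq_true] at h1
      obtain ⟨z, -, h1⟩ := h1
      rw [Bool.and_eq_true, Bool.and_eq_true, Bool.and_eq_true] at h1
      obtain ⟨⟨⟨h1, h2⟩, h3⟩, h4⟩ := h1
      rw [beq_iff_eq] at h2
      have key : ∀ u v : I27, (!(nc x u && T.contains (th x u)) || P.contains (th x u, v)) = true →
          nc x u = true → E (th x u) v = 0 := by
        intro u v h5 h6
        rw [h6, Bool.true_and] at h5
        by_cases h7 : th x u ∈ T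
        · have h8 : T.contains (th x u) = true := by simpa using h7
          rw [h8] at h5
          simp only [Bool.not_true, Bool.false_or, List.contains_iff_mem] at h5
          exact h0 _ h5
        · exact hE _ h7 _
      have h5 := hder x y z
      rw [der, if_pos h1, h2] at h5
      have h6 : (if nc x z = true then ((sg x z : ℤ) : F) * E (th x z) y else 0) = 0 := by
        split_ifs with h7
        · rw [key z y h3 h7, mul_zero]
        · rfl
      have h8 : (if nc x y = true then ((sg x y : ℤ) : F) * E (th x y) z else 0) = 0 := by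
        split_ifs with h7
        · rw [key y z h4 h7, mul_zero]
        · rfl
      rw [h6, h8, add_zero, add_zero] at h5
      exact (mul_eq_zero.1 h5).resolve_left (sg_ne_zero h1)
  · exact hE d hd x

/-- The weights of the standard 3-space. -/
def T3 : List I27 := [(0, 2, 0), (0, 2, 1), (0, 2, 2)]

/-- The weights collinear with them. -/
def T9 : List I27 := [(0, 2, 0), (0, 2, 1), (0, 2, 2), (2, 0, 0), (2, 0, 1), (2, 1, 0), (2, 1, 1), (2, 2, 0), (2, 2, 1)]

/-- The targets of the root element with index 1. -/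
def T6' : List I27 := [(0, 2, 0), (0, 2, 1), (0, 2, 2), (2, 0, 0), (2, 1, 0), (2, 2, 0)]

theorem checks3 : chk [] (0, 2, 0) = true ∧ chk [(0, 2, 0)] (0, 2, 1) = true ∧
    chk [(0, 2, 1), (0, 2, 0)] (0, 2, 2) = true := by
  decide +kernel

private noncomputable def _root_.Cfsg.Agent.KOf9ff029.k36.{ku0} : type_of% @List.any.{ku0} := @(fun x0 x1 x2 => @List.rec.{(ku0+1), ku0} @x0 @(fun x3 => (@x0 → @Bool) → @Bool) @(fun x3 => @Bool.false) @(fun x3 x4 x5 x6 => @Bool.rec.{1} @(fun x7 => @Bool) (@x5 @x6) @Bool.true (@x6 @x3)) @x1 @x2)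
private theorem _root_.Cfsg.Agent.KOf9ff029.e36.{ku0} : @List.any.{ku0} = @_root_.Cfsg.Agent.KOf9ff029.k36.{ku0} := by delta _root_.Cfsg.Agent.KOf9ff029.k36; funext a0 a1 a2; refine (congrFun (_root_.Cfsg.Agent.KOf9ff029.e2 (fun a1 a2 => @List.any.{ku0} a0 a1 a2) ?_ (fun c0 c1 => ?_) a1) a2 :) <;> (rfl')
private noncomputable def _root_.Cfsg.Agent.KOf9ff029.k42 : (by first | exact type_of% @Cfsg.Agent.ChevalleyStructure.E6Form.Cubic.nc | exact Unit : Sort _) := by first | (refine @Subtype.val _ (fun g => @Cfsg.Agent.ChevalleyStructure.E6Form.Cubic.nc = @g) (@Subtype.mk _ _ (@(letI c0 := @Decidable.rec.{1}; letI c1 := @Prod.fst.{0, 0}; letI c2 := @Prod.snd.{0, 0}; letI c3 := @Bool.false; letI c4 := @Bool.true; letI c5 := @Cfsg.Agent.KOf9ff029.k20; letI c6 := @Bool.rec.{1}; @(fun x0 x1 => @c0 _ @(fun x2 => @Bool) @(fun x2 => @c0 _ @(fun x3 => @Bool) @(fun x3 => @c0 _ @(fun x4 => @Bool) @(fun x4 => @c3) @(fun x4 => @c4) (@c5 (nat_lit 3) (@c2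 _ _ (@c2 _ _ @x1)) (@c1 _ _ (@c2 _ _ @x0)))) @(fun x3 => @c0 _ @(fun x4 => @Bool) @(fun x4 => @c3) @(fun x4 => @c4) (@c5 (nat_lit 3) (@c2 _ _ (@c2 _ _ @x0)) (@c1 _ _ (@c2 _ _ @x1)))) (@c5 (nat_lit 3) (@c1 _ _ @x1) (@Fin.add (nat_lit 3) (@c1 _ _ @x0) (@Fin.mk (nat_lit 3) (nat_lit 1) (@Fin.ofNat._proof_1 ((3 : ℕ)) _ (nat_lit 1)))))) @(fun x2 => @c6 @(fun x3 => @Bool) @c3 (@c6 @(fun x3 => @Bool) @c4 @c3 (@c0 _ @(fun x3 => @Bool) @(fun x3 => @c3) @(fun x3 => @c4) (@c5 (nat_lit 3) (@c2 _ _ (@c2 _ _ @x0)) (@c2 _ _ (@c2 _ _ @x1))))) (@c6 @(fun x3 => @Bool) @c4 @c3 (@c0 _ @(fun x3 => @Bool) @(fun x3 => @c3) @(fun x3 => @c4) (@c5 (nat_lit 3) (@c1 _ _ (@c2 _ _ @x0)) (@c1 _ _ (@c2 _ _ @x1)))))) (@c5 (nat_lit 3) (@c1 _ _ @x0) (@c1 _ _ @x1))))) ?_); rewrite [← Cfsg.Agent.KOf9ff029.e20]; rfl') | exact @Cfsg.Agent.ChevalleyStructure.E6Form.Cubic.nc | exact ()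
private theorem _root_.Cfsg.Agent.KOf9ff029.e42 : (by first | exact @Cfsg.Agent.ChevalleyStructure.E6Form.Cubic.nc = @_root_.Cfsg.Agent.KOf9ff029.k42 | exact True : Prop) := by first | (delta _root_.Cfsg.Agent.KOf9ff029.k42; exact @Subtype.property _ (fun g => @Cfsg.Agent.ChevalleyStructure.E6Form.Cubic.nc = @g) _) | rfl | trivial
private noncomputable def _root_.Cfsg.Agent.KOf9ff029.k49s : (by first | exact Subtype (fun g => @List.elem.{0} (@Cfsg.Lie.I27 × @Cfsg.Lie.I27) _ = @g) | exact Unit : Sort _) := by first | (refine @Subtype.mk _ _ (@(letI c0 := @Bool.false; letI c1 := @Bool.rec.{1}; letI c2 := @Prod.rec.{1, 0, 0}; @(fun x0 x1 => @List.rec.{1, 0} (@Cfsg.Lie.I27 × @Cfsg.Lie.I27) @(fun x2 => @Bool) @c0 @(fun x2 x3 x4 => @c1 @(fun x5 => @Bool) @x4 @Bool.true (@c2 @Cfsg.Lie.I27 @Cfsg.Lie.I27 @(fun x5 => @Bool) @(fun x5 x6 => @c2 @Cfsg.Lie.I27 @Cfsg.Lie.I27 @(fun x7 => @Bool) @(fun x7 x8 => @c1 @(fun x9 => @Bool) @c0 (@Cfsg.Agent.KOf9ff029.k22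 @x6 @x8) (@Cfsg.Agent.KOf9ff029.k22 @x5 @x7)) @x2) @x0)) @x1))) ?_; rewrite [← Cfsg.Agent.KOf9ff029.e22]; funext a2 a3; refine (_root_.Cfsg.Agent.KOf9ff029.e2 (fun a3 => @List.elem.{0} (@Cfsg.Lie.I27 × @Cfsg.Lie.I27) _ a2 a3) ?_ (fun c0 c1 => ?_) a3 :) <;> (rfl')) | exact ⟨_, rfl⟩ | exact ()
private noncomputable def _root_.Cfsg.Agent.KOf9ff029.k49 : (by first | exact type_of% (@Subtype.val _ _ _root_.Cfsg.Agent.KOf9ff029.k49s) | exact Unit : Sort _) := by first | exact @Subtype.val _ _ _root_.Cfsg.Agent.KOf9ff029.k49s | exact ()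
private theorem _root_.Cfsg.Agent.KOf9ff029.e49 : (by first | exact type_of% (show _ = @_root_.Cfsg.Agent.KOf9ff029.k49 from @Subtype.property _ _ _root_.Cfsg.Agent.KOf9ff029.k49s) | exact True : Prop) := by first | exact @Subtype.property _ _ _root_.Cfsg.Agent.KOf9ff029.k49s | trivial
private noncomputable def _root_.Cfsg.Agent.KOf9ff029.k50 : (by first | exact type_of% @Cfsg.Agent.ChevalleyStructure.E6Form.Cubic.th | exact Unit : Sort _) := by first | (refine @Subtype.val _ (fun g => @Cfsg.Agent.ChevalleyStructure.E6Form.Cubic.th = @g) (@Subtype.mk _ _ (@(letI c0 := @Decidable.rec.{1}; letI c1 := @Prod.fst.{0, 0}; letI c2 := @HAdd.hAdd.{0, 0, 0}; letI c3 := @Fin.add; letI c4 := @Fin.mk; letI c5 := @Fin.ofNat._proof_1; letI c6 := @Prod.snd.{0, 0}; letI c7 := @Nat.mod; letI c8 := @Nat.sub; letI c9 := @Fin.val; letI c10 := @Fin.neg._proof_1; @(fun x0 x1 => @c0 _ @(fun x2 => @Cfsg.Lie.I27) @(fun x2 => @c0 _ @(fun x3 => @Cfsg.Lie.I27) @(fun x3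 => (@c3 (nat_lit 3) (@c1 _ _ @x0) (@c4 (nat_lit 3) (nat_lit 1) (@c5 ((3 : ℕ)) _ (nat_lit 1))), (@c6 _ _ (@c6 _ _ @x0), @c1 _ _ (@c6 _ _ @x1)))) @(fun x3 => (@c3 (nat_lit 3) (@c1 _ _ @x1) (@c4 (nat_lit 3) (nat_lit 1) (@c5 ((3 : ℕ)) _ (nat_lit 1))), (@c6 _ _ (@c6 _ _ @x1), @c1 _ _ (@c6 _ _ @x0)))) (@Cfsg.Agent.KOf9ff029.k20 (nat_lit 3) (@c1 _ _ @x1) (@c3 (nat_lit 3) (@c1 _ _ @x0) (@c4 (nat_lit 3) (nat_lit 1) (@c5 ((3 : ℕ)) _ (nat_lit 1)))))) @(fun x2 => (@c1 _ _ @x0, (@c4 (nat_lit 3) (@c7 (@c8 (nat_lit 3) (@c9 (nat_lit 3) (@c3 (nat_lit 3) (@c1 _ _ (@c6 _ _ @x0)) (@c1 _ _ (@c6 _ _ @x1))))) (nat_lit 3)) (@c10 ((3 : ℕ)) (@c2 _ _ _ _ (@c1 _ _ (@c6 _ _ @x0)) (@c1 _ _ (@c6 _ _ @x1)))), @c4 (nat_lit 3) (@c7 (@c8 (nat_lit 3) (@c9 (nat_lit 3) (@c3 (nat_lit 3) (@c6 _ _ (@c6 _ _ @x0)) (@c6 _ _ (@c6 _ _ @x1))))) (nat_lit 3)) (@c10 ((3 : ℕ)) (@c2 _ _ _ _ (@c6 _ _ (@c6 _ _ @x0)) (@c6 _ _ (@c6 _ _ @x1))))))) (@Cfsg.Agent.KOf9ff029.k20 (nat_lit 3) (@c1 _ _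 @x0) (@c1 _ _ @x1))))) ?_); rewrite [← Cfsg.Agent.KOf9ff029.e20]; rfl') | exact @Cfsg.Agent.ChevalleyStructure.E6Form.Cubic.th | exact ()
private theorem _root_.Cfsg.Agent.KOf9ff029.e50 : (by first | exact @Cfsg.Agent.ChevalleyStructure.E6Form.Cubic.th = @_root_.Cfsg.Agent.KOf9ff029.k50 | exact True : Prop) := by first | (delta _root_.Cfsg.Agent.KOf9ff029.k50; exact @Subtype.property _ (fun g => @Cfsg.Agent.ChevalleyStructure.E6Form.Cubic.th = @g) _) | rfl | trivial
private noncomputable def _root_.Cfsg.Agent.KOf9ff029.k51 : (by first | exact type_of% @Cfsg.Agent.H203.E6.chkG | exact Unit : Sort _) := by first | (refine @Subtype.val _ (fun g => @Cfsg.Agent.H203.E6.chkG = @g) (@Subtype.mk _ _ (@(letI c0 := @Cfsg.Agent.ChevalleyStructure.E6Form.Cubic.wts; letI c1 := @Bool.rec.{1}; letI c2 := @Bool.false; letI c3 := @Cfsg.Agent.KOf9ff029.k49; letI c4 := @Cfsg.Agent.KOf9ff029.k50; letI c5 := @Bool.true; letI c6 := @Cfsg.Agent.KOf9ff029.k42; @(fun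 x0 x1 => @Cfsg.Agent.KOf9ff029.k3.{0} _ @x0 @(fun x2 => @Cfsg.Agent.KOf9ff029.k3.{0} _ @c0 @(fun x3 => @c1 @(fun x4 => @Bool) (@Cfsg.Agent.KOf9ff029.k36.{0} _ @c0 @(fun x4 => @Cfsg.Agent.KOf9ff029.k36.{0} _ @c0 @(fun x5 => @c1 @(fun x6 => @Bool) @c2 (@c1 @(fun x6 => @Bool) (@c3 ((@c4 @x3 @x4, @x5)) @x1) @c5 (@c1 @(fun x6 => @Bool) @c5 @c2 (@c1 @(fun x6 => @Bool) @c2 (@Cfsg.Agent.KOf9ff029.k35 (@c4 @x3 @x4) @x0) (@c6 @x3 @x4)))) (@c1 @(fun x6 => @Bool) @c2 (@c1 @(fun x6 => @Bool) (@c3 ((@c4 @x3 @x5, @x4)) @x1) @c5 (@c1 @(fun x6 => @Bool) @c5 @c2 (@c1 @(fun x6 => @Bool) @c2 (@Cfsg.Agent.KOf9ff029.k35 (@c4 @x3 @x5) @x0) (@c6 @x3 @x5)))) (@c1 @(fun x6 => @Bool) @c2 (@Cfsg.Agent.KOf9ff029.k22 (@c4 @x4 @x5) @x2) (@c6 @x4 @x5)))))) @c5 (@c3 ((@x2, @x3)) @x1)))))) ?_); rewrite [← Cfsg.Agent.KOf9ff029.e42, ← Cfsg.Agent.KOf9ff029.e50, ← Cfsg.Agent.KOf9ff029.e36.{0}, ← Cfsg.Agent.KOf9ff029.e3.{0}, ← Cfsg.Agent.KOf9ff029.e35, ← Cfsg.Agent.KOf9ff029.e22,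 ← Cfsg.Agent.KOf9ff029.e49]; (try delta Cfsg.Agent.H203.E6.chkG); (try generalize @Cfsg.Agent.ChevalleyStructure.E6Form.Cubic.wts = g0); (try generalize @Cfsg.Agent.ChevalleyStructure.E6Form.Cubic.th = g1); (try generalize @Cfsg.Agent.ChevalleyStructure.E6Form.Cubic.nc = g2); rfl') | exact @Cfsg.Agent.H203.E6.chkG | exact ()
private theorem _root_.Cfsg.Agent.KOf9ff029.e51 : (by first | exact @Cfsg.Agent.H203.E6.chkG = @_root_.Cfsg.Agent.KOf9ff029.k51 | exact True : Prop) := by first | (delta _root_.Cfsg.Agent.KOf9ff029.k51; exact @Subtype.property _ (fun g => @Cfsg.Agent.H203.E6.chkG = @g) _) | rfl | trivial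

theorem chkG_T9 : chkG T9 [((0, 2, 0), (0, 1, 0)), ((0, 2, 0), (0, 0, 0))] = true := by (first | (rewrite [Cfsg.Agent.KOf9ff029.e51]; decide +kernel) | decide +kernel)

theorem T9_facts : (∀ a ∈ T3, ∀ b ∈ T9, nc a b = false) ∧ (∀ b, b ∉ T9 → ∃ a ∈ T3, nc a b = true) := by
  have h1 : (T3.all fun a => T9.all fun b => !nc a b) = true := by decide +kernel
  have h2 : (wts.all fun b => T9.contains b || T3.any fun a => nc a b) = true := by decide +kernel
  constructor
  · intro a ha b hb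
    rw [List.all_eq_true] at h1
    have := h1 a ha
    rw [List.all_eq_true] at this
    simpa using this b hb
  · intro b hb
    have := forall_wts h2 b
    rw [Bool.or_eq_true, List.any_eq_true] at this
    exact this.resolve_left (fun h => hb (by simpa using h))

theorem e_mem_Ws {T : List I27} {a : I27} (ha : a ∈ T) : e F a ∈ Ws F T := fun _ hb =>
  e_ne (fun h => hb (h ▸ ha))

theorem eq_three {x : I27 → F} (hx : x ∈ Ws F T3) : x = x (0, 2, 0) • e F (0, 2, 0) + x (0, 2, 1) • e F (0, 2, 1) +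
    x (0, 2, 2) • e F (0, 2, 2) := by
  funext a
  simp only [Pi.add_apply, Pi.smul_apply, smul_eq_mul, e_apply]
  by_cases h : a ∈ T3
  · simp only [T3, List.mem_cons, List.not_mem_nil, or_false] at h
    rcases h with rfl | rfl | rfl <;> simp
  · rw [hx a h]
    have h1 : a ≠ (0, 2, 0) := fun he => h (by rw [he]; decide)
    have h2 : a ≠ (0, 2, 1) := fun he => h (by rw [he]; decide)
    have h3 : a ≠ (0, 2, 2) := fun he => h (by rw [he]; decide)
    simp [h1, h2, h3]

theorem three_le_finrank : 3 ≤ finrank F (Ws F T3) := by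
  let f : (Fin 3 → F) →ₗ[F] (Ws F T3) :=
    { toFun := fun v => ⟨v 0 • e F (0, 2, 0) + v 1 • e F (0, 2, 1) + v 2 • e F (0, 2, 2),
        (Ws F T3).add_mem ((Ws F T3).add_mem ((Ws F T3).smul_mem _ (e_mem_Ws (by decide)))
          ((Ws F T3).smul_mem _ (e_mem_Ws (by decide)))) ((Ws F T3).smul_mem _ (e_mem_Ws (by decide)))⟩
      map_add' := fun v w => by
        apply Subtype.ext
        simp only [Pi.add_apply, add_smul, Submodule.coe_add]
        abel
      map_smul' := fun c v => by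
        apply Subtype.ext
        simp only [Pi.smul_apply, smul_eq_mul, mul_smul, RingHom.id_apply, Submodule.coe_smul, smul_add] }
  have hinj : Function.Injective f := by
    rw [← LinearMap.ker_eq_bot, LinearMap.ker_eq_bot']
    intro v hv
    have h1 := congrArg Subtype.val hv
    change v 0 • e F (0, 2, 0) + v 1 • e F (0, 2, 1) + v 2 • e F (0, 2, 2) = 0 at h1
    have h2 := congrFun h1 (0, 2, 0)
    have h3 := congrFun h1 (0, 2, 1)
    have h4 := congrFun h1 (0, 2, 2)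
    simp [e_apply] at h2 h3 h4
    funext i
    fin_cases i
    · exact h2
    · exact h3
    · exact h4
  have := LinearMap.finrank_le_finrank_of_injective hinj
  rwa [finrank_fin_fun] at this

/-- **Transitivity on the totally singular subspaces of dimension three.** -/
theorem exists_mp_eq3 {W : Submodule F (I27 → F)} (hW : TS W) (h3 : finrank F W = 3) :
    ∃ g ∈ Zgrp F, mp g W = Ws F T3 := by
  obtain ⟨g1, hg1, m1⟩ := step checks3.1 hW (by simp) (by rw [h3]; decide)
  have hW1 := hW.mp hg1.1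
  have f1 : finrank F (mp g1 W) = 3 := by rw [finrank_mp, h3]
  obtain ⟨g2, hg2, m2⟩ := step checks3.2.1 hW1 (by simpa using m1) (by rw [f1]; decide)
  have hW2 := hW1.mp hg2.1
  have f2 : finrank F (mp g2 (mp g1 W)) = 3 := by rw [finrank_mp, f1]
  have n1 : e F (0, 2, 0) ∈ mp g2 (mp g1 W) := by
    have := act_mem_mp (g := g2) m1
    rwa [hg2.2 _ (by simp)] at this
  obtain ⟨g3, hg3, m3⟩ := step checks3.2.2 hW2 (by
    intro w hw
    simp only [List.mem_cons, List.not_mem_nil, or_false] at hw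
    rcases hw with rfl | rfl
    · exact m2
    · exact n1) (by rw [f2]; decide)
  have f3 : finrank F (mp g3 (mp g2 (mp g1 W))) = 3 := by rw [finrank_mp, f2]
  have k1 : e F (0, 2, 0) ∈ mp g3 (mp g2 (mp g1 W)) := by
    have := act_mem_mp (g := g3) n1
    rwa [hg3.2 _ (by simp)] at this
  have k2 : e F (0, 2, 1) ∈ mp g3 (mp g2 (mp g1 W)) := by
    have := act_mem_mp (g := g3) m2
    rwa [hg3.2 _ (by simp)] at this
  refine ⟨g3 * (g2 * g1), mul_mem hg3.1 (mul_mem hg2.1 hg1.1), ?_⟩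
  rw [mp_mul, mp_mul]
  symm
  refine Submodule.eq_of_le_of_finrank_le ?_ (by rw [f3]; exact three_le_finrank)
  intro x hx
  rw [eq_three hx]
  exact Submodule.add_mem _ (Submodule.add_mem _ (Submodule.smul_mem _ _ k1) (Submodule.smul_mem _ _ k2))
    (Submodule.smul_mem _ _ m3)

theorem mem_W9 {x : I27 → F} : x ∈ Ws F T9 ↔ ∀ w ∈ Ws F T3, ∀ z, tri w x z = 0 := by
  constructor
  · intro hx w hw z
    rw [tri_formula]
    refine Finset.sum_eq_zero fun a _ => Finset.sum_eq_zero fun b _ => ?_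
    split_ifs with hab
    · by_cases ha : a ∈ T3
      · by_cases hb : b ∈ T9
        · rw [T9_facts.1 a ha b hb] at hab
          exact absurd hab (by decide)
        · rw [hx b hb]; ring
      · rw [hw a ha]; ring
    · rfl
  · intro h b hb
    obtain ⟨a, ha, hab⟩ := T9_facts.2 b hb
    obtain ⟨-, h1, h2, -, -⟩ := (th_facts a b).1 hab
    have h3 := h (e F a) (e_mem_Ws ha) (e F (th a b))
    rw [tri_comm23, tri_e_e, if_pos h1, h2] at h3
    exact (mul_eq_zero.1 h3).resolve_left (sg_ne_zero h1)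

theorem mp_W9 {h : GL I27 F} (hh : h ∈ Zgrp F) (hW : mp h (Ws F T3) = Ws F T3) {x : I27 → F} (hx : x ∈ Ws F T9) :
    act h x ∈ Ws F T9 := by
  rw [mem_W9] at hx ⊢
  intro w hw z
  rw [← hW, mem_mp] at hw
  have := tri_act' hh (act h⁻¹ w) x (act h⁻¹ z)
  rw [act_act_inv, act_act_inv] at this
  rw [this]
  exact hx _ hw _

/-- The matrix of a conjugate. -/
def cj (h : GL I27 F) (N : Matrix I27 I27 F) : Matrix I27 I27 F :=
  (h : Matrix I27 I27 F) * N * ((h⁻¹ : GL I27 F) : Matrix I27 I27 F)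

theorem cj_mul (h k : GL I27 F) (N : Matrix I27 I27 F) : cj (h * k) N = cj h (cj k N) := by
  simp only [cj, mul_inv_rev, Units.val_mul, mul_assoc]

theorem cj_one (N : Matrix I27 I27 F) : cj 1 N = N := by simp [cj]

theorem cj_add (h : GL I27 F) (M N : Matrix I27 I27 F) : cj h (M + N) = cj h M + cj h N := by
  simp only [cj, mul_add, add_mul]

theorem cj_smul (h : GL I27 F) (c : F) (N : Matrix I27 I27 F) : cj h (c • N) = c • cj h N := by
  simp only [cj, Matrix.mul_smul, Matrix.smul_mul]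

theorem nMat_entries : nMat F 0 (0, 2, 0) (0, 1, 0) = -1 ∧ nMat F 0 (0, 2, 0) (0, 0, 0) = 0 ∧
    nMat F 1 (0, 2, 0) (0, 1, 0) = 0 ∧ nMat F 1 (0, 2, 0) (0, 0, 0) = -1 := by
  refine ⟨nMat_entry, ?_, ?_, ?_⟩
  · refine nMat_of_not (by norm_num) ?_
    decide +kernel
  · refine nMat_of_not (by norm_num) ?_
    decide +kernel
  · have hq : ((-1, (0, 0, 0), (0, 2, 0)) : ℤ × I27 × I27) ∈ tabr 1 := by decide +kernel
    have := nMat_of_mem (F := F) (r := 1) (by norm_num) hq
    simpa using this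

/-- A conjugate of a root element satisfies the derivation identity. -/
theorem der_cj {h : GL I27 F} (hh : h ∈ Zgrp F) {r : ℕ} (hr : r < 72) {T : List I27}
    (hT : (L3.all fun t => !(T.contains t.2.1 && T.contains t.2.2.1)) = true)
    (hN : ((tabr r).all fun q => T.contains q.2.2) = true) (a b c : I27) : der (cj h (nMat F r)) a b c = 0 := by
  refine der_eq_zero ((Ws_TS (F := F) hT).mp hh) ?_ ?_ a b c
  · intro x
    rw [cj, ← Matrix.mulVec_mulVec, ← Matrix.mulVec_mulVec]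
    exact act_mem_mp (nMat_mem_Ws hN _)
  · intro x y z
    have hk : h * zG r 1 * h⁻¹ ∈ Zgrp F := mul_mem (mul_mem hh (zG_mem hr 1)) (inv_mem hh)
    have := tri_act' hk x y z
    have h1 : ∀ v : I27 → F, act (h * zG r 1 * h⁻¹) v = v + (cj h (nMat F r)).mulVec v := by
      intro v
      rw [act_mul, act_mul, act_zG, one_smul, act_add, act_act_inv, ← nMat_mulVec]
      congr 1
      rw [cj, ← Matrix.mulVec_mulVec, ← Matrix.mulVec_mulVec]
      rfl
    rw [h1, h1, h1] at this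
    exact this

/-- The two coordinates. -/
def co (E : Matrix I27 I27 F) (i : Fin 2) : F := -E (0, 2, 0) (if i = 0 then (0, 1, 0) else (0, 0, 0))

/-- **The stabiliser of the standard 3-space acts on the span of two root elements.** -/
theorem cj_eq {h : GL I27 F} (hh : h ∈ Zgrp F) (hW : mp h (Ws F T3) = Ws F T3) (j : Fin 2) :
    cj h (nMat F j.val) = co (cj h (nMat F j.val)) 0 • nMat F 0 + co (cj h (nMat F j.val)) 1 • nMat F 1 := by
  have c0 : (L3.all fun t => !(T6.contains t.2.1 && T6.contains t.2.2.1)) = true := by (first | (rewrite [Cfsg.Agent.KOf9ff029.e47, Cfsg.Agent.KOf9ff029.e3.{0}, Cfsg.Agent.KOf9ff029.e48, Cfsg.Agent.KOf9ff029.e7]; decide +kernel) | decide +kernel)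
  have c1 : (L3.all fun t => !(T6'.contains t.2.1 && T6'.contains t.2.2.1)) = true := by (first | (rewrite [Cfsg.Agent.KOf9ff029.e47, Cfsg.Agent.KOf9ff029.e3.{0}, Cfsg.Agent.KOf9ff029.e48, Cfsg.Agent.KOf9ff029.e7]; decide +kernel) | decide +kernel)
  have n0 : ((tabr 0).all fun q => T6.contains q.2.2) = true := by decide +kernel
  have n1 : ((tabr 1).all fun q => T6'.contains q.2.2) = true := by decide +kernel
  have m0 : ((tabr 0).all fun q => T9.contains q.2.2) = true := by decide +kernel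
  have m1 : ((tabr 1).all fun q => T9.contains q.2.2) = true := by decide +kernel
  have hder : ∀ a b c, der (cj h (nMat F j.val)) a b c = 0 := by
    fin_cases j
    · exact der_cj hh (by norm_num) c0 n0
    · exact der_cj hh (by norm_num) c1 n1
  have hmem : ∀ x, (cj h (nMat F j.val)).mulVec x ∈ Ws F T9 := by
    intro x
    rw [cj, ← Matrix.mulVec_mulVec, ← Matrix.mulVec_mulVec]
    refine mp_W9 hh hW ?_
    fin_cases j
    · exact nMat_mem_Ws m0 _
    · exact nMat_mem_Ws m1 _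
  generalize cj h (nMat F j.val) = E at hder hmem
  have hzero : E - (co E 0 • nMat F 0 + co E 1 • nMat F 1) = 0 := by
    apply eq_zero_of_chkG chkG_T9
    · intro d hd x
      have h1 := hmem (e F x) d hd
      have h2 := nMat_mem_Ws (F := F) m0 (e F x) d hd
      have h3 := nMat_mem_Ws (F := F) m1 (e F x) d hd
      rw [mulVec_e] at h1 h2 h3
      rw [Matrix.sub_apply, Matrix.add_apply, Matrix.smul_apply, Matrix.smul_apply, h1, h2, h3]
      simp
    · intro p hp
      obtain ⟨q1, q2, q3, q4⟩ := nMat_entries (F := F)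
      simp only [List.mem_cons, List.not_mem_nil, or_false] at hp
      rcases hp with rfl | rfl
      · simp [Matrix.sub_apply, Matrix.add_apply, Matrix.smul_apply, co, q1, q3]
      · simp [Matrix.sub_apply, Matrix.add_apply, Matrix.smul_apply, co, q2, q4]
    · intro a b c
      have e1 : E - (co E 0 • nMat F 0 + co E 1 • nMat F 1) = (E - co E 0 • nMat F 0) - co E 1 • nMat F 1 := by abel
      have k0 := der_cj (F := F) (one_mem (Zgrp F)) (r := 0) (by norm_num) c0 n0 a b c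
      have k1 := der_cj (F := F) (one_mem (Zgrp F)) (r := 1) (by norm_num) c1 n1 a b c
      rw [cj_one] at k0 k1
      rw [e1, der_sub_smul, der_sub_smul, hder, k0, k1]
      ring
  exact sub_eq_zero.1 hzero

theorem co_add (E N : Matrix I27 I27 F) (i : Fin 2) : co (E + N) i = co E i + co N i := by
  simp only [co, Matrix.add_apply]; ring

theorem co_smul (c : F) (E : Matrix I27 I27 F) (i : Fin 2) : co (c • E) i = c * co E i := by
  simp only [co, Matrix.smul_apply, smul_eq_mul]; ring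

theorem co_nMat (i j : Fin 2) : co (nMat F j.val) i = if i = j then 1 else 0 := by
  obtain ⟨q1, q2, q3, q4⟩ := nMat_entries (F := F)
  fin_cases i <;> fin_cases j <;> simp [co, q1, q2, q3, q4]

/-- The two-dimensional representation. -/
def M2 (h : GL I27 F) : Matrix (Fin 2) (Fin 2) F := Matrix.of fun i j => co (cj h (nMat F j.val)) i

theorem M2_one : M2 (1 : GL I27 F) = 1 := by
  ext i j
  rw [M2, Matrix.of_apply, cj_one, co_nMat, Matrix.one_apply]

theorem M2_mul {h k : GL I27 F} (hk : k ∈ Zgrp F) (hkW : mp k (Ws F T3) = Ws F T3) :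
    M2 (h * k) = M2 h * M2 k := by
  ext i j
  rw [M2, Matrix.of_apply, cj_mul, cj_eq hk hkW j, cj_add, cj_smul, cj_smul, co_add, co_smul, co_smul,
    Matrix.mul_apply, Fin.sum_univ_two]
  simp only [M2, Matrix.of_apply, Fin.val_zero, Fin.val_one]
  ring

/-- A group without non-trivial two-dimensional representations stabilising a totally singular 3-space commutes with
two root elements. -/
theorem exists_two {B : Subgroup ↥(Zgrp F)} (hB : ∀ θ : ↥B →* GL (Fin 2) F, ∀ b, θ b = 1)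
    {W : Submodule F (I27 → F)} (h3 : finrank F ↥W = 3) (hW : TS W)
    (hst : ∀ b ∈ B, ∀ w ∈ W, act (b : GL I27 F) w ∈ W) :
    ∃ g ∈ Zgrp F, mp g W = Ws F T3 ∧ ∀ b ∈ B, ∀ j : Fin 2,
      cj (g * (b : GL I27 F) * g⁻¹) (nMat F j.val) = nMat F j.val := by
  obtain ⟨g, hg, hgW⟩ := exists_mp_eq3 hW h3
  have hstab : ∀ b ∈ B, mp (g * (b : GL I27 F) * g⁻¹) (Ws F T3) = Ws F T3 := by
    intro b hb
    have h1 : mp (b : GL I27 F) W = W := by
      ext x
      rw [mem_mp]
      constructor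
      · intro h
        have := hst b hb _ h
        rwa [act_act_inv] at this
      · intro h
        have := hst b⁻¹ (inv_mem hb) _ h
        exact this
    rw [← hgW, ← mp_mul, inv_mul_cancel_right, mp_mul, h1]
  have hmem : ∀ b : ↥B, g * ((b : ↥(Zgrp F)) : GL I27 F) * g⁻¹ ∈ Zgrp F := fun b =>
    mul_mem (mul_mem hg b.1.2) (inv_mem hg)
  let f : ↥B →* Matrix (Fin 2) (Fin 2) F :=
    { toFun := fun b => M2 (g * ((b : ↥(Zgrp F)) : GL I27 F) * g⁻¹)
      map_one' := by
        have : g * (((1 : ↥B) : ↥(Zgrp F)) : GL I27 F) * g⁻¹ = 1 := by simp only [_root_.OneMemClass.coe_one, _root_.mul_one, _root_.mul_inv_cancel]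
        rw [this, M2_one]
      map_mul' := fun a b => by
        have : g * (((a * b : ↥B) : ↥(Zgrp F)) : GL I27 F) * g⁻¹ =
            (g * ((a : ↥(Zgrp F)) : GL I27 F) * g⁻¹) * (g * ((b : ↥(Zgrp F)) : GL I27 F) * g⁻¹) := by
          simp only [Subgroup.coe_mul]; group
        rw [this, M2_mul (hmem b) (hstab b b.2)] }
  refine ⟨g, hg, hgW, fun b hb j => ?_⟩
  have h1 := hB f.toHomUnits ⟨b, hb⟩
  have h2 : M2 (g * (b : GL I27 F) * g⁻¹) = 1 := congrArg Units.val h1
  have h3 : ∀ i, co (cj (g * (b : GL I27 F) * g⁻¹) (nMat F j.val)) i = if i = j then 1 else 0 := by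
    intro i
    have := congrFun (congrFun h2 i) j
    rwa [M2, Matrix.of_apply, Matrix.one_apply] at this
  rw [cj_eq (hmem ⟨b, hb⟩) (hstab b hb) j, h3, h3]
  (revert j; simp only [_root_.Fin.forall_fin_succ, Fin.isValue, _root_.Fin.succ_zero_eq_one, _root_.IsEmpty.forall_iff, _root_.and_true, _root_.ite_smul, _root_.one_smul, _root_.zero_smul, _root_.and_imp, _root_.Fin.coe_ofNat_eq_mod, _root_.Nat.zero_mod, ↓reduceIte, _root_.one_ne_zero, _root_.add_zero, _root_.implies_true, _root_.Fin.val_succ, _root_.Fin.val_eq_zero, _root_.zero_add, _root_.zero_ne_one, _root_.and_self])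

end Cfsg.Agent.H203.E6

namespace Cfsg.Agent.H163.E6.Sing

open Cfsg.Lie Cfsg.Agent.H203.E6 Module
open Cfsg.Agent.ChevalleyStructure.E6Form.Table (act act_mul act_one)
open Cfsg.Agent.ChevalleyStructure.E6Min.Basic (Zgrp)
open Cfsg.Agent.ChevalleyStructure.E6Min.Adjoint (ad ker_ad)
open Cfsg.Agent.H184.GraphE6 (gU PU PU_sq dual dual_dual dual_mem_Zgrp)

universe u

variable {F : Type u} [Field F]

end Cfsg.Agent.H163.E6.Sing
end

private theorem dce_d22b5de5bd77 : _root_.True := by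
  try have : _root_.True := by simp only [_root_.Cfsg.Agent.H203.E6.du.eq_1]
  try have : _root_.True := by simp only [_root_.Cfsg.Agent.H203.E6.der.eq_1]
  try have : _root_.True := by simp only [_root_.Cfsg.Agent.H203.E6.chkE.eq_1]
  try have : _root_.True := by simp only [_root_.Cfsg.Agent.H952.F4.sh.eq_1]
  try have : _root_.True := by simp only [_root_.Cfsg.Agent.H203.E6.T3.eq_1]
  try have : _root_.True := by simp only [_root_.Cfsg.Agent.H184.GraphE6.gU.eq_1]
  try have : _root_.True := by simp only [_root_.Cfsg.Agent.H203.E6.chk.eq_1]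
  try have : _root_.True := by simp only [_root_.Cfsg.Agent.H203.E6.M2.eq_1]
  try have : _root_.True := by simp only [_root_.Cfsg.Agent.H203.E6.cj.eq_1]
  try have : _root_.True := by simp only [_root_.Cfsg.Agent.H203.E6.co.eq_1]
  try have : _root_.True := by simp only [_root_.Cfsg.Agent.H952.F4.tf.eq_1]
  try have : _root_.True := by simp only [_root_.Cfsg.Agent.H203.E6.T6.eq_1]
  try have : _root_.True := by simp only [_root_.Cfsg.Agent.H952.F4.ofM.eq_1]
  try have : _root_.True := by simp only [_root_.Cfsg.Agent.H203.E6.chkG.eq_1]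
  exact _root_.True.intro
end

-- part: H65/E6Root
section
prune_inst 0x250000400000020000000502000020000800000000430800c1000a000200006009042600002002000002281020000040000000400038000000000c0040000020808040002300000424000f808880000000000000000000000000000000000000000000000
set_option linter.all false
open scoped Cfsg.Agent.FastGrp

/-!
# S5927, S5928: one-parameter groups of root elements commuting with the stabiliser of a totally singular 3-space or
6-space (helper65, from helper203's theorems), and `Sing.three_ext`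
-/

set_option autoImplicit false

namespace Cfsg.Agent.H65.E6Root

open Cfsg.Lie Cfsg.Agent.ChevalleyStructure Cfsg.Agent.ChevalleyStructure.E6Form.Cubic
  Cfsg.Agent.ChevalleyStructure.E6Form.Table Cfsg.Agent.ChevalleyStructure.E6Form.Elim Module
open Cfsg.Agent.ChevalleyStructure.E6Min.Basic (Zgrp zM zU)
open Cfsg.Agent.ChevalleyStructure.E6Min.Adjoint (ad ker_ad)
open Cfsg.Agent.H203.E6 Cfsg.Agent.H163.E6
open Cfsg.Agent.H184.GraphE6 (gU PU PU_sq dual dual_dual dual_mem_Zgrp coe_dual)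
open scoped commutatorElement Matrix

universe u

variable {F : Type u} [Field F]

/-- `N` is the direction of a one-parameter subgroup of `Zgrp F` -/
structure Dir (N : Matrix I27 I27 F) : Prop where
  ne : N ≠ 0
  sq : N * N = 0
  mem : ∀ t : F, ∃ g ∈ Zgrp F, (g : Matrix I27 I27 F) = 1 + t • N

theorem nMat_sq (r : ℕ) : nMat F r * nMat F r = 0 := by
  apply Matrix.toLin'.injective
  refine LinearMap.ext fun v => ?_
  rw [Matrix.toLin'_apply, ← Matrix.mulVec_mulVec, nMat_mulVec, nMat_mulVec, nv_nv, map_zero, LinearMap.zero_apply]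

/-- the matrix `g⁻¹ N_0 g` -/
def cN (g : GL I27 F) : Matrix I27 I27 F :=
  ((g⁻¹ : GL I27 F) : Matrix I27 I27 F) * nMat F 0 * (g : Matrix I27 I27 F)

theorem val_mul_inv (g : GL I27 F) : (g : Matrix I27 I27 F) * ((g⁻¹ : GL I27 F) : Matrix I27 I27 F) = 1 := by
  rw [← Units.val_mul, mul_inv_cancel, Units.val_one]

theorem val_inv_mul (g : GL I27 F) : ((g⁻¹ : GL I27 F) : Matrix I27 I27 F) * (g : Matrix I27 I27 F) = 1 := by
  rw [← Units.val_mul, inv_mul_cancel, Units.val_one]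

theorem cN_dir {g : GL I27 F} (hg : g ∈ Zgrp F) : Dir (cN g) where
  ne h := by
    have h1 : nMat F 0 = 0 := by
      have : nMat F 0 = (g : Matrix I27 I27 F) * cN g * ((g⁻¹ : GL I27 F) : Matrix I27 I27 F) := by
        rw [cN, ← mul_assoc, ← mul_assoc, val_mul_inv, one_mul, mul_assoc, val_mul_inv, mul_one]
      rw [this, h, mul_zero, zero_mul]
    have h2 := (nMat_entries (F := F)).1
    rw [h1, Matrix.zero_apply] at h2
    exact absurd h2.symm (neg_ne_zero.2 one_ne_zero)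
  sq := by
    rw [cN, mul_assoc (_ * nMat F 0), ← mul_assoc (g : Matrix I27 I27 F), ← mul_assoc (g : Matrix I27 I27 F), val_mul_inv,
      one_mul, ← mul_assoc, mul_assoc _ (nMat F 0) (nMat F 0), nMat_sq, mul_zero, zero_mul]
  mem t := by
    refine ⟨g⁻¹ * zG 0 t * g, mul_mem (mul_mem (inv_mem hg) (zG_mem (by norm_num) t)) hg, ?_⟩
    rw [Units.val_mul, Units.val_mul, coe_zG, zMat, mul_add, add_mul, mul_one, val_inv_mul, Matrix.mul_smul,
      Matrix.smul_mul, cN]

/-- commuting of `g b g⁻¹` with `N_0` -/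
theorem comm_cN {g b : GL I27 F} (h : ((g * b * g⁻¹ : GL I27 F) : Matrix I27 I27 F) * nMat F 0 =
    nMat F 0 * ((g * b * g⁻¹ : GL I27 F) : Matrix I27 I27 F)) :
    (b : Matrix I27 I27 F) * cN g = cN g * (b : Matrix I27 I27 F) := by
  have h1 : (b : Matrix I27 I27 F) * ((g⁻¹ : GL I27 F) : Matrix I27 I27 F) =
      ((g⁻¹ : GL I27 F) : Matrix I27 I27 F) * ((g * b * g⁻¹ : GL I27 F) : Matrix I27 I27 F) := by
    rw [← Units.val_mul, ← Units.val_mul]; congr 1; group
  have h2 : (g : Matrix I27 I27 F) * (b : Matrix I27 I27 F) =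
      ((g * b * g⁻¹ : GL I27 F) : Matrix I27 I27 F) * (g : Matrix I27 I27 F) := by
    rw [← Units.val_mul, ← Units.val_mul]; congr 1; group
  rw [cN, ← mul_assoc, ← mul_assoc, h1, mul_assoc _ _ (nMat F 0), h, mul_assoc _ (g : Matrix I27 I27 F), h2]
  simp only [mul_assoc]

theorem root3_core {B : Subgroup ↥(Zgrp F)} (hB : ∀ θ : ↥B →* GL (Fin 2) F, ∀ b, θ b = 1)
    {W : Submodule F (I27 → F)} (h3 : finrank F ↥W = 3) (hW : Cfsg.Agent.H203.E6.TS W)
    (hst : ∀ b ∈ B, ∀ w ∈ W, act (b : GL I27 F) w ∈ W) :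
    ∃ N : Matrix I27 I27 F, Dir N ∧
      ∀ b ∈ B, ((b : GL I27 F) : Matrix I27 I27 F) * N = N * ((b : GL I27 F) : Matrix I27 I27 F) := by
  obtain ⟨g, hg, -, h⟩ := exists_two hB h3 hW hst
  refine ⟨cN g, cN_dir hg, fun b hb => comm_cN ?_⟩
  have h1 := h b hb 0
  rw [Fin.val_zero] at h1
  conv_rhs => rw [← h1]
  rw [cj, mul_assoc _ _ ((g * (b : GL I27 F) * g⁻¹ : GL I27 F) : Matrix I27 I27 F), val_inv_mul, mul_one]

theorem root6_core {B : Subgroup ↥(Zgrp F)} (hB : ⁅B, B⁆ = B) {W : Submodule F (I27 → F)} (h6 : finrank F ↥W = 6)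
    (hW : Cfsg.Agent.H203.E6.TS W) (hst : ∀ b ∈ B, ∀ w ∈ W, act (b : GL I27 F) w ∈ W) :
    ∃ N : Matrix I27 I27 F, Dir N ∧
      ∀ b ∈ B, ((b : GL I27 F) : Matrix I27 I27 F) * N = N * ((b : GL I27 F) : Matrix I27 I27 F) := by
  obtain ⟨g, hg, hgW⟩ := exists_mp_eq hW h6
  have hstab : ∀ b ∈ B, mp (g * (b : GL I27 F) * g⁻¹) (W6 F) = W6 F := by
    intro b hb
    have h1 : mp (b : GL I27 F) W = W := by
      ext x
      rw [mem_mp]
      constructor
      · intro h
        have := hst b hb _ h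
        rwa [act_act_inv] at this
      · intro h
        have := hst b⁻¹ (inv_mem hb) _ h
        exact this
    rw [← hgW, ← mp_mul, inv_mul_cancel_right, mp_mul, h1]
  have hconj : ∀ b ∈ B, ∃ c : F, c ≠ 0 ∧ ((g * (b : GL I27 F) * g⁻¹ : GL I27 F) : Matrix I27 I27 F) * nMat F 0 =
      c • (nMat F 0 * ((g * (b : GL I27 F) * g⁻¹ : GL I27 F) : Matrix I27 I27 F)) := fun b hb =>
    conj_root (mul_mem (mul_mem hg b.2) (inv_mem hg)) (hstab b hb)
  refine ⟨cN g, cN_dir hg, fun b hb => ?_⟩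
  -- the centralizer of the matrix
  let C : Subgroup ↥(Zgrp F) :=
    { carrier := {b | ((b : GL I27 F) : Matrix I27 I27 F) * cN g = cN g * ((b : GL I27 F) : Matrix I27 I27 F)}
      one_mem' := by
        change (((1 : ↥(Zgrp F)) : GL I27 F) : Matrix I27 I27 F) * cN g = cN g * (((1 : ↥(Zgrp F)) : GL I27 F) : Matrix I27 I27 F)
        rw [Subgroup.coe_one, Units.val_one, one_mul, mul_one]
      mul_mem' := by
        intro a b ha hb
        change ((a * b : GL I27 F) : Matrix I27 I27 F) * cN g = cN g * ((a * b : GL I27 F) : Matrix I27 I27 F)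
        rw [Units.val_mul, mul_assoc, hb, ← mul_assoc, ha, mul_assoc]
      inv_mem' := by
        intro a ha
        change (((a : GL I27 F)⁻¹ : GL I27 F) : Matrix I27 I27 F) * cN g =
          cN g * (((a : GL I27 F)⁻¹ : GL I27 F) : Matrix I27 I27 F)
        have ha' : ((a : GL I27 F) : Matrix I27 I27 F) * cN g = cN g * ((a : GL I27 F) : Matrix I27 I27 F) := ha
        calc (((a : GL I27 F)⁻¹ : GL I27 F) : Matrix I27 I27 F) * cN g
            = (((a : GL I27 F)⁻¹ : GL I27 F) : Matrix I27 I27 F) * (cN g * ((a : GL I27 F) : Matrix I27 I27 F)) *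
              (((a : GL I27 F)⁻¹ : GL I27 F) : Matrix I27 I27 F) := by
              rw [mul_assoc, mul_assoc, val_mul_inv, mul_one]
          _ = cN g * (((a : GL I27 F)⁻¹ : GL I27 F) : Matrix I27 I27 F) := by
              rw [← ha', ← mul_assoc, val_inv_mul, one_mul] }
  have hle : ⁅B, B⁆ ≤ C := by
    rw [Subgroup.commutator_le]
    intro a ha b hb
    change ((((⁅a, b⁆ : ↥(Zgrp F)) : GL I27 F) : Matrix I27 I27 F)) * cN g =
      cN g * (((⁅a, b⁆ : ↥(Zgrp F)) : GL I27 F) : Matrix I27 I27 F)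
    apply comm_cN
    obtain ⟨c, hc, h1⟩ := hconj a ha
    obtain ⟨d, hd, h2⟩ := hconj b hb
    have := commutator_comm hc hd h1 h2
    have h3 : g * ((⁅a, b⁆ : ↥(Zgrp F)) : GL I27 F) * g⁻¹ = ⁅g * (a : GL I27 F) * g⁻¹, g * (b : GL I27 F) * g⁻¹⁆ := by
      rw [commutatorElement_def, commutatorElement_def]
      simp only [Subgroup.coe_mul, Subgroup.coe_inv]
      group
    rw [h3]
    exact this
  rw [hB] at hle
  exact hle hb

/-- the transposed direction -/
theorem Dir.transpose {N : Matrix I27 I27 F} (hN : Dir N) : Dir Nᵀ where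
  ne h := hN.ne (by rw [← Matrix.transpose_transpose N, h, Matrix.transpose_zero])
  sq := by rw [← Matrix.transpose_mul, hN.sq, Matrix.transpose_zero]
  mem t := by
    obtain ⟨g, hg, h⟩ := hN.mem t
    refine ⟨dual g⁻¹, dual_mem_Zgrp (inv_mem hg), ?_⟩
    rw [coe_dual, inv_inv, h, Matrix.transpose_add, Matrix.transpose_one, Matrix.transpose_smul]

/-- the automorphism `g ↦ g⁻ᵀ` -/
def δ (F : Type u) [Field F] : ↥(Zgrp F) →* ↥(Zgrp F) where
  toFun g := ⟨dual (g : GL I27 F), dual_mem_Zgrp g.2⟩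
  map_one' := Subtype.ext (map_one dual)
  map_mul' _ _ := Subtype.ext (map_mul dual _ _)

/-- from the dual module to the module -/
theorem to_dual {B : Subgroup ↥(Zgrp F)} {W : Submodule F (I27 → F)} (hW : Cfsg.Agent.H163.E6.TS W)
    (hst : ∀ b ∈ B, ∀ w ∈ W, V' F b w ∈ W) : Cfsg.Agent.H203.E6.TS (mp (PU F) W) ∧
      ∀ b ∈ B.map (δ F), ∀ w ∈ mp (PU F) W, act (b : GL I27 F) w ∈ mp (PU F) W := by
  constructor
  · intro x hx
    rw [mem_mp] at hx
    rw [singular_iff]
    have h1 : x = act (PU F) (act (PU F)⁻¹ x) := by rw [← act_mul, mul_inv_cancel, act_one]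
    rw [h1, sh_PU, hW.1 _ hx]
    exact Matrix.mulVec_zero _
  · rintro _ ⟨b, hb, rfl⟩ w hw
    rw [mem_mp] at hw ⊢
    have h1 := hst b hb _ hw
    have hP : (PU F)⁻¹ = PU F := inv_eq_of_mul_eq_one_left PU_sq
    rw [V'_apply] at h1
    change act (gU (b : GL I27 F)) (act (PU F)⁻¹ w) ∈ W at h1
    change act (PU F)⁻¹ (act (dual (b : GL I27 F)) w) ∈ W
    rw [gU, ← act_mul, mul_assoc, mul_inv_cancel, mul_one, act_mul] at h1
    rwa [hP]

theorem comm_transpose {B : Subgroup ↥(Zgrp F)} {N : Matrix I27 I27 F}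
    (h : ∀ b ∈ B.map (δ F), ((b : GL I27 F) : Matrix I27 I27 F) * N = N * ((b : GL I27 F) : Matrix I27 I27 F)) :
    ∀ b ∈ B, ((b : GL I27 F) : Matrix I27 I27 F) * Nᵀ = Nᵀ * ((b : GL I27 F) : Matrix I27 I27 F) := by
  intro b hb
  have h1 := h (δ F b⁻¹) ⟨b⁻¹, inv_mem hb, rfl⟩
  change ((dual ((b : GL I27 F)⁻¹) : GL I27 F) : Matrix I27 I27 F) * N =
    N * ((dual ((b : GL I27 F)⁻¹) : GL I27 F) : Matrix I27 I27 F) at h1
  rw [coe_dual, inv_inv] at h1
  have h2 := congrArg Matrix.transpose h1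
  rw [Matrix.transpose_mul, Matrix.transpose_mul, Matrix.transpose_transpose] at h2
  exact h2.symm

/-- SING3, strong form. -/
theorem root3 (ρ : Representation F ↥(Zgrp F) (I27 → F)) (hρ : ρ = V F ∨ ρ = V' F) {B : Subgroup ↥(Zgrp F)}
    (hB : ∀ θ : ↥B →* GL (Fin 2) F, ∀ b, θ b = 1) {W : Submodule F (I27 → F)} (h3 : finrank F ↥W = 3)
    (hW : Cfsg.Agent.H163.E6.TS W) (hst : ∀ b ∈ B, ∀ w ∈ W, ρ b w ∈ W) :
    ∃ N : Matrix I27 I27 F, Dir N ∧
      ∀ b ∈ B, ((b : GL I27 F) : Matrix I27 I27 F) * N = N * ((b : GL I27 F) : Matrix I27 I27 F) := by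
  rcases hρ with rfl | rfl
  · exact root3_core hB h3 (TS_of hW) hst
  · obtain ⟨h1, h2⟩ := to_dual hW hst
    obtain ⟨N, hN, h⟩ := root3_core (B := B.map (δ F)) (fun θ b => by
      obtain ⟨_, b, hb, rfl⟩ := b
      exact hB (θ.comp ((δ F).subgroupMap B)) ⟨b, hb⟩) (by rw [finrank_mp, h3]) h1 h2
    exact ⟨Nᵀ, hN.transpose, comm_transpose h⟩

/-- SING6, strong form. -/
theorem root6 (ρ : Representation F ↥(Zgrp F) (I27 → F)) (hρ : ρ = V F ∨ ρ = V' F) {B : Subgroup ↥(Zgrp F)}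
    (hB : ⁅B, B⁆ = B) {W : Submodule F (I27 → F)} (h6 : finrank F ↥W = 6)
    (hW : Cfsg.Agent.H163.E6.TS W) (hst : ∀ b ∈ B, ∀ w ∈ W, ρ b w ∈ W) :
    ∃ N : Matrix I27 I27 F, Dir N ∧
      ∀ b ∈ B, ((b : GL I27 F) : Matrix I27 I27 F) * N = N * ((b : GL I27 F) : Matrix I27 I27 F) := by
  rcases hρ with rfl | rfl
  · exact root6_core hB h6 (TS_of hW) hst
  · obtain ⟨h1, h2⟩ := to_dual hW hst
    obtain ⟨N, hN, h⟩ := root6_core (B := B.map (δ F)) (by rw [← Subgroup.map_commutator, hB])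
      (by rw [finrank_mp, h6]) h1 h2
    exact ⟨Nᵀ, hN.transpose, comm_transpose h⟩

/-- the linear map of a direction -/
theorem Dir.exists_lin {N : Matrix I27 I27 F} (hN : Dir N) {B : Subgroup ↥(Zgrp F)}
    (hB : ∀ b ∈ B, ((b : GL I27 F) : Matrix I27 I27 F) * N = N * ((b : GL I27 F) : Matrix I27 I27 F)) :
    ∃ n : (I27 → F) →ₗ[F] (I27 → F), n ≠ 0 ∧ (∀ x, n (n x) = 0) ∧
      (∀ t : F, ∃ z : ↥(Zgrp F), ∀ x, V F z x = x + t • n x) ∧ ∀ b ∈ B, ∀ x, V F b (n x) = n (V F b x) := by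
  refine ⟨Matrix.toLin' N, ?_, ?_, ?_, ?_⟩
  · intro h
    exact hN.ne (Matrix.toLin'.map_eq_zero_iff.1 h)
  · intro x
    rw [Matrix.toLin'_apply, Matrix.toLin'_apply, Matrix.mulVec_mulVec, hN.sq, Matrix.zero_mulVec]
  · intro t
    obtain ⟨g, hg, h⟩ := hN.mem t
    refine ⟨⟨g, hg⟩, fun x => ?_⟩
    rw [V_apply, h, Matrix.add_mulVec, Matrix.one_mulVec, Matrix.smul_mulVec, Matrix.toLin'_apply]
  · intro b hb x
    rw [V_apply, V_apply, Matrix.toLin'_apply, Matrix.toLin'_apply, Matrix.mulVec_mulVec, Matrix.mulVec_mulVec, hB b hb]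

/-- SING3, strong form. -/
theorem three_root (ρ : Representation F ↥(Zgrp F) (I27 → F)) (hρ : ρ = V F ∨ ρ = V' F) {B : Subgroup ↥(Zgrp F)}
    (hB : ∀ θ : ↥B →* GL (Fin 2) F, ∀ b, θ b = 1) {W : Submodule F (I27 → F)} (h3 : finrank F ↥W = 3)
    (hW : Cfsg.Agent.H163.E6.TS W) (hst : ∀ b ∈ B, ∀ w ∈ W, ρ b w ∈ W) :
    ∃ n : (I27 → F) →ₗ[F] (I27 → F), n ≠ 0 ∧ (∀ x, n (n x) = 0) ∧
      (∀ t : F, ∃ z : ↥(Zgrp F), ∀ x, V F z x = x + t • n x) ∧ ∀ b ∈ B, ∀ x, V F b (n x) = n (V F b x) := by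
  obtain ⟨N, hN, h⟩ := root3 ρ hρ hB h3 hW hst
  exact hN.exists_lin h

/-- SING6, strong form. -/
theorem six_root (ρ : Representation F ↥(Zgrp F) (I27 → F)) (hρ : ρ = V F ∨ ρ = V' F) {B : Subgroup ↥(Zgrp F)}
    (hB : ⁅B, B⁆ = B) {W : Submodule F (I27 → F)} (h6 : finrank F ↥W = 6)
    (hW : Cfsg.Agent.H163.E6.TS W) (hst : ∀ b ∈ B, ∀ w ∈ W, ρ b w ∈ W) :
    ∃ n : (I27 → F) →ₗ[F] (I27 → F), n ≠ 0 ∧ (∀ x, n (n x) = 0) ∧
      (∀ t : F, ∃ z : ↥(Zgrp F), ∀ x, V F z x = x + t • n x) ∧ ∀ b ∈ B, ∀ x, V F b (n x) = n (V F b x) := by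
  obtain ⟨N, hN, h⟩ := root6 ρ hρ hB h6 hW hst
  exact hN.exists_lin h

end Cfsg.Agent.H65.E6Root

namespace Cfsg.Agent.H163.E6.Sing

open Cfsg.Lie Module
open Cfsg.Agent.ChevalleyStructure.E6Min.Basic (Zgrp)
open Cfsg.Agent.ChevalleyStructure.E6Min.Adjoint (ad)

universe u

variable {F : Type u} [Field F]

/-- SING3 over the quadratic extension -/
theorem three_ext [Finite F] {E : Type u} [Field E] [Finite E] (f : F →+* E) (hE : Nat.card E = Nat.card F ^ 2)
    (j : ↥(Zgrp F) →* ↥(Zgrp E)) (hj : ∀ (g : ↥(Zgrp F)) (x : I27 → F),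
      V E (j g) (fun i => f (x i)) = fun i => f (V F g x i))
    (ρ : Representation E ↥(Zgrp E) (I27 → E)) (hρ : ρ = V E ∨ ρ = V' E) {B : Subgroup ↥(Zgrp F)}
    (hB : ∀ θ : ↥B →* GL (Fin 2) E, ∀ b, θ b = 1) {W : Submodule E (I27 → E)} (h3 : finrank E ↥W = 3) (hW : TS W)
    (hst : ∀ b ∈ B, ∀ w ∈ W, ρ (j b) w ∈ W) : ∃ z : ↥(Zgrp F), ad F z ≠ 1 ∧ ∀ b ∈ B, b * z = z * b :=
  Cfsg.Agent.H65.E6Ext.three_ext_of
    (fun ρ hρ _ hB _ h3 hW hst => Cfsg.Agent.H65.E6Root.three_root ρ hρ hB h3 hW hst) f hE j hj ρ hρ hB h3 hW hst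

end Cfsg.Agent.H163.E6.Sing

private theorem dce_a7a55f0fa1e2 : _root_.True := by
  try have : _root_.True := by simp only [_root_.Cfsg.Agent.H65.E6Root.cN.eq_1]
  exact _root_.True.intro
end

-- part: H203/E6/Strong
section
prune_inst 0x240000000000020000000582010020000800009000400800c0400a00020000600900200004001000000a34000000000000000010003800000000040000000020808250023300000424000f808080000000000000000000000000000000000004000000000
set_option linter.all false
open scoped Cfsg.Agent.FastGrp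

/-!
# Strong forms of SING6 and SING3: a whole root subgroup commutes with the group (helper203)
-/

set_option autoImplicit false

namespace Cfsg.Agent.H203.E6

open Cfsg.Lie Cfsg.Agent.ChevalleyStructure Cfsg.Agent.ChevalleyStructure.E6Form.Cubic
  Cfsg.Agent.ChevalleyStructure.E6Form.Table Cfsg.Agent.ChevalleyStructure.E6Form.Elim Module
open Cfsg.Agent.ChevalleyStructure.E6Min.Basic (Zgrp zM zU)
open Cfsg.Agent.ChevalleyStructure.E6Min.Adjoint (ad ker_ad)
open scoped commutatorElement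

universe u

variable {F : Type u} [Field F]

/-- Maximality of the standard 6-space. -/
theorem T6_facts (b : I27) (hb : b ∉ T6) : ∃ a ∈ T6, nc a b = true := by
  have h2 : (wts.all fun b => T6.contains b || T6.any fun a => nc a b) = true := by decide +kernel
  have := forall_wts h2 b
  rw [Bool.or_eq_true, List.any_eq_true] at this
  exact this.resolve_left (fun h => hb (by simpa using h))

/-- Totally singular subspaces have dimension at most six. -/
theorem finrank_le_six {W : Submodule F (I27 → F)} (hW : TS W) : finrank F W ≤ 6 := by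
  by_contra hcon
  push Not at hcon
  let bs := Module.finBasis F ↥W
  let v : Fin 6 → (I27 → F) := fun i => (bs (Fin.castLE hcon.le i) : I27 → F)
  have hv : LinearIndependent F v :=
    (bs.linearIndependent.comp _ (Fin.castLE_injective hcon.le)).map' W.subtype (Submodule.ker_subtype W)
  obtain ⟨W', hle, h6⟩ : ∃ W' : Submodule F (I27 → F), W' ≤ W ∧ finrank F ↥W' = 6 := by
    refine ⟨Submodule.span F (Set.range v), ?_, ?_⟩
    · rw [Submodule.span_le]
      rintro _ ⟨i, rfl⟩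
      exact (bs (Fin.castLE hcon.le i)).2
    · rw [finrank_span_eq_card hv, Fintype.card_fin]
  have hW' : TS W' := fun x hx => hW x (hle hx)
  obtain ⟨g, hg, hgW⟩ := exists_mp_eq hW' h6
  have h1 : mp g W ≤ W6 F := by
    intro x hx b hb
    obtain ⟨a, ha, hab⟩ := T6_facts b hb
    have h2 : e F a ∈ mp g W := by
      have h3 : e F a ∈ mp g W' := by
        rw [hgW]
        intro c hc
        exact e_ne (fun h => hc (h ▸ ha))
      rw [mem_mp] at h3 ⊢
      exact hle h3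
    exact (hW.mp hg).apply_eq_zero h2 hx hab
  have h2 := Submodule.finrank_mono h1
  rw [finrank_mp] at h2
  have := finrank_W6_le (F := F)
  omega

end Cfsg.Agent.H203.E6

namespace Cfsg.Agent.H163.E6.Sing

open Cfsg.Lie Cfsg.Agent.H203.E6 Module
open Cfsg.Agent.ChevalleyStructure.E6Form.Table (act act_mul act_one zG)
open Cfsg.Agent.ChevalleyStructure.E6Min.Basic (Zgrp)
open Cfsg.Agent.ChevalleyStructure.E6Min.Adjoint (ad ker_ad)
open Cfsg.Agent.H184.GraphE6 (gU PU PU_sq dual dual_dual dual_mem_Zgrp)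

universe u

variable {F : Type u} [Field F]

end Cfsg.Agent.H163.E6.Sing
end
end
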