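import Cfsg.Agent.KFacts.Mult.Calc
import Cfsg.Agent.OddHalf.SL.Defs
set_option linter.all false

/-!
# Central extensions of simply laced groups, any characteristic, with signs (helper65)

`SSys B Φ N x`: root elements `x r a` (`r ∈ Φ`, `a ∈ F`) with the simply laced Steinberg relations
`⁅x r a, x s b⁆ = x (r + s) (N r s * (a * b))` (`(r, s) = -1`), `N r s ≠ 0`, and `a ↦ x r a` injective.

`exists_lift`: let `π : X → L` be a central extension such that lifts of `x r a` and `x s b` commute if `(r, s) ≥ 0`;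
if the root system has "`three`" (for `(r, s) = 1` there is `m` with `(m, r) = (m, s) = 1`: rank at least 3) then the
whole system lifts. `lc_pos`, `lc_orth`: criteria for commuting lifts.
-/

set_option autoImplicit false

namespace Cfsg.Agent.H65.Laced

open scoped commutatorElement
open Cfsg.Agent.OddHalf.SL.Defs Cfsg.Agent.KFacts.Mult.Calc

variable {X L V F : Type*} [Group X] [Group L] [AddCommGroup V] [Field F]

/-- Simply laced root elements with structure constants `N`. -/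
structure SSys (B : V → V → ℤ) (Φ : Set V) (N : V → V → F) (x : V → F → L) : Prop where
  roots : Roots B Φ
  add : ∀ r ∈ Φ, ∀ a b, x r (a + b) = x r a * x r b
  inj : ∀ r ∈ Φ, ∀ a, x r a = 1 → a = 0
  ne : ∀ r ∈ Φ, ∀ s ∈ Φ, B r s = -1 → N r s ≠ 0
  comm : ∀ r ∈ Φ, ∀ s ∈ Φ, B r s = -1 → ∀ a b, ⁅x r a, x s b⁆ = x (r + s) (N r s * (a * b))
  one : ∀ r ∈ Φ, ∀ s ∈ Φ, 0 ≤ B r s → ∀ a b, Commute (x r a) (x s b)

/-- "Rank at least three". -/
def Three (B : V → V → ℤ) (Φ : Set V) : Prop :=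
  ∀ r ∈ Φ, ∀ s ∈ Φ, B r s = 1 → ∃ m ∈ Φ, B m r = 1 ∧ B m s = 1

variable {B : V → V → ℤ} {Φ : Set V} {N : V → V → F} {x : V → F → L}

namespace SSys

variable (S : SSys B Φ N x)

include S

theorem zero {r : V} (hr : r ∈ Φ) : x r 0 = 1 := by
  have h1 := S.add r hr 0 0
  rw [add_zero] at h1
  exact left_eq_mul.1 h1

theorem neg {r : V} (hr : r ∈ Φ) (a : F) : x r (-a) = (x r a)⁻¹ := by
  rw [eq_inv_iff_mul_eq_one, ← S.add r hr, neg_add_cancel, S.zero hr]

theorem injective {r : V} (hr : r ∈ Φ) {a b : F} (h : x r a = x r b) : a = b := by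
  have : x r (a + -b) = 1 := by rw [S.add r hr, S.neg hr, h, mul_inv_cancel]
  have := S.inj r hr _ this
  rwa [← sub_eq_add_neg, sub_eq_zero] at this

/-- `N` is antisymmetric. -/
theorem anti {r s : V} (hr : r ∈ Φ) (hs : s ∈ Φ) (h : B r s = -1) : N s r = - N r s := by
  have hR := S.roots
  have h' : B s r = -1 := by rw [hR.symm]; exact h
  have e1 := S.comm r hr s hs h 1 1
  have e2 := S.comm s hs r hr h' 1 1
  have e3 : ⁅x s (1 : F), x r 1⁆ = (⁅x r (1 : F), x s 1⁆)⁻¹ := (commutatorElement_inv _ _).symm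
  rw [e2, e1, ← S.neg (hR.add r hr s hs h), add_comm s r] at e3
  have e4 := S.injective (hR.add r hr s hs h) e3
  simpa using e4

section Commuting

variable {π : X →* L} (h : CE π)

include h

/-- `s = s' + d` with `x_r` commuting with `x_s'` and `x_d`. -/
theorem lc_of_dec {r s' d : V} (hr : r ∈ Φ) (hs' : s' ∈ Φ) (hd : d ∈ Φ) (h1 : B s' d = -1) (h2 : 0 ≤ B r s')
    (h3 : 0 ≤ B r d) (a b : F) : h.lc (x r a) (x (s' + d) b) = 1 := by
  have h4 := S.ne s' hs' d hd h1
  have := S.comm s' hs' d hd h1 ((N s' d)⁻¹ * b) 1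
  rw [mul_one, mul_inv_cancel_left₀ h4] at this
  rw [← this]
  exact h.lc_comm_eq_one (S.one r hr s' hs' h2 _ _) (S.one r hr d hd h3 _ _)

/-- `(r, s) = 0` and there is `d` with `(d, s) = 1`, `(d, r) = 0`. -/
theorem lc_orth {r s : V} (hr : r ∈ Φ) (hs : s ∈ Φ) (h0 : B r s = 0) {d : V} (hd : d ∈ Φ) (h1 : B d s = 1)
    (h2 : B d r = 0) (a b : F) : h.lc (x r a) (x s b) = 1 := by
  have hR := S.roots
  have hsd : s - d ∈ Φ := hR.sub_mem hs hd (by rw [hR.symm]; exact h1)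
  have e : s = (s - d) + d := by abel
  rw [e]
  have h5 := hR.two d hd
  have h4 := hR.symm s d
  have h6 := hR.symm r d
  refine S.lc_of_dec h hr hsd hd ?_ ?_ ?_ a b
  · rw [hR.sub_left]; omega
  · rw [hR.sub_right]; omega
  · omega

/-- `(r, s) > 0`. -/
theorem lc_pos (h3 : Three B Φ) (hne : ∀ r ∈ Φ, ∃ s ∈ Φ, B s r = 1) {r s : V} (hr : r ∈ Φ) (hs : s ∈ Φ)
    (h0 : 0 < B r s) (a b : F) : h.lc (x r a) (x s b) = 1 := by
  have hR := S.roots
  have h1 := hR.le r hr s hs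
  rcases (show B r s = 1 ∨ B r s = 2 by omega) with h2 | h2
  · obtain ⟨m, hm, h4, h5⟩ := h3 r hr s hs h2
    have hsm : s - m ∈ Φ := hR.sub_mem hs hm (by rw [hR.symm]; exact h5)
    have e : s = (s - m) + m := by abel
    rw [e]
    have h6 := hR.two m hm
    have h7 := hR.symm s m
    have h8 := hR.symm r m
    refine S.lc_of_dec h hr hsm hm ?_ ?_ ?_ a b
    · rw [hR.sub_left]; omega
    · rw [hR.sub_right]; omega
    · omega
  · have := hR.eq r hr s hs h2
    subst this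
    obtain ⟨m, hm, h4⟩ := hne r hr
    have hsm : r - m ∈ Φ := hR.sub_mem hr hm (by rw [hR.symm]; exact h4)
    have e : r = (r - m) + m := by abel
    have h6 := hR.two m hm
    have h8 := hR.symm r m
    have := S.lc_of_dec h hr hsm hm (by rw [hR.sub_left]; omega) (by rw [hR.sub_right]; omega) (by omega) a b
    rwa [← e] at this

end Commuting

/-! ### The lifted system -/

section Lift

variable {π : X →* L} (h : CE π) (h3 : Three B Φ)
  (hc : ∀ r ∈ Φ, ∀ s ∈ Φ, 0 ≤ B r s → ∀ a b, h.lc (x r a) (x s b) = 1)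

include h hc

theorem lc_add_left {s u : V} (hs : s ∈ Φ) (hu : u ∈ Φ) (hsu : B s u = -1) (a a' b : F) :
    h.lc (x s (a + a')) (x u b) = h.lc (x s a) (x u b) * h.lc (x s a') (x u b) := by
  have hR := S.roots
  have hr := hR.add s hs u hu hsu
  have t := hR.two s hs
  rw [S.add s hs, h.lc_mul_left', S.comm s hs u hu hsu, hc s hs _ hr (by rw [hR.add_right]; omega), one_mul]
  have : Commute (h.lc (x s a) (x u b)) (h.lc (x s a') (x u b)) := by
    apply h.commute_of_lc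
    rw [h.map_lc, h.map_lc, S.comm s hs u hu hsu, S.comm s hs u hu hsu]
    exact hc _ hr _ hr (by rw [hR.two _ hr]; norm_num) _ _
  exact this.eq.symm

theorem lc_neg_left {s u : V} (hs : s ∈ Φ) (hu : u ∈ Φ) (hsu : B s u = -1) (a b : F) :
    h.lc (x s (-a)) (x u b) = (h.lc (x s a) (x u b))⁻¹ := by
  rw [eq_inv_iff_mul_eq_one, ← S.lc_add_left h hc hs hu hsu, neg_add_cancel, S.zero hs, h.lc_one_left]

theorem lc_swap_neg {s u : V} (hs : s ∈ Φ) (hu : u ∈ Φ) (hsu : B s u = -1) (a b : F) :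
    h.lc (x u b) (x s a) = h.lc (x s (-a)) (x u b) := by
  rw [S.lc_neg_left h hc hs hu hsu, ← h.lc_swap]

/-- Hall-Witt for root elements: `s = s₁ + d`, `u₁ = u + d`, `(u, s₁) = 0`. -/
theorem move {s₁ d u : V} (hs : s₁ ∈ Φ) (hd : d ∈ Φ) (hu : u ∈ Φ) (h1 : B s₁ d = -1) (h2 : B u d = -1)
    (h0 : B u s₁ = 0) (a b c : F) :
    h.lc (x u c) (x (s₁ + d) (N s₁ d * (a * b))) = h.lc (x s₁ a) (x (u + d) (N u d * (c * b))) := by
  have hR := S.roots
  have t1 := hR.two d hd
  have y1 := hR.symm s₁ d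
  have y2 := hR.symm d u
  have hsd := hR.add _ hs _ hd h1
  have hud := hR.add _ hu _ hd h2
  have e := h.hw (a := x s₁ a) (b := x d b) (c := x u c) (S.one u hu s₁ hs h0.ge c a)
  rw [S.comm s₁ hs d hd h1, S.comm u hu d hd h2,
    hc (u + d) hud (s₁ + d) hsd (by rw [hR.add_left, hR.add_right, hR.add_right]; omega), mul_one] at e
  exact e

include h3

/-- `[x̂_s(a), x̂_u(b)]` depends only on `a b`. -/
theorem lc_prod {s u : V} (hs : s ∈ Φ) (hu : u ∈ Φ) (hsu : B s u = -1) (a b : F) :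
    h.lc (x s a) (x u b) = h.lc (x s (a * b)) (x u 1) := by
  have hR := S.roots
  -- `m` with `(m, u) = 1`, `(m, -s) = 1`
  obtain ⟨d, hd, h4, h5⟩ := h3 u hu (-s) (hR.neg_mem s hs) (by rw [hR.neg_right, hR.symm, hsu]; norm_num)
  rw [hR.neg_right] at h5
  have y1 := hR.symm s d
  have y2 := hR.symm u d
  have y3 := hR.symm u s
  have t1 := hR.two d hd
  have hu1 : u - d ∈ Φ := hR.sub_mem hu hd (by omega)
  have e : u = (u - d) + d := by abel
  have hud : B (u - d) d = -1 := by rw [hR.sub_left]; omega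
  have hn := S.ne _ hu1 _ hd hud
  have key := fun a b c => S.move h hc hu1 hd hs hud (by omega) (by rw [hR.sub_right]; omega) a b c
  rw [← e] at key
  -- `key a b c : [x_s c, x_u (N a b)] = [x_{u-d} a, x_{s+d} (N c b)]`
  have k1 := key ((N (u - d) d)⁻¹) b a
  have k2 := key ((N (u - d) d)⁻¹) 1 (a * b)
  rw [mul_inv_cancel_left₀ hn] at k1
  rw [mul_one, mul_inv_cancel₀ hn, mul_one] at k2
  rw [k1, k2]

theorem lc_indep_aux {s u s' u' : V} (hs : s ∈ Φ) (hu : u ∈ Φ) (hsu : B s u = -1) (hs' : s' ∈ Φ) (hu' : u' ∈ Φ)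
    (hsu' : B s' u' = -1) (e : s + u = s' + u') (h0 : B s s' = 1) (a a' : F) (ha : N s u * a = N s' u' * a') :
    h.lc (x s a) (x u 1) = h.lc (x s' a') (x u' 1) := by
  have hR := S.roots
  have t1 := hR.two s hs
  have t2 := hR.two s' hs'
  have t3 := hR.two u hu
  have y1 := hR.symm s s'
  have y2 := hR.symm u s'
  have y3 := hR.symm s u
  have hr : B (s + u) s' = 1 := by rw [e, hR.add_left, hR.symm u']; omega
  rw [hR.add_left] at hr
  have hrΦ := hR.add s hs u hu hsu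
  -- `s = s' + d`, `u' = u + d`
  have hd : s - s' ∈ Φ := hR.sub_mem hs hs' h0
  have e1 : s' + (s - s') = s := by abel
  have e2 : u + (s - s') = u' := by
    have : u' = s + u - s' := by rw [e]; abel
    rw [this]; abel
  have hsd : B s' (s - s') = -1 := by rw [hR.sub_right]; omega
  have hud : B u (s - s') = -1 := by rw [hR.sub_right]; omega
  have key := S.move h hc hs' hd hu hsd hud (by omega) ((N s' (s - s'))⁻¹ * a) 1 (-1)
  have hn := S.ne _ hs' _ hd hsd
  rw [e1, e2, mul_one, mul_inv_cancel_left₀ hn, mul_one] at key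
  -- `key : [x_u (-1), x_s a] = [x_s' (N⁻¹ a), x_u' (N * -1)]`
  rw [S.lc_prod h h3 hc hs' hu' hsu', S.lc_swap_neg h hc hs hu hsu, S.lc_prod h h3 hc hs hu hsu] at key
  rw [neg_mul_neg, mul_one] at key
  rw [key]
  congr 2
  -- compare in `L`
  have hπ := congrArg π key
  rw [h.map_lc, h.map_lc, S.comm s hs u hu hsu, S.comm s' hs' u' hu' hsu', ← e] at hπ
  have := S.injective hrΦ hπ
  rw [mul_one, mul_one, ha] at this
  exact (mul_left_cancel₀ (S.ne s' hs' u' hu' hsu') this).symm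

theorem lc_indep {s u s' u' : V} (hs : s ∈ Φ) (hu : u ∈ Φ) (hsu : B s u = -1) (hs' : s' ∈ Φ) (hu' : u' ∈ Φ)
    (hsu' : B s' u' = -1) (e : s + u = s' + u') (a a' : F) (ha : N s u * a = N s' u' * a') :
    h.lc (x s a) (x u 1) = h.lc (x s' a') (x u' 1) := by
  have hR := S.roots
  have t1 := hR.two s hs
  have t2 := hR.two s' hs'
  have t3 := hR.two u hu
  have y1 := hR.symm s s'
  have y2 := hR.symm u s'
  have y3 := hR.symm s u
  have b1 := hR.le s hs s' hs'
  have b2 := hR.ge hu hs'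
  have hr : B (s + u) s' = 1 := by rw [e, hR.add_left, hR.symm u']; omega
  rw [hR.add_left] at hr
  have b3 := hR.le u hu s' hs'
  -- the swap
  have swap : h.lc (x s a) (x u 1) = h.lc (x u (-a)) (x s 1) := by
    have h1 : B u s = -1 := by omega
    rw [S.lc_swap_neg h hc hu hs h1, S.lc_prod h h3 hc hu hs h1, neg_one_mul]
  have ha' : N u s * (-a) = N s' u' * a' := by rw [S.anti hs hu hsu, neg_mul_neg, ha]
  -- `(s, s') + (u, s') = 1`
  have cases : B s s' = 2 ∨ B s s' = 1 ∨ B s s' = 0 ∨ B s s' = -1 := by omega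
  rcases cases with h0 | h0 | h0 | h0
  · have := hR.eq s hs s' hs' h0
    subst this
    have := add_left_cancel e
    subst this
    rw [mul_left_cancel₀ (S.ne s hs u hu hsu) ha]
  · exact S.lc_indep_aux h h3 hc hs hu hsu hs' hu' hsu' e h0 a a' ha
  · rw [swap]
    exact S.lc_indep_aux h h3 hc hu hs (by omega) hs' hu' hsu' (by rw [add_comm]; exact e) (by omega) _ _ ha'
  · have hus : u = s' := hR.eq u hu s' hs' (by omega)
    subst hus
    have hsu2 : s = u' := by
      have e1 : s + u = u' + u := by rw [e]; abel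
      exact add_right_cancel e1
    subst hsu2
    rw [swap, mul_left_cancel₀ (S.ne u hu s hs (by omega)) ha']

/-- **The lifting theorem.** -/
theorem exists_lift (hne : ∀ r ∈ Φ, ∃ s ∈ Φ, B s r = 1) :
    ∃ T : V → F → X, SSys B Φ N T ∧ ∀ r ∈ Φ, ∀ a, π (T r a) = x r a := by
  classical
  have hR := S.roots
  have hdec : ∀ r : V, ∃ s u : V, r ∈ Φ → (s ∈ Φ ∧ u ∈ Φ ∧ B s u = -1 ∧ s + u = r) := by
    intro r
    by_cases hr : r ∈ Φ
    · obtain ⟨s, hs, h1⟩ := hne r hr
      refine ⟨s, r - s, fun _ => ⟨hs, hR.sub_mem hr hs (by rw [hR.symm]; exact h1), ?_, by abel⟩⟩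
      rw [hR.sub_right, hR.two s hs]; omega
    · exact ⟨0, 0, fun h => absurd h hr⟩
  choose s0 u0 h0 using hdec
  refine ⟨fun r a => h.lc (x (s0 r) ((N (s0 r) (u0 r))⁻¹ * a)) (x (u0 r) 1), ?_⟩
  have hT : ∀ s ∈ Φ, ∀ u ∈ Φ, B s u = -1 → ∀ a b,
      h.lc (x s a) (x u b) = h.lc (x (s0 (s + u)) ((N (s0 (s + u)) (u0 (s + u)))⁻¹ * (N s u * (a * b))))
        (x (u0 (s + u)) 1) := by
    intro s hs u hu hsu a b
    have hr := hR.add s hs u hu hsu
    obtain ⟨h4, h5, h6, h7⟩ := h0 _ hr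
    rw [S.lc_prod h h3 hc hs hu hsu]
    exact S.lc_indep h h3 hc hs hu hsu h4 h5 h6 h7.symm _ _
      (by rw [mul_inv_cancel_left₀ (S.ne _ h4 _ h5 h6)])
  have hmap : ∀ r ∈ Φ, ∀ a, π (h.lc (x (s0 r) ((N (s0 r) (u0 r))⁻¹ * a)) (x (u0 r) 1)) = x r a := by
    intro r hr a
    obtain ⟨h4, h5, h6, h7⟩ := h0 _ hr
    rw [h.map_lc, S.comm _ h4 _ h5 h6, h7, mul_one, mul_inv_cancel_left₀ (S.ne _ h4 _ h5 h6)]
  refine ⟨⟨hR, ?_, ?_, S.ne, ?_, ?_⟩, hmap⟩
  · intro r hr a b
    obtain ⟨h4, h5, h6, h7⟩ := h0 _ hr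
    show h.lc _ _ = h.lc _ _ * h.lc _ _
    rw [mul_add]
    exact S.lc_add_left h hc h4 h5 h6 _ _ 1
  · intro r hr a ha
    apply S.inj r hr
    have := congrArg π ha
    rwa [hmap r hr, map_one] at this
  · intro r hr s hs hrs a b
    show ⁅_, _⁆ = _
    rw [h.comm_eq, hmap r hr, hmap s hs, hT r hr s hs hrs]
  · intro r hr s hs hrs a b
    apply h.commute_of_lc
    rw [hmap r hr, hmap s hs]
    exact hc r hr s hs hrs a b

end Lift

end SSys

end Cfsg.Agent.H65.Laced
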